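import Cfsg.Agent.HallJanko.Invol

/-!
# With one class of involutions, some involution of `C(z)` lies outside `Q`

Otherwise take a non-central involution `u = g z g⁻¹` of `Q`. The groups `A = Q ∩ C(u)` and
`B = gQg⁻¹ ∩ C(z)` commute modulo `⟨z, u⟩`, no element outside `Q` centralises `A` modulo `z`,
and by symmetry none outside `gQg⁻¹` centralises `B` modulo `u`. So some `x ∈ A`, `y ∈ B` have
commutator `zu`, and then `xy` is an involution outside `Q`.
-/

set_option autoImplicit false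
set_option linter.style.haveILetI false

namespace CfsgLib.HallJanko

variable {G : Type*} [Group G] {z : G} {Q : Subgroup G}

namespace Frame

variable (h : PreCore z Q) (F : Frame z Q)
include h F

/-- The non-central involutions of `Q` are those of the five pairs. -/
theorem eqz_a_of_invol {u : G} (hu : u ∈ Q) (hu2 : u * u = 1) (hu1 : u ≠ 1) (huz : u ≠ z) :
    ∃ f, Eqz z u (F.a f) := by
  rcases F.cover u hu with (e | e) | e | ⟨i, j, hij, e⟩
  · exact absurd e hu1
  · exact absurd (e.trans (one_mul z)) huz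
  · exact e
  · have := h.eqz_sq (Q.mul_mem (F.mem i) (F.mem j)) e
    rw [hu2, F.sq4 h i j hij] at this
    exact absurd this.symm h.z_ne_one

/-- The elements of `Q` centralising a non-central involution `u` and squaring to `1`. -/
theorem four_of_sq_one {u : G} (hu : u ∈ Q) (hu2 : u * u = 1) (hu1 : u ≠ 1) (huz : u ≠ z)
    {d : G} (hd : d ∈ Q) (hdu : d * u = u * d) (hd2 : d * d = 1) :
    Eqz z d 1 ∨ Eqz z d u := by
  obtain ⟨f, hf⟩ := F.eqz_a_of_invol h hu hu2 hu1 huz
  have hdf : F.a f * d = d * F.a f := ((h.eqz_comm hd hf).1 hdu).symm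
  rcases F.centralizer_a h f hd hdf with e | e | ⟨i, j, hij, -, -, e⟩
  · exact Or.inl e
  · exact Or.inr (h.eqz_trans e (h.eqz_symm hf))
  · have := h.eqz_sq (Q.mul_mem (F.mem i) (F.mem j)) e
    rw [hd2, F.sq4 h i j hij] at this
    exact absurd this.symm h.z_ne_one

/-- Only the elements of `Q` centralise `C_Q(u)` modulo `z`. -/
theorem exists_moved {u : G} (hu : u ∈ Q) (hu2 : u * u = 1) (hu1 : u ≠ 1) (huz : u ≠ z)
    {y : G} (hy : y * z = z * y) (hyu : y * u = u * y) (hyQ : y ∉ Q) :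
    ∃ x ∈ Q, x * u = u * x ∧ x * x = z ∧ ¬ Eqz z (y * x * y⁻¹) x := by
  obtain ⟨f, hf⟩ := F.eqz_a_of_invol h hu hu2 hu1 huz
  obtain ⟨σ, hσ⟩ : ∃ σ : Equiv.Perm (Fin 5), σ = (F.p hy : Equiv.Perm (Fin 5)) := ⟨_, rfl⟩
  have hσf : σ f = f := by
    have e1 : Eqz z u (F.a (σ f)) := by
      refine h.eqz_trans ?_ (hσ ▸ F.act ⟨y, Subgroup.mem_centralizer_singleton_iff.2 hy⟩ f)
      have e2 := h.eqz_conj (g := y) hy hf
      rwa [hyu, mul_inv_cancel_right] at e2
    exact F.dist _ _ (h.eqz_trans (h.eqz_symm e1) hf)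
  by_contra! hall
  have hpair : ∀ i j, i ≠ j → i ≠ f → j ≠ f → σ i = i ∨ σ i = j := by
    intro i j hij hif hjf
    have hm : F.a i * F.a j ∈ Q := Q.mul_mem (F.mem i) (F.mem j)
    have hc : F.a f * (F.a i * F.a j) = F.a i * F.a j * F.a f :=
      h.nc_mul (F.mem j) (F.nc f i hif.symm) (F.nc f j hjf.symm)
    have e := hall _ hm ((h.eqz_comm hm hf).2 hc.symm) (F.sq4 h i j hij)
    have e' := h.eqz_trans (h.eqz_symm (F.act_mul h hy i j)) e
    rw [← hσ] at e'
    exact (F.pair _ _ _ _ (fun e'' => hij (σ.injective e'')) hij e').imp (·.1) (·.1)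
  have hid : σ = 1 := by
    refine Equiv.ext fun i => ?_
    rw [Equiv.Perm.one_apply]
    rcases eq_or_ne i f with rfl | hif
    · exact hσf
    obtain ⟨j, k, hjk, hji, hki, hjf, hkf⟩ : ∃ j k : Fin 5, j ≠ k ∧ j ≠ i ∧ k ≠ i ∧ j ≠ f ∧
        k ≠ f := by
      have : ∀ i f : Fin 5, ∃ j k : Fin 5, j ≠ k ∧ j ≠ i ∧ k ≠ i ∧ j ≠ f ∧ k ≠ f := by decide
      exact this i f
    rcases hpair i j hji.symm hif hjf with e | e
    · exact e
    rcases hpair i k hki.symm hif hkf with e' | e'
    · exact e'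
    · exact absurd (e.symm.trans e') hjk
  exact hyQ ((F.ker_p h hy).1 (Subtype.ext (hσ.symm.trans hid)))

end Frame

namespace PreCore

variable [Finite G] (h : PreCore z Q)
include h

omit [Finite G] h in
theorem conj_sq {g x : G} : g * x * g⁻¹ * (g * x * g⁻¹) = g * (x * x) * g⁻¹ := by group

omit [Finite G] h in
theorem commute_conj {g x y : G} (e : x * y = y * x) :
    g * x * g⁻¹ * (g * y * g⁻¹) = g * y * g⁻¹ * (g * x * g⁻¹) := by
  rw [show g * x * g⁻¹ * (g * y * g⁻¹) = g * (x * y) * g⁻¹ by group, e]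
  group

/-- With one class of involutions some involution of `C(z)` lies outside `Q`. -/
theorem exists_outside_of_one [IsSimpleGroup G]
    (hone : ∀ x y : G, orderOf x = 2 → orderOf y = 2 → IsConj x y) :
    ∃ t, t * z = z * t ∧ t * t = 1 ∧ t ∉ Q := by
  by_contra! hall
  obtain ⟨F⟩ := h.exists_frame
  obtain ⟨u, hudef⟩ : ∃ u, u = F.a 0 := ⟨_, rfl⟩
  have hu : u ∈ Q := hudef ▸ F.mem 0
  have hu2 : u * u = 1 := hudef ▸ F.sq 0
  have hu1 : u ≠ 1 := hudef ▸ F.ne_one 0
  have huz : u ≠ z := hudef ▸ F.ne_z 0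
  have hzu : u * z = z * u := h.hQC u hu
  obtain ⟨g, hg⟩ := isConj_iff.1 (hone z u h.hz (orderOf_eq_prime (by rwa [pow_two]) hu1))
  -- `z'` is `z` seen from `u`
  obtain ⟨z', hz'def⟩ : ∃ z', z' = g⁻¹ * z * g := ⟨_, rfl⟩
  have hgz' : g * z' * g⁻¹ = z := by rw [hz'def]; group
  have hback : ∀ k : G, k * u = u * k → (g⁻¹ * k * g) * z = z * (g⁻¹ * k * g) := fun k e => by
    have := commute_conj (g := g⁻¹) e
    rwa [inv_inv, show g⁻¹ * u * g = z by rw [← hg]; group] at this
  have hback' : ∀ k : G, k * z = z * k → (g⁻¹ * k * g) * z' = z' * (g⁻¹ * k * g) := fun k e => by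
    have := commute_conj (g := g⁻¹) e
    rwa [inv_inv, ← hz'def] at this
  have hz'2 : z' * z' = 1 := by
    rw [hz'def, show g⁻¹ * z * g * (g⁻¹ * z * g) = g⁻¹ * (z * z) * g by group, h.zz]; group
  have hz' : z' ∈ Q := hz'def ▸ hall _ (hback z hzu.symm) (hz'def ▸ hz'2)
  have hz'1 : z' ≠ 1 := fun e => h.z_ne_one (by rw [← hgz', e, mul_one, mul_inv_cancel])
  have hz'z : z' ≠ z := fun e => huz (by rw [← hg, ← e, hgz', e])
  -- an element of `C_Q(u)` of square `z`
  obtain ⟨x, hxQ, hxu, hx2⟩ : ∃ x, x ∈ Q ∧ x * u = u * x ∧ x * x = z :=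
    ⟨F.a 1 * F.a 2, Q.mul_mem (F.mem 1) (F.mem 2),
      hudef ▸ (h.nc_mul (F.mem 2) (F.nc 0 1 (by decide)) (F.nc 0 2 (by decide))).symm,
      F.sq4 h 1 2 (by decide)⟩
  have hxz := h.hQC x hxQ
  have hXQ : g⁻¹ * x * g ∉ Q := fun hX => by
    rcases h.hsq _ hX with e | e <;>
      rw [show g⁻¹ * x * g * (g⁻¹ * x * g) = g⁻¹ * (x * x) * g by group, hx2, ← hz'def] at e
    exacts [hz'1 e, hz'z e]
  -- an element of `C(z) ∩ gQg⁻¹` of square `u`, not centralised by `x` modulo `u`
  obtain ⟨Y, hYQ, hYz', hY2, hYx⟩ :=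
    F.exists_moved h hz' hz'2 hz'1 hz'z (hback x hxu) (hback' x hxz) hXQ
  obtain ⟨y, hydef⟩ : ∃ y, y = g * Y * g⁻¹ := ⟨_, rfl⟩
  have hgy : g⁻¹ * y * g = Y := by rw [hydef]; group
  have hyu : y * u = u * y := by rw [hydef, ← hg]; exact commute_conj (h.hQC Y hYQ)
  have hyz : y * z = z * y := by
    have := commute_conj (g := g) hYz'
    rwa [hgz', ← hydef] at this
  have hy2 : y * y = u := by rw [hydef, conj_sq, hY2, hg]
  have hyQ : y ∉ Q := fun hy => by
    rcases h.hsq y hy with e | e <;> rw [hy2] at e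
    exacts [hu1 e, huz e]
  -- the possible commutators
  have key : ∀ a, a ∈ Q → a * u = u * a → a * a = z →
      y * a * y⁻¹ = a ∨ y * a * y⁻¹ = z * a ∨ y * a * y⁻¹ = u * a := by
    intro a haQ hau ha2
    have haz := h.hQC a haQ
    obtain ⟨d, hd⟩ : ∃ d, d = y * a * y⁻¹ * a⁻¹ := ⟨_, rfl⟩
    have hda : y * a * y⁻¹ = d * a := by rw [hd]; group
    have hdQ : d ∈ Q := hd ▸ Q.mul_mem (h.hn y hyz a haQ) (Q.inv_mem haQ)
    have hdQ' : g⁻¹ * d * g ∈ Q := by
      rw [show g⁻¹ * d * g = g⁻¹ * y * g *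
        ((g⁻¹ * a * g) * (g⁻¹ * y * g)⁻¹ * (g⁻¹ * a * g)⁻¹) by rw [hd]; group, hgy]
      exact Q.mul_mem hYQ (h.hn _ (hback a hau) _ (Q.inv_mem hYQ))
    have hd2 : d * d = 1 := by
      refine (h.hsq d hdQ).resolve_right fun e => ?_
      rcases h.hsq _ hdQ' with e' | e' <;>
        rw [show g⁻¹ * d * g * (g⁻¹ * d * g) = g⁻¹ * (d * d) * g by group, e, ← hz'def] at e'
      exacts [hz'1 e', hz'z e']
    have hdu : d * u = u * d := hd ▸
      ((((show Commute y u from hyu).mul_left hau).mul_left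
        (show Commute y u from hyu).inv_left).mul_left (show Commute a u from hau).inv_left).eq
    have hE : d = 1 ∨ d = z ∨ d = u ∨ d = u * z := by
      rcases F.four_of_sq_one h hu hu2 hu1 huz hdQ hdu hd2 with (e | e) | (e | e)
      exacts [Or.inl e, Or.inr (Or.inl (e.trans (one_mul z))), Or.inr (Or.inr (Or.inl e)),
        Or.inr (Or.inr (Or.inr e))]
    rcases hE with e | e | e | e
    · exact Or.inl (by rw [hda, e, one_mul])
    · exact Or.inr (Or.inl (by rw [hda, e]))
    · exact Or.inr (Or.inr (by rw [hda, e]))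
    · exfalso
      have hcz : u * z * a = a * (u * z) :=
        ((show Commute a u from hau).mul_right haz).symm.eq
      have hsq : a * y * (a * y) = 1 := by
        calc a * y * (a * y) = a * (y * a * y⁻¹) * (y * y) := by group
          _ = a * (a * (u * z)) * u := by rw [hda, e, hcz, hy2]
          _ = z * (u * z) * u := by rw [← mul_assoc a a, ha2]
          _ = u * (z * z) * u := by rw [← mul_assoc z u z, ← hzu]; group
          _ = 1 := by rw [h.zz, mul_one, hu2]
      have hay := hall _ ((show Commute a z from haz).mul_left hyz).eq hsq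
      exact hyQ (by simpa using Q.mul_mem (Q.inv_mem haQ) hay)
  -- `x` gives the commutator `z`
  have hxy : y * x * y⁻¹ = z * x := by
    rcases key x hxQ hxu hx2 with e | e | e
    · refine absurd (Or.inl ?_) hYx
      have e' : x * y = y * x := by rw [mul_inv_eq_iff_eq_mul] at e; exact e.symm
      rw [← hgy, show g⁻¹ * x * g * (g⁻¹ * y * g) * (g⁻¹ * x * g)⁻¹ = g⁻¹ * (x * y * x⁻¹) * g by
        group, e', mul_inv_cancel_right]
    · exact e
    · refine absurd (Or.inr ?_) hYx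
      have e' : x * y * x⁻¹ = u * y := by
        rw [mul_inv_eq_iff_eq_mul] at e
        calc x * y * x⁻¹ = u * u * x * y * x⁻¹ := by rw [hu2, one_mul]
          _ = u * (u * x * y) * x⁻¹ := by group
          _ = _ := by rw [← e]; group
      rw [← hgy, show g⁻¹ * x * g * (g⁻¹ * y * g) * (g⁻¹ * x * g)⁻¹ = g⁻¹ * (x * y * x⁻¹) * g by
        group, e', ← hyu, show g⁻¹ * (y * u) * g = g⁻¹ * y * g * (g⁻¹ * u * g) by group]
      rw [← hg]; group
  -- another element gives the commutator `u`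
  obtain ⟨a, haQ, hau, ha2, hay⟩ := F.exists_moved h hu hu2 hu1 huz hyz hyu hyQ
  have haz := h.hQC a haQ
  have hay' : y * a * y⁻¹ = u * a := by
    rcases key a haQ hau ha2 with e | e | e
    exacts [absurd (Or.inl e) hay, absurd (Or.inr (e.trans haz.symm)) hay, e]
  have hxa : y * (x * a) * y⁻¹ = u * z * (x * a) := by
    rw [show y * (x * a) * y⁻¹ = y * x * y⁻¹ * (y * a * y⁻¹) by group, hxy, hay',
      mul_assoc z x, ← mul_assoc x u a, hxu, mul_assoc u x a, ← mul_assoc, hzu]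
  have hxaQ : x * a ∈ Q := Q.mul_mem hxQ haQ
  have hxau : x * a * u = u * (x * a) := ((show Commute x u from hxu).mul_left hau).eq
  have hzune : u * z ≠ 1 := fun e => huz (by
    rw [← mul_one u, ← h.zz, ← mul_assoc, e, one_mul])
  rcases h.hsq _ hxaQ with e2 | e2
  · have hc : y * (x * a) = x * a * y := by
      rcases F.four_of_sq_one h hu hu2 hu1 huz hxaQ hxau e2 with (e | e) | (e | e) <;> rw [e]
      · simp
      · simpa using hyz
      · exact hyu
      · exact ((show Commute y u from hyu).mul_right hyz).eq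
    rw [hc, mul_inv_cancel_right] at hxa
    exact hzune (mul_eq_right.1 hxa.symm)
  · rcases key _ hxaQ hxau e2 with e | e | e <;> rw [hxa] at e
    · exact hzune (mul_eq_right.1 e)
    · exact hu1 (mul_eq_right.1 (mul_right_cancel e))
    · exact h.z_ne_one (mul_eq_left.1 (mul_right_cancel e))

end PreCore

end CfsgLib.HallJanko
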