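import Cfsg.Agent.JThree.Basic
import Cfsg.Agent.JThree.Outside
import Cfsg.Agent.TwoThreeFive.Basic

/-!
# An involution of `C(z)` inverting `s` and moving `u` to `a`

An element of order 3 and an involution of `C(z)` whose product has order 5 modulo `Q` generate,
modulo `z`, a complement of `Q`. A conjugate of it contains `s` and `t`, and with them the
involution looked for.
-/

set_option autoImplicit false
set_option linter.style.haveILetI false

namespace CfsgLib.JThree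

open CfsgLib.HallJanko

namespace AltB

local notation "A5" => alternatingGroup (Fin 5)
local notation "S5" => Equiv.Perm (Fin 5)

theorem exists_five_mate : ∀ r : A5, r ≠ 1 → r * r * r = 1 → ∃ x : A5, x ≠ 1 ∧ x * x = 1 ∧
    r⁻¹ * x ≠ 1 ∧ (r⁻¹ * x) * (r⁻¹ * x) * (r⁻¹ * x) * (r⁻¹ * x) * (r⁻¹ * x) = 1 := by
  decide +kernel

theorem exists_swap : ∀ r : A5, r ≠ 1 → r * r * r = 1 → ∀ t : A5, t ≠ 1 → t * t = 1 →
    ∀ f : Fin 5, (r : S5) f = f → (t : S5) f = f → ∀ j : Fin 5, (r : S5) j = j → j ≠ f →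
    ∃ β : A5, β ≠ 1 ∧ β * β = 1 ∧ β * r * β⁻¹ * r = 1 ∧ (β : S5) f = j ∧
      (β * t) * (β * t) * (β * t) = 1 := by
  decide +kernel

theorem pair_cases : ∀ t : A5, t ≠ 1 → t * t = 1 → ∀ f : Fin 5, (t : S5) f = f →
    ∀ j i k : Fin 5, j ≠ f → i ≠ f → k ≠ f → i ≠ k →
    (((t : S5) i = i ∧ (t : S5) k = k) ∨ ((t : S5) i = k ∧ (t : S5) k = i)) →
    ((i = (t : S5) j ∧ k = j) ∨ (i = j ∧ k = (t : S5) j) ∨
      (i ≠ (t : S5) j ∧ i ≠ j ∧ k ≠ (t : S5) j ∧ k ≠ j ∧ (t : S5) j ≠ j ∧ (t : S5) j ≠ f)) := by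
  decide +kernel

end AltB

variable {G : Type*} [Group G] {z : G} {Q : Subgroup G}

theorem five_cases : ∀ p q r i k : Fin 5, p ≠ q → p ≠ r → q ≠ r → i ≠ k → i ≠ p → i ≠ q → i ≠ r →
    k ≠ p → k ≠ q → k ≠ r → ∀ l, l = p ∨ l = q ∨ l = r ∨ l = i ∨ l = k := by
  decide +kernel

/-- The product of the five involutions `a i` is central. -/
theorem five_prod (h : PreCore z Q) (F : Frame z Q) {p q r i k : Fin 5} (hpq : p ≠ q) (hpr : p ≠ r)
    (hqr : q ≠ r) (hik : i ≠ k) (hip : i ≠ p) (hiq : i ≠ q) (hir : i ≠ r) (hkp : k ≠ p)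
    (hkq : k ≠ q) (hkr : k ≠ r) :
    Eqz z (F.a i * F.a k) (F.a p * F.a q * F.a r) := by
  obtain ⟨D, hD⟩ : ∃ D, D = F.a p * F.a q * F.a r * (F.a i * F.a k) := ⟨_, rfl⟩
  have hDQ : D ∈ Q := hD ▸ Q.mul_mem (Q.mul_mem (Q.mul_mem (F.mem p) (F.mem q)) (F.mem r))
    (Q.mul_mem (F.mem i) (F.mem k))
  -- a product of two commutes with a further one
  have hc2 : ∀ {l m n : Fin 5}, l ≠ m → l ≠ n → Commute (F.a l) (F.a m * F.a n) := fun h1 h2 =>
    h.nc_mul (F.mem _) (F.nc _ _ h1) (F.nc _ _ h2)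
  have hz : ∀ l, Commute (F.a l) z := fun l => h.hQC _ (F.mem l)
  have hzz : z * z = 1 := h.zz
  have hl : ∀ l, Commute (F.a l) D := by
    intro l
    rcases five_cases p q r i k hpq hpr hqr hik hip hiq hir hkp hkq hkr l with
      rfl | rfl | rfl | rfl | rfl
    · rw [hD, mul_assoc (F.a l)]
      exact ((Commute.refl _).mul_right (hc2 hpq hpr)).mul_right (hc2 hip.symm hkp.symm)
    · have e : D = F.a p * F.a r * F.a l * z * (F.a i * F.a k) := by
        rw [hD, mul_assoc (F.a p), F.nc l r hqr]; group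
      rw [e]
      exact (((hc2 hpq.symm hqr).mul_right (Commute.refl _)).mul_right (hz l)).mul_right
        (hc2 hiq.symm hkq.symm)
    · rw [hD]
      exact ((hc2 hpr.symm hqr.symm).mul_right (Commute.refl _)).mul_right (hc2 hir.symm hkr.symm)
    · have e : D = F.a p * F.a q * (F.a r * F.a k) * F.a l * z := by
        rw [hD, F.nc l k hik]; group
      rw [e]
      exact (((hc2 hip hiq).mul_right (hc2 hir hik)).mul_right (Commute.refl _)).mul_right (hz l)
    · have e : D = F.a p * F.a q * (F.a r * F.a i) * F.a l := by rw [hD]; group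
      rw [e]
      exact ((hc2 hkp hkq).mul_right (hc2 hkr hik.symm)).mul_right (Commute.refl _)
  have hcen : ∀ w ∈ Q, D * w = w * D := by
    intro w hw
    have hDz : Commute D z := h.hQC D hDQ
    rcases F.cover w hw with e | ⟨l, e⟩ | ⟨l, m, -, e⟩
    · rcases e with e | e <;> rw [e]
      · rw [mul_one, one_mul]
      · rw [one_mul]; exact hDz.eq
    · rcases e with e | e <;> rw [e]
      · exact (hl l).symm.eq
      · exact ((hl l).symm.mul_right hDz).eq
    · rcases e with e | e <;> rw [e]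
      · exact ((hl l).symm.mul_right (hl m).symm).eq
      · exact (((hl l).symm.mul_right (hl m).symm).mul_right hDz).eq
  have hPQ : F.a p * F.a q * F.a r ∈ Q := Q.mul_mem (Q.mul_mem (F.mem p) (F.mem q)) (F.mem r)
  obtain ⟨P, hP⟩ : ∃ P, P = F.a p * F.a q * F.a r := ⟨_, rfl⟩
  rw [← hP] at hPQ ⊢
  rw [← hP] at hD
  have hzc : Commute P z := h.hQC P hPQ
  have hPi : Eqz z P⁻¹ P := by
    rcases h.hsq P hPQ with e | e
    · exact Or.inl (inv_eq_of_mul_eq_one_left e)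
    · exact Or.inr (inv_eq_of_mul_eq_one_left (by
        rw [mul_assoc, hzc.symm.eq, ← mul_assoc, e, hzz]))
  refine h.eqz_trans ?_ hPi
  rcases h.hcenter D hDQ hcen with e | e
  · exact Or.inl (by
      calc F.a i * F.a k = P⁻¹ * D := by rw [hD]; group
        _ = P⁻¹ := by rw [e, mul_one])
  · exact Or.inr (by
      calc F.a i * F.a k = P⁻¹ * D := by rw [hD]; group
        _ = P⁻¹ * z := by rw [e])

/-- A subgroup of `C(z)` meeting `Q` in `⟨z⟩` and covering the involutions of the quotient. -/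
structure Compl (F : Frame z Q) (s : G) (H : Subgroup G) : Prop where
  le : ∀ g ∈ H, g * z = z * g
  zmem : z ∈ H
  smem : s ∈ H
  inter : ∀ g ∈ H, g ∈ Q → Eqz z g 1
  lift : ∀ σ : alternatingGroup (Fin 5), σ ≠ 1 → σ * σ = 1 →
    ∃ g ∈ H, ∃ hg : g * z = z * g, g * g = 1 ∧ F.p hg = σ

/-- Conjugating by an element of `Q` centralising `s`. -/
theorem Compl.conj (h : PreCore z Q) {F : Frame z Q} {s : G} {H : Subgroup G}
    (c : Compl F s H) {d : G} (hd : d ∈ Q) (hds : d * s = s * d) :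
    Compl F s (H.map (MulAut.conj d).toMonoidHom) := by
  have hdz : Commute d z := h.hQC d hd
  have hcz : ∀ g : G, g * z = z * g → d * g * d⁻¹ * z = z * (d * g * d⁻¹) := fun g hg =>
    ((hdz.mul_left hg).mul_left hdz.inv_left).eq
  refine ⟨?_, ⟨z, c.zmem, ?_⟩, ⟨s, c.smem, ?_⟩, ?_, fun σ h1 h2 => ?_⟩
  · rintro _ ⟨g, hg, rfl⟩
    exact hcz g (c.le g hg)
  · exact mul_inv_eq_of_eq_mul hdz.eq
  · exact mul_inv_eq_of_eq_mul hds
  · rintro _ ⟨g, hg, rfl⟩ hgQ
    have hgQ' : g ∈ Q := by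
      have := Q.mul_mem (Q.mul_mem (Q.inv_mem hd) hgQ) hd
      rwa [MulEquiv.coe_toMonoidHom, MulAut.conj_apply,
        show d⁻¹ * (d * g * d⁻¹) * d = g by group] at this
    rcases c.inter g hg hgQ' with e | e <;> rw [e]
    · exact Or.inl (map_one _)
    · exact Or.inr (by
        rw [one_mul]
        exact mul_inv_eq_of_eq_mul hdz.eq)
  · obtain ⟨g, hg, hgz, hg2, hgσ⟩ := c.lift σ h1 h2
    refine ⟨d * g * d⁻¹, ⟨g, hg, rfl⟩, hcz g hgz, ?_, ?_⟩
    · rw [show d * g * d⁻¹ * (d * g * d⁻¹) = d * (g * g) * d⁻¹ by group, hg2, mul_one,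
        mul_inv_cancel]
    · have hπd : F.p hdz.eq = 1 := (F.ker _).2 hd
      calc F.p (hcz g hgz) = F.p hdz.eq * F.p hgz * (F.p hdz.eq)⁻¹ := by
            rw [← map_inv, ← map_mul, ← map_mul]
            exact congrArg F.π (Subtype.ext rfl)
        _ = σ := by rw [hπd, one_mul, inv_one, mul_one, hgσ]

variable [Finite G]

/-- Such a subgroup exists for each element of order 3 of `C(z)`. -/
theorem exists_compl (h : PreCore z Q) (F : Frame z Q) {t₀ : G} (ht₀ : t₀ * z = z * t₀)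
    (ht₀2 : t₀ * t₀ = 1) (ht₀Q : t₀ ∉ Q) {s : G} (hs : s * z = z * s) (hs3 : orderOf s = 3) :
    ∃ H : Subgroup G, Compl F s H := by
  classical
  have hsss : s * s * s = 1 := by
    have := pow_orderOf_eq_one s
    rwa [hs3, pow_succ, pow_two] at this
  obtain ⟨r, hr⟩ : ∃ r, r = F.p hs := ⟨_, rfl⟩
  have hr1 : r ≠ 1 := fun e => h.not_mem_of_three hs3 ((F.ker_p h hs).1 (hr ▸ e))
  have hr3 : r * r * r = 1 := by
    rw [hr, ← map_mul, ← map_mul, ← map_one F.π]
    exact congrArg F.π (Subtype.ext hsss)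
  obtain ⟨X, hX1, hX2, hY1, hY5⟩ := AltB.exists_five_mate r hr1 hr3
  obtain ⟨hp1, hp2⟩ := F.p_invol h ht₀ ht₀2 ht₀Q
  obtain ⟨g₀, hg₀⟩ := Alt.inv_conj _ X hp1 hp2 hX1 hX2
  obtain ⟨c, hc⟩ := F.surj g₀
  have hcz : (c : G) * z = z * c := Subgroup.mem_centralizer_singleton_iff.1 c.2
  obtain ⟨x, hx⟩ : ∃ x, x = (c : G) * t₀ * (c : G)⁻¹ := ⟨_, rfl⟩
  have hxz : x * z = z * x := hx ▸
    (((show Commute (c : G) z from hcz).mul_left ht₀).mul_left
      (show Commute (c : G) z from hcz).inv_left).eq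
  have hx2 : x * x = 1 := by
    rw [hx, show (c : G) * t₀ * (c : G)⁻¹ * ((c : G) * t₀ * (c : G)⁻¹) =
      (c : G) * (t₀ * t₀) * (c : G)⁻¹ by group, ht₀2, mul_one, mul_inv_cancel]
  have hxX : F.p hxz = X := by
    rw [← hg₀, ← hc, ← map_inv, ← map_mul, ← map_mul]
    exact congrArg F.π (Subtype.ext hx)
  -- the subgroup generated modulo `z`
  let C := Subgroup.centralizer ({z} : Set G)
  let zC : C := ⟨z, Subgroup.mem_centralizer_singleton_iff.2 rfl⟩
  let Z : Subgroup C := Subgroup.zpowers zC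
  haveI hZn : Z.Normal := ⟨fun n hn g => by
    obtain ⟨m, rfl⟩ := Subgroup.mem_zpowers_iff.1 hn
    have hg : Commute g zC :=
      Subtype.ext (Subgroup.mem_centralizer_singleton_iff.1 g.2)
    rw [(hg.zpow_right m).eq, mul_inv_cancel_right]
    exact Subgroup.zpow_mem_zpowers _ _⟩
  have hZmem : ∀ {g : C}, g ∈ Z → Eqz z (g : G) 1 := by
    intro g hg
    obtain ⟨m, rfl⟩ := Subgroup.mem_zpowers_iff.1 hg
    rw [Subgroup.coe_zpow]
    rcases Int.even_or_odd m with ⟨l, rfl⟩ | ⟨l, rfl⟩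
    · left
      rw [← two_mul, zpow_mul, show zC.1 ^ (2 : ℤ) = z * z from zpow_two _, h.zz, one_zpow]
    · right
      rw [zpow_add_one, zpow_mul, show zC.1 ^ (2 : ℤ) = z * z from zpow_two _, h.zz, one_zpow]
  have hZQ : ∀ g ∈ Z, g ∈ F.π.ker := fun g hg => (F.ker g).2 (by
    rcases hZmem hg with e | e <;> rw [e]
    · exact Q.one_mem
    · exact Q.mul_mem Q.one_mem h.hzQ)
  let φ : C ⧸ Z →* alternatingGroup (Fin 5) := QuotientGroup.lift Z F.π hZQ
  obtain ⟨S, hS⟩ : ∃ S : C ⧸ Z,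
      S = QuotientGroup.mk' Z ⟨s, Subgroup.mem_centralizer_singleton_iff.2 hs⟩ := ⟨_, rfl⟩
  obtain ⟨T, hT⟩ : ∃ T : C ⧸ Z,
      T = QuotientGroup.mk' Z ⟨x, Subgroup.mem_centralizer_singleton_iff.2 hxz⟩ := ⟨_, rfl⟩
  have hφS : φ S = r := by rw [hS, hr]; rfl
  have hφT : φ T = X := by rw [hT, ← hxX]; rfl
  have hS3 : S ^ 3 = 1 := by
    rw [hS, ← map_pow, ← map_one (QuotientGroup.mk' Z)]
    exact congrArg _ (Subtype.ext (by rw [Subgroup.coe_pow]; exact hs3 ▸ pow_orderOf_eq_one s))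
  have hT2 : T ^ 2 = 1 := by
    rw [hT, ← map_pow, ← map_one (QuotientGroup.mk' Z)]
    exact congrArg _ (Subtype.ext (by rw [Subgroup.coe_pow, pow_two]; exact hx2))
  have hY : (S⁻¹ * T) ^ 5 = 1 := by
    -- an element of order 5 of the quotient acts without fixed points on `Q / ⟨z⟩`
    obtain ⟨w, hw⟩ : ∃ w : C, w = (⟨s, Subgroup.mem_centralizer_singleton_iff.2 hs⟩ : C)⁻¹ *
        ⟨x, Subgroup.mem_centralizer_singleton_iff.2 hxz⟩ := ⟨_, rfl⟩
    have hwπ : F.π w = r⁻¹ * X := by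
      rw [hw, map_mul, map_inv, hr, ← hxX]
    have hw5 : ((w ^ 5 : C) : G) ∈ Q := (F.ker _).1 (by
      rw [map_pow, hwπ, pow_succ, pow_succ, pow_succ, pow_succ, pow_one]; exact hY5)
    have hwz : (w : G) * z = z * w := Subgroup.mem_centralizer_singleton_iff.1 w.2
    rw [hS, hT, ← map_inv, ← map_mul, ← hw, ← map_pow]
    refine (QuotientGroup.eq_one_iff _).2 ?_
    rw [Subgroup.coe_pow] at hw5
    -- `w ^ 16` has order 5
    obtain ⟨v, hv⟩ : ∃ v, v = (w : G) ^ 16 := ⟨_, rfl⟩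
    have hq4 : ((w : G) ^ 5) ^ 4 = 1 := by
      rw [show (4 : ℕ) = 2 * 2 from rfl, pow_mul, pow_two, pow_two]
      exact h.Q_sq_orderOf hw5
    have hv5 : v ^ 5 = 1 := by
      rw [hv, ← pow_mul, show 16 * 5 = 5 * 4 * 4 by norm_num, pow_mul, pow_mul, hq4, one_pow]
    have hvz : v * z = z * v := hv ▸ ((show Commute (w : G) z from hwz).pow_left 16).eq
    have hv1 : v ≠ 1 := fun e => hY1 (by
      have e2 : F.π w ^ 16 = 1 := by
        rw [← map_pow, ← map_one F.π]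
        exact congrArg F.π (Subtype.ext (by rw [Subgroup.coe_pow, ← hv, e]; rfl))
      have e5 : F.π w ^ 5 = 1 := by
        rw [hwπ, pow_succ, pow_succ, pow_succ, pow_succ, pow_one]; exact hY5
      rw [show 16 = 5 * 3 + 1 by norm_num, pow_add, pow_mul, e5, one_pow, one_mul, pow_one, hwπ]
        at e2
      exact e2)
    haveI := Fact.mk (show Nat.Prime 5 by norm_num)
    have hfix : v * (w : G) ^ 5 * v⁻¹ = (w : G) ^ 5 := by
      rw [hv, ((Commute.refl (w : G)).pow_pow 16 5).eq, mul_inv_cancel_right]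
    rcases h.fixed_five hvz (orderOf_eq_prime hv5 hv1) hw5 hfix with e | e
    · rw [show w ^ 5 = 1 from Subtype.ext e]; exact Z.one_mem
    · rw [show w ^ 5 = zC from Subtype.ext e]; exact Subgroup.mem_zpowers _
  let K : Subgroup (C ⧸ Z) := Subgroup.closure {S, T}
  let S' : K := ⟨S, Subgroup.subset_closure (Or.inl rfl)⟩
  let T' : K := ⟨T, Subgroup.subset_closure (Or.inr rfl)⟩
  obtain ⟨-, hK⟩ := CfsgLib.TwoThreeFive.finite_card_le S' (S'⁻¹ * T') (Subtype.ext hS3)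
    (Subtype.ext hY) (by rw [mul_inv_cancel_left]; exact Subtype.ext hT2) (by
      have hcl := Subgroup.closure_closure_coe_preimage (k := ({S, T} : Set (C ⧸ Z)))
      rw [eq_top_iff, ← hcl, Subgroup.closure_le]
      rintro ⟨g, hg⟩ (e | e)
      · have : (⟨g, hg⟩ : K) = S' := Subtype.ext e
        rw [this]
        exact Subgroup.subset_closure (Or.inl rfl)
      · have : (⟨g, hg⟩ : K) = S' * (S'⁻¹ * T') := by rw [mul_inv_cancel_left]; exact Subtype.ext e
        rw [this]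
        exact Subgroup.mul_mem _ (Subgroup.subset_closure (Or.inl rfl))
          (Subgroup.subset_closure (Or.inr rfl)))
  let ψ : K →* alternatingGroup (Fin 5) := φ.comp K.subtype
  have h60 : Nat.card (alternatingGroup (Fin 5)) = 60 := by
    rw [nat_card_alternatingGroup, Nat.card_fin]; rfl
  have hsurj : Function.Surjective ψ := by
    rw [← MonoidHom.range_eq_top]
    have hr' : r ∈ ψ.range := ⟨S', hφS⟩
    have hX' : X ∈ ψ.range := ⟨T', hφT⟩
    have h30 : 30 ∣ Nat.card ψ.range := by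
      have h2 : 2 ∣ Nat.card ψ.range :=
        (dvd_of_eq (orderOf_eq_prime (p := 2) (by rw [pow_two]; exact hX2) hX1).symm).trans
          (Subgroup.orderOf_dvd_natCard _ hX')
      haveI := Fact.mk Nat.prime_three
      have h3 : 3 ∣ Nat.card ψ.range :=
        (dvd_of_eq (orderOf_eq_prime (p := 3) (by rw [pow_succ, pow_two]; exact hr3) hr1).symm).trans
          (Subgroup.orderOf_dvd_natCard _ hr')
      haveI := Fact.mk (show Nat.Prime 5 by norm_num)
      have h5 : 5 ∣ Nat.card ψ.range :=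
        (dvd_of_eq (orderOf_eq_prime (p := 5)
          (by rw [pow_succ, pow_succ, pow_succ, pow_succ, pow_one]; exact hY5) hY1).symm).trans
          (Subgroup.orderOf_dvd_natCard _ (mul_mem (inv_mem hr') hX'))
      omega
    have hm := ψ.range.card_mul_index
    rw [h60] at hm
    obtain ⟨m, hm'⟩ := h30
    rw [hm', mul_assoc] at hm
    have hi : ψ.range.index ∣ 2 := ⟨m, by rw [mul_comm]; omega⟩
    rcases (Nat.dvd_prime Nat.prime_two).mp hi with e | e
    · exact Subgroup.index_eq_one.mp e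
    · haveI : IsSimpleGroup (alternatingGroup (Fin 5)) := alternatingGroup.isSimpleGroup (by simp)
      rcases (Subgroup.normal_of_index_eq_two e).eq_bot_or_eq_top with hb | ht
      · rw [hb, Subgroup.index_bot, h60] at e; omega
      · exact ht
  have hbij : Function.Bijective ψ := (Nat.bijective_iff_surjective_and_card ψ).2
    ⟨hsurj, le_antisymm (h60.symm ▸ hK) (Nat.card_le_card_of_surjective ψ hsurj)⟩
  refine ⟨(K.comap (QuotientGroup.mk' Z)).map C.subtype, ?_, ?_, ?_, ?_, fun σ h1 h2 => ?_⟩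
  · rintro _ ⟨g, -, rfl⟩
    exact Subgroup.mem_centralizer_singleton_iff.1 g.2
  · refine ⟨zC, ?_, rfl⟩
    show QuotientGroup.mk' Z zC ∈ K
    rw [show QuotientGroup.mk' Z zC = 1 from
      (QuotientGroup.eq_one_iff _).2 (Subgroup.mem_zpowers _)]
    exact K.one_mem
  · refine ⟨⟨s, Subgroup.mem_centralizer_singleton_iff.2 hs⟩, ?_, rfl⟩
    exact Subgroup.mem_comap.2 (hS ▸ S'.2)
  · rintro _ ⟨g, hg, rfl⟩ hgQ
    have e : (⟨QuotientGroup.mk' Z g, hg⟩ : K) = 1 := hbij.1 (by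
      rw [map_one]; exact (F.ker g).2 hgQ)
    exact hZmem ((QuotientGroup.eq_one_iff g).1 (congrArg Subtype.val e))
  · -- conjugate `x`
    obtain ⟨γ, hγ⟩ := Alt.inv_conj X σ hX1 hX2 h1 h2
    obtain ⟨⟨k, hk⟩, hkγ⟩ := hsurj γ
    obtain ⟨k, rfl⟩ := QuotientGroup.mk'_surjective Z k
    let xC : C := ⟨x, Subgroup.mem_centralizer_singleton_iff.2 hxz⟩
    refine ⟨_, ⟨k * xC * k⁻¹, ?_, rfl⟩,
      Subgroup.mem_centralizer_singleton_iff.1 (k * xC * k⁻¹).2, ?_, ?_⟩
    · show QuotientGroup.mk' Z (k * xC * k⁻¹) ∈ K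
      rw [map_mul, map_mul, map_inv]
      exact K.mul_mem (K.mul_mem hk (hT ▸ T'.2)) (K.inv_mem hk)
    · show ((k * xC * k⁻¹ : C) : G) * ((k * xC * k⁻¹ : C) : G) = 1
      rw [← Subgroup.coe_mul, show k * xC * k⁻¹ * (k * xC * k⁻¹) = k * (xC * xC) * k⁻¹ by group,
        show xC * xC = 1 from Subtype.ext hx2, mul_one, mul_inv_cancel]
      rfl
    · show F.π (k * xC * k⁻¹) = σ
      rw [map_mul, map_mul, map_inv]
      have e : F.π k = γ := hkγ
      rw [e, show F.π xC = X from hxX, hγ]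

omit [Finite G] in
/-- The product `(s t)³` is trivial. -/
theorem st_cube (h : PreCore z Q) (L : Loc z Q) :
    L.s * L.t * (L.s * L.t) * (L.s * L.t) = 1 := by
  obtain ⟨f', hf', hu', -⟩ := L.F.exists_fixed h L.ht L.ht2 L.htQ
  obtain rfl : f' = L.f := (hu' _ (L.F.fix_of_commute h L.ht L.htu)).symm
  obtain ⟨x, hx⟩ : ∃ x, x = L.t * (L.s * L.t * L.s⁻¹) * (L.s * (L.s * L.t * L.s⁻¹) * L.s⁻¹) :=
    ⟨_, rfl⟩
  have hsss : L.s * L.s * L.s = 1 := by
    have := pow_orderOf_eq_one L.s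
    rwa [L.hs3, pow_succ, pow_two] at this
  have hE : Eqz z x 1 ∨ Eqz z x (L.F.a L.f) := by
    rcases L.F.three_orbit h L.ht L.ht2 L.htQ hf' L.htu L.hs L.hs3 L.hsu with ⟨-, e⟩ | ⟨-, e⟩
    · exact Or.inl (hx ▸ e)
    · exact Or.inr (hx ▸ e)
  have hrx : L.r * x * L.r⁻¹ = x := by
    have h1 : Commute L.r L.s := L.hrs
    have h2 : Commute L.r (L.s * L.t * L.s⁻¹) := (h1.mul_right L.hrt).mul_right h1.inv_right
    have hc : Commute L.r x := hx ▸
      ((show Commute L.r L.t from L.hrt).mul_right h2).mul_right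
        ((h1.mul_right h2).mul_right h1.inv_right)
    rw [hc.eq, mul_inv_cancel_right]
  have hx1 : x = 1 := by
    rcases hE with (e | e) | (e | e)
    · exact e
    · rw [one_mul] at e
      rw [e, L.hrz] at hrx
      exact absurd hrx (L.F.ne_z _)
    · rw [e, L.hru] at hrx
      exact absurd (mul_eq_left.1 hrx) h.z_ne_one
    · rw [e, show L.r * (L.F.a L.f * z) * L.r⁻¹ = L.r * L.F.a L.f * L.r⁻¹ * (L.r * z * L.r⁻¹) by
        group, L.hru, L.hrz, mul_assoc, ← h.hQC _ (L.F.mem _), ← mul_assoc, L.F.sq, one_mul] at hrx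
      exact absurd (mul_eq_right.1 hrx.symm) (L.F.ne_one _)
  calc L.s * L.t * (L.s * L.t) * (L.s * L.t) = L.s * (x * (L.s * L.s * L.s)) * L.s⁻¹ := by
        rw [hx]; group
    _ = 1 := by rw [hx1, hsss, mul_one, mul_one, mul_inv_cancel]

/-- An involution of `C(z)` inverting `s`, moving `u` to `a`, with `(b t)³ = z`. -/
theorem exists_b (h : Hyp z Q) (L : Loc z Q) {a : G} (haQ : a ∈ Q) (haa : a * a = 1)
    (has : a * L.s = L.s * a) (hua : L.F.a L.f * a * L.F.a L.f * a = z) :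
    ∃ b : G, b * b = 1 ∧ b * z = z * b ∧ b * L.s * b⁻¹ = L.s⁻¹ ∧
      b * L.F.a L.f * b⁻¹ = a ∧ ((b * L.t) ^ 3 = z) := by
  classical
  have hP : PreCore z Q := h.toPreCore
  obtain ⟨u, hu⟩ : ∃ u, u = L.F.a L.f := ⟨_, rfl⟩
  rw [← hu] at hua ⊢
  have huQ : u ∈ Q := hu ▸ L.F.mem _
  have huu : u * u = 1 := hu ▸ L.F.sq _
  have huinv : u⁻¹ = u := inv_eq_of_mul_eq_one_left huu
  have huz : Commute u z := hP.hQC u huQ
  have haz : Commute a z := hP.hQC a haQ
  have hsss : L.s * L.s * L.s = 1 := by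
    have := pow_orderOf_eq_one L.s
    rwa [L.hs3, pow_succ, pow_two] at this
  -- the images in the quotient
  obtain ⟨r, hr⟩ : ∃ r, r = L.F.p L.hs := ⟨_, rfl⟩
  obtain ⟨τ, hτ⟩ : ∃ τ, τ = L.F.p L.ht := ⟨_, rfl⟩
  have hr1 : r ≠ 1 := fun e => hP.not_mem_of_three L.hs3 ((L.F.ker_p hP L.hs).1 (hr ▸ e))
  have hr3 : r * r * r = 1 := by
    rw [hr, ← map_mul, ← map_mul, ← map_one L.F.π]
    exact congrArg L.F.π (Subtype.ext hsss)
  obtain ⟨hτ1, hτ2⟩ : τ ≠ 1 ∧ τ * τ = 1 := hτ ▸ L.F.p_invol hP L.ht L.ht2 L.htQ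
  have hrf : (r : Equiv.Perm (Fin 5)) L.f = L.f := hr ▸ L.F.fix_of_commute hP L.hs L.hsu
  have hτf : (τ : Equiv.Perm (Fin 5)) L.f = L.f := hτ ▸ L.F.fix_of_commute hP L.ht L.htu
  have hτu : ∀ i, (τ : Equiv.Perm (Fin 5)) i = i → i = L.f := by
    obtain ⟨f', hf', hu', -⟩ := L.F.exists_fixed hP L.ht L.ht2 L.htQ
    intro i hi
    rw [hτ] at hi hτf
    exact (hu' i hi).trans (hu' _ hτf).symm
  -- the pair of `a`
  have hunz : u ≠ z := hu ▸ L.F.ne_z _
  have ha1 : a ≠ 1 := fun e => hP.z_ne_one (by rw [← hua, e, mul_one, mul_one, huu])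
  have hanz : a ≠ z := fun e => hP.z_ne_one (by
    rw [← hua, e, mul_assoc (u * z), huz.eq]
    calc z * u * (z * u) = z * (u * z) * u := by group
      _ = 1 := by rw [huz.eq, ← mul_assoc, hP.zz, one_mul, huu])
  obtain ⟨j, hj⟩ := L.F.eqz_a_of_invol hP haQ haa ha1 hanz
  have hjf : j ≠ L.f := by
    intro e
    rw [e, ← hu] at hj
    have hc : u * a = a * u := (hP.eqz_comm huQ hj).2 rfl
    apply hP.z_ne_one
    rw [← hua, hc, mul_assoc a u u, huu, mul_one, haa]
  have hrj : (r : Equiv.Perm (Fin 5)) j = j := by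
    have e2 := hP.eqz_conj (g := L.s) L.hs hj
    rw [← has, mul_inv_cancel_right] at e2
    have e3 := L.F.act ⟨L.s, Subgroup.mem_centralizer_singleton_iff.2 L.hs⟩ j
    rw [hr]
    exact (L.F.dist _ _ (hP.eqz_trans (hP.eqz_symm hj) (hP.eqz_trans e2 e3))).symm
  have hjs : L.s * L.F.a j = L.F.a j * L.s := by
    have hsz : Commute L.s z := L.hs
    rcases hj with e | e
    · rw [← e]; exact has.symm
    · have e' : L.F.a j = a * z := by rw [e, mul_assoc, hP.zz, mul_one]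
      rw [e']
      exact ((show Commute L.s a from has.symm).mul_right hsz).eq
  -- a subgroup containing `s`
  obtain ⟨H, cH⟩ := exists_compl hP L.F L.ht L.ht2 L.htQ L.hs L.hs3
  -- lifts of `τ` centralise `u`
  have hlift : ∀ {g : G} (hg : g * z = z * g), g * g = 1 → L.F.p hg = τ → g * u = u * g := by
    intro g hg hg2 hgτ
    have hgQ : g ∉ Q := fun e => hτ1 (hgτ ▸ (L.F.ker_p hP hg).2 e)
    obtain ⟨f', hf', -, hc⟩ := L.F.exists_fixed hP hg hg2 hgQ
    rw [hgτ] at hf'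
    rwa [hτu _ hf', ← hu] at hc
  -- `t` differs from none of them by `u`
  have hnot : ∀ {H : Subgroup G}, Compl L.F L.s H → ∀ g ∈ H, ∀ hg : g * z = z * g, g * g = 1 →
      L.F.p hg = τ → ¬ Eqz z L.t (g * u) := by
    intro H c g hgH hg hg2 hgτ e
    have hgu : Commute g u := hlift hg hg2 hgτ
    have hsu : Commute L.s u := hu ▸ L.hsu
    obtain ⟨ζ, hζ, hζz⟩ : ∃ ζ, (ζ = 1 ∨ ζ = z) ∧ L.t = g * u * ζ := by
      rcases e with e | e
      exacts [⟨1, Or.inl rfl, by rw [mul_one]; exact e⟩, ⟨z, Or.inr rfl, e⟩]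
    have hmem : L.s * g * (L.s * g) * (L.s * g) ∈ H :=
      H.mul_mem (H.mul_mem (H.mul_mem c.smem hgH) (H.mul_mem c.smem hgH)) (H.mul_mem c.smem hgH)
    have hsgz : Commute (L.s * g) z := (show Commute L.s z from L.hs).mul_left hg
    have hcw : Commute (L.s * g) (u * ζ) := by
      refine (hsu.mul_left hgu).mul_right ?_
      rcases hζ with rfl | rfl
      exacts [Commute.one_right _, hsgz]
    obtain ⟨w, hw⟩ : ∃ w, w = u * ζ := ⟨_, rfl⟩
    rw [← hw] at hcw
    have hst : L.s * L.t = L.s * g * w := by rw [hζz, hw]; group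
    have hw3 : w * w * w = w := by
      have : w * w = 1 := by
        rcases hζ with rfl | rfl
        · rw [hw, mul_one, huu]
        · rw [hw, huz.symm.mul_mul_mul_comm, huu, hP.zz, mul_one]
      rw [this, one_mul]
    have e1 : L.s * g * (L.s * g) * (L.s * g) * w = 1 := by
      rw [← hw3, ← st_cube hP L, hst]
      have := hcw.mul_pow 3
      simp only [pow_succ, pow_zero, one_mul] at this
      rw [this]
    have hwQ : w ∈ Q := by
      rcases hζ with rfl | rfl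
      · rw [hw, mul_one]; exact huQ
      · rw [hw]; exact Q.mul_mem huQ hP.hzQ
    have hw1 : w ∈ H := by
      rw [eq_inv_of_mul_eq_one_right e1]
      exact H.inv_mem hmem
    have hu1 : u ≠ 1 := hu ▸ L.F.ne_one _
    rcases hP.eqz_trans (hP.eqz_symm (show Eqz z w u by
      rcases hζ with rfl | rfl
      exacts [Or.inl (by rw [hw, mul_one]), Or.inr hw])) (c.inter w hw1 hwQ) with e' | e'
    · exact hu1 e'
    · exact hunz (e'.trans (one_mul z))
  -- a subgroup containing `s` and `t`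
  obtain ⟨H', cH', htH'⟩ : ∃ H' : Subgroup G, Compl L.F L.s H' ∧ L.t ∈ H' := by
    have hmemH : ∀ {H : Subgroup G}, Compl L.F L.s H → ∀ g ∈ H, Eqz z L.t g → L.t ∈ H := by
      rintro H c g hg (e | e) <;> rw [e]
      exacts [hg, H.mul_mem hg c.zmem]
    obtain ⟨g, hgH, hg, hg2, hgτ⟩ := cH.lift τ hτ1 hτ2
    obtain ⟨m, hm⟩ : ∃ m, m = g * L.t := ⟨_, rfl⟩
    have htm : L.t = g * m := by rw [hm, ← mul_assoc, hg2, one_mul]
    have hmQ : m ∈ Q := by
      have hgt : g * L.t * z = z * (g * L.t) := ((show Commute g z from hg).mul_left L.ht).eq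
      rw [hm]
      refine (L.F.ker_p hP hgt).1 ?_
      calc L.F.p hgt = L.F.p hg * L.F.p L.ht := by
            rw [← map_mul]; exact congrArg L.F.π (Subtype.ext rfl)
        _ = 1 := by rw [hgτ, ← hτ, hτ2]
    have hmu : L.F.a L.f * m = m * L.F.a L.f := by
      rw [hm, ← hu]
      exact ((show Commute g u from hlift hg hg2 hgτ).mul_left
        (show Commute L.t u from hu ▸ L.htu)).symm.eq
    rcases L.F.centralizer_a hP L.f hmQ hmu with e | e | ⟨i, k, hik, hif, hkf, e⟩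
    · refine ⟨H, cH, hmemH cH g hgH ?_⟩
      rcases e with e | e
      exacts [Or.inl (by rw [htm, e, mul_one]), Or.inr (by rw [htm, e, one_mul])]
    · exact absurd (show Eqz z L.t (g * u) by
        rcases e with e | e
        exacts [Or.inl (by rw [htm, e, hu]), Or.inr (by rw [htm, e, hu, mul_assoc])])
        (hnot cH g hgH hg hg2 hgτ)
    · -- `g` fixes the class of `m`
      have hginv : g⁻¹ = g := inv_eq_of_mul_eq_one_left hg2
      have hgm : g * m * g⁻¹ = m⁻¹ := by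
        rw [hm, mul_inv_rev, inv_eq_of_mul_eq_one_left L.ht2]
        rw [← mul_assoc, hg2, one_mul]
      have hmm : Eqz z m⁻¹ m := by
        rcases hP.hsq m hmQ with e' | e'
        · exact Or.inl (inv_eq_of_mul_eq_one_left e')
        · refine Or.inr (inv_eq_of_mul_eq_one_left ?_)
          rw [mul_assoc, ← hP.hQC m hmQ, ← mul_assoc, e', hP.zz]
      have e2 := hP.eqz_trans (hP.eqz_conj (g := g) hg e) (L.F.act_mul hP hg i k)
      rw [hgm] at e2
      have e3 := hP.eqz_trans (hP.eqz_symm (hP.eqz_trans hmm e)) e2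
      rw [hgτ] at e3
      have hcases : ((τ : Equiv.Perm (Fin 5)) i = i ∧ (τ : Equiv.Perm (Fin 5)) k = k) ∨
          ((τ : Equiv.Perm (Fin 5)) i = k ∧ (τ : Equiv.Perm (Fin 5)) k = i) := by
        rcases L.F.pair _ _ _ _ hik (fun e' => hik ((τ : Equiv.Perm (Fin 5)).injective e')) e3 with
          ⟨e4, e5⟩ | ⟨e4, e5⟩
        · exact Or.inl ⟨e4.symm, e5.symm⟩
        · exact Or.inr ⟨e5.symm, e4.symm⟩
      -- the conjugate by `a j`
      obtain ⟨d, hd⟩ : ∃ d, d = L.F.a j := ⟨_, rfl⟩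
      have hdQ : d ∈ Q := hd ▸ L.F.mem j
      have hdinv : d⁻¹ = d := hd ▸ inv_eq_of_mul_eq_one_left (L.F.sq j)
      have cH2 := cH.conj hP hdQ (hd ▸ hjs.symm)
      have hg' : d * g * d⁻¹ ∈ H.map (MulAut.conj d).toMonoidHom := ⟨g, hgH, rfl⟩
      obtain ⟨J, hJ⟩ : ∃ J, J = (τ : Equiv.Perm (Fin 5)) j := ⟨_, rfl⟩
      have hconj : Eqz z (d * g * d⁻¹) (g * (L.F.a J * L.F.a j)) := by
        have e4 := L.F.act ⟨g, Subgroup.mem_centralizer_singleton_iff.2 hg⟩ j
        change Eqz z (g * L.F.a j * g⁻¹) (L.F.a ((L.F.p hg : Equiv.Perm (Fin 5)) j)) at e4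
        rw [hgτ, ← hJ, ← hd] at e4
        have e5 : d * g * d⁻¹ = g * (g * d * g⁻¹ * d) := by
          rw [hginv, hdinv, ← mul_assoc g (g * d * g) d, ← mul_assoc g (g * d) g,
            ← mul_assoc g g d, hg2, one_mul]
        rw [e5]
        refine hP.eqz_mul ?_ (Or.inl rfl) ?_
        · exact hP.hQC _ (Q.mul_mem (L.F.mem _) (L.F.mem _))
        · exact hP.eqz_mul (hP.hQC _ (L.F.mem j)) e4 (Or.inl hd)
      have hg'z : d * g * d⁻¹ * z = z * (d * g * d⁻¹) := cH2.le _ hg'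
      have hg'2 : d * g * d⁻¹ * (d * g * d⁻¹) = 1 := by
        rw [show d * g * d⁻¹ * (d * g * d⁻¹) = d * (g * g) * d⁻¹ by group, hg2, mul_one,
          mul_inv_cancel]
      have hg'τ : L.F.p hg'z = τ := by
        have hdz : d * z = z * d := hP.hQC d hdQ
        calc L.F.p hg'z = L.F.p hdz * L.F.p hg * (L.F.p hdz)⁻¹ := by
              rw [← map_inv, ← map_mul, ← map_mul]
              exact congrArg L.F.π (Subtype.ext rfl)
          _ = τ := by
            rw [(L.F.ker_p hP hdz).2 hdQ, one_mul, inv_one, mul_one, hgτ]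
      have hswap : ∀ p q : Fin 5, p ≠ q → Eqz z (L.F.a q * L.F.a p) (L.F.a p * L.F.a q) :=
        fun p q hpq => Or.inr (L.F.nc q p hpq.symm)
      have hcm : ∀ n ∈ Q, n * z = z * n := hP.hQC
      rcases AltB.pair_cases τ hτ1 hτ2 L.f hτf j i k hjf hif hkf hik hcases with
        ⟨rfl, rfl⟩ | ⟨rfl, rfl⟩ | ⟨h1, h2, h3, h4, h5, h6⟩
      · refine ⟨_, cH2, hmemH cH2 _ hg' (hP.eqz_trans ?_ (hP.eqz_symm hconj))⟩
        rw [htm, hJ]
        exact hP.eqz_mul (hcm _ (Q.mul_mem (L.F.mem _) (L.F.mem _))) (Or.inl rfl) e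
      · refine ⟨_, cH2, hmemH cH2 _ hg' (hP.eqz_trans ?_ (hP.eqz_symm hconj))⟩
        rw [htm, hJ]
        exact hP.eqz_mul (hcm _ (Q.mul_mem (L.F.mem _) (L.F.mem _))) (Or.inl rfl)
          (hP.eqz_trans e (hswap _ _ hik.symm))
      · refine absurd ?_ (hnot cH2 _ hg' hg'z hg'2 hg'τ)
        rw [← hJ] at h1 h3 h5 h6
        have e6 : Eqz z m (L.F.a J * L.F.a j * L.F.a L.f) :=
          hP.eqz_trans e (five_prod hP L.F h5 h6 hjf hik h1 h2 hif h3 h4 hkf)
        rw [hu]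
        refine hP.eqz_trans ?_ (hP.eqz_mul (hcm _ (L.F.mem L.f)) (hP.eqz_symm hconj) (Or.inl rfl))
        rw [mul_assoc g, htm]
        exact hP.eqz_mul (hcm _ (Q.mul_mem (Q.mul_mem (L.F.mem _) (L.F.mem _)) (L.F.mem _)))
          (Or.inl rfl) e6
  -- the involution
  obtain ⟨β, hβ1, hβ2, hβr, hβf, hβτ⟩ := AltB.exists_swap r hr1 hr3 τ hτ1 hτ2 L.f hrf hτf j hrj hjf
  obtain ⟨b, hbH, hb, hb2, hbβ⟩ := cH'.lift β hβ1 hβ2
  have hbinv : b⁻¹ = b := inv_eq_of_mul_eq_one_left hb2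
  have hbs : b * L.s * b⁻¹ = L.s⁻¹ := by
    have hmem : b * L.s * b⁻¹ * L.s ∈ H' :=
      H'.mul_mem (H'.mul_mem (H'.mul_mem hbH cH'.smem) (H'.inv_mem hbH)) cH'.smem
    have hzc : b * L.s * b⁻¹ * L.s * z = z * (b * L.s * b⁻¹ * L.s) := cH'.le _ hmem
    have hQ : b * L.s * b⁻¹ * L.s ∈ Q := by
      refine (L.F.ker_p hP hzc).1 ?_
      calc L.F.p hzc = L.F.p hb * L.F.p L.hs * (L.F.p hb)⁻¹ * L.F.p L.hs := by
            rw [← map_inv, ← map_mul, ← map_mul, ← map_mul]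
            exact congrArg L.F.π (Subtype.ext rfl)
        _ = 1 := by rw [hbβ, ← hr, hβr]
    obtain ⟨S, hS⟩ : ∃ S, S = b * L.s * b⁻¹ := ⟨_, rfl⟩
    rw [← hS] at hmem hQ ⊢
    have hS3 : S * S * S = 1 := by
      rw [hS, show b * L.s * b⁻¹ * (b * L.s * b⁻¹) * (b * L.s * b⁻¹) =
        b * (L.s * L.s * L.s) * b⁻¹ by group, hsss, mul_one, mul_inv_cancel]
    rcases cH'.inter _ hmem hQ with e | e
    · exact eq_inv_of_mul_eq_one_left e
    · exfalso
      rw [one_mul] at e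
      have hSe : S = z * L.s⁻¹ := eq_mul_inv_of_mul_eq e
      have hzs : Commute z L.s⁻¹ := (show Commute L.s z from L.hs).symm.inv_right
      have e3 := hzs.mul_pow 3
      rw [← hSe] at e3
      simp only [pow_succ, pow_zero, one_mul] at e3
      rw [hS3, hP.zz, one_mul, show L.s⁻¹ * L.s⁻¹ * L.s⁻¹ = (L.s * L.s * L.s)⁻¹ by group, hsss,
        inv_one, mul_one] at e3
      exact hP.z_ne_one e3.symm
  have hbu : Eqz z (b * u * b⁻¹) a := by
    have e := L.F.act ⟨b, Subgroup.mem_centralizer_singleton_iff.2 hb⟩ L.f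
    change Eqz z (b * L.F.a L.f * b⁻¹) (L.F.a ((L.F.p hb : Equiv.Perm (Fin 5)) L.f)) at e
    rw [hbβ, hβf, ← hu] at e
    exact hP.eqz_trans e (hP.eqz_symm hj)
  have hbt : Eqz z ((b * L.t) ^ 3) 1 := by
    have hmem : (b * L.t) ^ 3 ∈ H' := H'.pow_mem (H'.mul_mem hbH htH') 3
    refine cH'.inter _ hmem ((L.F.ker_p hP (cH'.le _ hmem)).1 ?_)
    calc L.F.p (cH'.le _ hmem) = L.F.p hb * L.F.p L.ht * (L.F.p hb * L.F.p L.ht) *
          (L.F.p hb * L.F.p L.ht) := by
          rw [← map_mul, ← map_mul, ← map_mul]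
          exact congrArg L.F.π (Subtype.ext (by
            simp only [pow_succ, pow_zero, one_mul, Subgroup.coe_mul]))
      _ = 1 := by rw [hbβ, ← hτ, hβτ]
  -- adjust the sign of `b u b⁻¹`
  obtain ⟨c, hc, hc2, hcs, hcu, hct⟩ : ∃ c : G, c * z = z * c ∧ c * c = 1 ∧
      c * L.s * c⁻¹ = L.s⁻¹ ∧ c * u * c⁻¹ = a ∧ Eqz z ((c * L.t) ^ 3) 1 := by
    rcases hbu with e | e
    · exact ⟨b, hb, hb2, hbs, e, hbt⟩
    · have hus : Commute u L.s := hu ▸ (show Commute L.s (L.F.a L.f) from L.hsu).symm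
      have hut : Commute u L.t := hu ▸ (show Commute L.t (L.F.a L.f) from L.htu).symm
      refine ⟨u * b * u, ((huz.mul_left hb).mul_left huz).eq, ?_, ?_, ?_, ?_⟩
      · rw [show u * b * u * (u * b * u) = u * b * (u * u) * b * u by group, huu, mul_one,
          mul_assoc u b b, hb2, mul_one, huu]
      · rw [show u * b * u * L.s * (u * b * u)⁻¹ = u * (b * (u * L.s * u⁻¹) * b⁻¹) * u⁻¹ by group,
          hus.eq, mul_inv_cancel_right, hbs, hus.inv_right.eq, mul_inv_cancel_right]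
      · rw [show u * b * u * u * (u * b * u)⁻¹ = u * (b * u * b⁻¹) * u⁻¹ by group, e, huinv]
        have e1 : u * a * u = z * a⁻¹ := eq_mul_inv_of_mul_eq hua
        calc u * (a * z) * u = u * a * u * z := by
              rw [mul_assoc u (a * z) u, mul_assoc a z u, ← huz.eq]; group
          _ = a := by
            rw [e1, inv_eq_of_mul_eq_one_left haa, ← haz.eq, mul_assoc, hP.zz, mul_one]
      · have e1 : u * b * u * L.t = u * (b * L.t) * u⁻¹ := by
          rw [huinv, mul_assoc (u * b) u L.t, hut.eq]; group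
        rw [e1, conj_pow]
        rcases hbt with e2 | e2 <;> rw [e2]
        · exact Or.inl (by rw [mul_one, mul_inv_cancel])
        · exact Or.inr (by rw [one_mul, huz.eq, mul_inv_cancel_right])
  rcases hct with e | e
  · have hcz : Commute c z := hc
    refine ⟨c * z, ?_, ((hcz.mul_left (Commute.refl z))).eq, ?_, ?_, ?_⟩
    · rw [hcz.symm.mul_mul_mul_comm, hc2, hP.zz, mul_one]
    · rw [mul_inv_rev, show c * z * L.s * (z⁻¹ * c⁻¹) = c * (z * L.s * z⁻¹) * c⁻¹ by group,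
        ← L.hs, mul_inv_cancel_right, hcs]
    · rw [mul_inv_rev, show c * z * u * (z⁻¹ * c⁻¹) = c * (z * u * z⁻¹) * c⁻¹ by group,
        ← huz.eq, mul_inv_cancel_right, hcu]
    · have e1 : c * z * L.t = c * L.t * z := by rw [mul_assoc, ← L.ht, mul_assoc]
      rw [e1, ((show Commute c z from hc).mul_left L.ht).mul_pow, e, one_mul, pow_succ, pow_two,
        hP.zz, one_mul]
  · exact ⟨c, hc2, hc, hcs, hcu, by rw [e, one_mul]⟩

end CfsgLib.JThree
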