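import Cfsg.Agent.JThree.Basic
import Cfsg.Agent.JThree.Outside
import Cfsg.Agent.HallJanko.CentT

/-!
# Subgroups containing the local generators contain `C(z)`
-/

set_option autoImplicit false
set_option synthInstance.maxSize 2000
set_option synthInstance.maxHeartbeats 200000
set_option linter.style.haveILetI false
set_option linter.unusedSectionVars false

namespace CfsgLib.JThree

open CfsgLib.HallJanko

namespace AltC

local notation "A5" => alternatingGroup (Fin 5)
local notation "S5" => Equiv.Perm (Fin 5)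

theorem exists_five : ∀ r : A5, r ≠ 1 → r * r * r = 1 → ∀ t : A5, t ≠ 1 → t * t = 1 →
    ∀ f : Fin 5, (r : S5) f = f → (t : S5) f = f → ∀ b : A5, b * b = 1 → (b : S5) f ≠ f →
    ∃ w ∈ [r * b, r * r * b, t * b, r * t * b, t * r * b, r * r * t * b, t * r * r * b,
      r * t * r * b], w ≠ 1 ∧ w * w * w * w * w = 1 := by
  decide +kernel

/-- A subgroup of `A₅` with elements of orders 2, 3 and 5 is everything. -/
theorem eq_top {M : Subgroup A5} {r t w : A5} (hr : r ∈ M) (hr1 : r ≠ 1) (hr3 : r * r * r = 1)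
    (ht : t ∈ M) (ht1 : t ≠ 1) (ht2 : t * t = 1) (hw : w ∈ M) (hw1 : w ≠ 1)
    (hw5 : w * w * w * w * w = 1) : M = ⊤ := by
  have h30 : 30 ∣ Nat.card M := by
    haveI := Fact.mk Nat.prime_two
    have h2 : 2 ∣ Nat.card M :=
      (dvd_of_eq (orderOf_eq_prime (p := 2) (by rw [pow_two]; exact ht2) ht1).symm).trans
        (Subgroup.orderOf_dvd_natCard _ ht)
    haveI := Fact.mk Nat.prime_three
    have h3 : 3 ∣ Nat.card M :=
      (dvd_of_eq (orderOf_eq_prime (p := 3) (by rw [pow_succ, pow_two]; exact hr3) hr1).symm).trans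
        (Subgroup.orderOf_dvd_natCard _ hr)
    haveI := Fact.mk (show Nat.Prime 5 by norm_num)
    have h5 : 5 ∣ Nat.card M :=
      (dvd_of_eq (orderOf_eq_prime (p := 5)
        (by rw [pow_succ, pow_succ, pow_succ, pow_succ, pow_one]; exact hw5) hw1).symm).trans
        (Subgroup.orderOf_dvd_natCard _ hw)
    omega
  have h60 : Nat.card A5 = 60 := by rw [nat_card_alternatingGroup, Nat.card_fin]; rfl
  have hm := M.card_mul_index
  rw [h60] at hm
  obtain ⟨m, hm'⟩ := h30
  rw [hm', mul_assoc] at hm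
  have hi : M.index ∣ 2 := ⟨m, by rw [mul_comm]; omega⟩
  rcases (Nat.dvd_prime Nat.prime_two).mp hi with e | e
  · exact Subgroup.index_eq_one.mp e
  · haveI : IsSimpleGroup A5 := alternatingGroup.isSimpleGroup (by simp)
    rcases (Subgroup.normal_of_index_eq_two e).eq_bot_or_eq_top with hb | ht
    · rw [hb, Subgroup.index_bot, h60] at e; omega
    · exact ht

end AltC

variable {G : Type*} [Group G] [Finite G] {z : G} {Q : Subgroup G}

/-- A subgroup containing `z`, `u`, `s`, `t` and an involution `b` moving `u` contains `C(z)`. -/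
theorem cent_le (h : PreCore z Q) (L : Loc z Q) {a b : G} (_haQ : a ∈ Q)
    (hua : L.u * a * L.u * a = z) (hbz : b * z = z * b) (hbb : b * b = 1)
    (hbu : b * L.u * b⁻¹ = a) {H : Subgroup G} (hz : z ∈ H) (hu : L.u ∈ H) (_ha : a ∈ H)
    (hs : L.s ∈ H) (ht : L.t ∈ H) (hb : b ∈ H) :
    Subgroup.centralizer ({z} : Set G) ≤ H := by
  let C := Subgroup.centralizer ({z} : Set G)
  let M : Subgroup (alternatingGroup (Fin 5)) := (H.subgroupOf C).map L.F.π
  have hM : ∀ {g : G} (hg : g * z = z * g), g ∈ H → L.F.p hg ∈ M := fun hg hgH =>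
    ⟨⟨_, Subgroup.mem_centralizer_singleton_iff.2 hg⟩, Subgroup.mem_subgroupOf.2 hgH, rfl⟩
  have hr1 : L.F.p L.hs ≠ 1 := fun e => h.not_mem_of_three L.hs3 ((L.F.ker_p h L.hs).1 e)
  have hr3 : L.F.p L.hs * L.F.p L.hs * L.F.p L.hs = 1 := by
    rw [← map_mul, ← map_mul, ← map_one L.F.π]
    exact congrArg L.F.π (Subtype.ext (by
      have := pow_orderOf_eq_one L.s
      rwa [L.hs3, pow_succ, pow_two] at this))
  obtain ⟨ht1, ht2⟩ := L.F.p_invol h L.ht L.ht2 L.htQ
  have hb2 : L.F.p hbz * L.F.p hbz = 1 := by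
    rw [← map_mul, ← map_one L.F.π]
    exact congrArg L.F.π (Subtype.ext hbb)
  have hbf : (L.F.p hbz : Equiv.Perm (Fin 5)) L.f ≠ L.f := by
    intro e
    have e2 := L.F.act ⟨b, Subgroup.mem_centralizer_singleton_iff.2 hbz⟩ L.f
    rw [e] at e2
    change Eqz z (b * L.u * b⁻¹) L.u at e2
    rw [hbu] at e2
    have hc : L.u * a = a * L.u := (h.eqz_comm (L.F.mem _) e2).2 rfl
    have haa : a * a = 1 := by
      rw [← hbu, show b * L.u * b⁻¹ * (b * L.u * b⁻¹) = b * (L.u * L.u) * b⁻¹ by group,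
        L.F.sq, mul_one, mul_inv_cancel]
    apply h.z_ne_one
    rw [← hua, hc, mul_assoc a L.u L.u, L.F.sq, mul_one, haa]
  have htop : M = ⊤ := by
    have hr := hM L.hs hs
    have hτ := hM L.ht ht
    have hβ := hM hbz hb
    obtain ⟨w, hw, hw1, hw5⟩ := AltC.exists_five _ hr1 hr3 _ ht1 ht2 L.f
      (L.F.fix_of_commute h L.hs L.hsu) (L.F.fix_of_commute h L.ht L.htu) _ hb2 hbf
    refine AltC.eq_top hr hr1 hr3 hτ ht1 ht2 ?_ hw1 hw5
    simp only [List.mem_cons, List.not_mem_nil, or_false] at hw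
    rcases hw with rfl | rfl | rfl | rfl | rfl | rfl | rfl | rfl
    all_goals repeat' apply M.mul_mem
    all_goals assumption
  have hlift : ∀ σ, ∃ c : C, (c : G) ∈ H ∧ L.F.π c = σ := fun σ => by
    obtain ⟨c, hc, e⟩ := htop ▸ Subgroup.mem_top σ
    exact ⟨c, Subgroup.mem_subgroupOf.1 hc, e⟩
  have hmem : ∀ {x y : G}, Eqz z x y → y ∈ H → x ∈ H := by
    rintro x y (e | e) hy <;> rw [e]
    exacts [hy, H.mul_mem hy hz]
  have hai : ∀ i, L.F.a i ∈ H := by
    intro i
    obtain ⟨g, hg⟩ := Alt.transitive L.f i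
    obtain ⟨c, hc, hcg⟩ := hlift g
    have e := L.F.act c L.f
    rw [hcg, hg] at e
    exact hmem (h.eqz_symm e) (H.mul_mem (H.mul_mem hc hu) (H.inv_mem hc))
  have hQ : ∀ q ∈ Q, q ∈ H := fun q hq => by
    rcases L.F.cover q hq with e | ⟨i, e⟩ | ⟨i, k, -, e⟩
    exacts [hmem e H.one_mem, hmem e (hai i), hmem e (H.mul_mem (hai i) (hai k))]
  intro g hg
  obtain ⟨c, hc, hcg⟩ := hlift (L.F.π ⟨g, hg⟩)
  have e : ((c⁻¹ * ⟨g, hg⟩ : C) : G) ∈ Q := (L.F.ker _).1 (by
    rw [map_mul, map_inv, hcg, inv_mul_cancel])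
  have e2 := H.mul_mem hc (hQ _ e)
  rwa [Subgroup.coe_mul, Subgroup.coe_inv, mul_inv_cancel_left] at e2

end CfsgLib.JThree
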