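import Cfsg.Agent.JThree.Basic
import Cfsg.Agent.HallJanko.Sigma

/-!
# The centraliser of `s` in a group of `J₃` type

If its order is divisible by 5 it is a central extension of `A₆` by `⟨s⟩`.
-/

set_option autoImplicit false
set_option linter.style.haveILetI false

namespace CfsgLib.JThree

open CfsgLib.HallJanko

variable {G : Type*} [Group G] [Finite G] {z : G} {Q : Subgroup G}

/-- The involutions of a pair centralised by `s` are conjugate to `z` in `C(s)`. -/
theorem pair_conj (h : Hyp z Q) (L : Loc z Q) {i : Fin 5} (hi : L.s * L.F.a i = L.F.a i * L.s)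
    {w : G} (hw : Eqz z w (L.F.a i)) : ∃ k : G, k * L.s = L.s * k ∧ k * z * k⁻¹ = w := by
  obtain ⟨L', hF, hf, hs⟩ := h.exists_loc L.F i L.hs L.hs3 hi
  have hrs : Commute L'.r L.s := hs ▸ L'.hrs
  have hrz : L'.r * z * L'.r⁻¹ = L.F.a i := by rw [L'.hrz, hF, hf]
  have hru : L'.r * L.F.a i * L'.r⁻¹ = L.F.a i * z := by
    have := L'.hru
    rwa [hF, hf] at this
  rcases hw with e | e
  · exact ⟨L'.r, hrs.eq, hrz.trans e.symm⟩
  · refine ⟨L'.r * L'.r, (hrs.mul_left hrs).eq, ?_⟩
    rw [e, show L'.r * L'.r * z * (L'.r * L'.r)⁻¹ = L'.r * (L'.r * z * L'.r⁻¹) * L'.r⁻¹ by group,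
      hrz, hru]

/-- With 5 dividing `|C(s)|`, the centraliser of `s` is `3 × A₆` or `3.A₆`. -/
theorem sig_of_five (h : Hyp z Q) (L : Loc z Q)
    (h5 : 5 ∣ Nat.card (Subgroup.centralizer ({L.s} : Set G))) : Sig z L.s := by
  refine (L.sigma_cases_of h.toPreCore fun _ hi _ hw => pair_conj h L hi hw).resolve_left fun e => ?_
  rw [e] at h5
  norm_num at h5

end CfsgLib.JThree
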