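import Cfsg.Agent.JankoTwoThree.J3InvStructure
import Cfsg.Agent.JankoTwoThree.J3Aut

/-!
# A strongly embedded copy of `J₃` is the whole group

If all involutions of `G` are conjugate and a subgroup `H ≅ J₃` contains an involution centraliser
of order 1920, then `H = G`: some coset of `H` would contain at least as many involutions as `H`,
giving a subgroup of odd order at least 26163, and `J₃` has none.
-/

set_option autoImplicit false
set_option linter.style.haveILetI false

namespace CfsgLib.JThree

open Subgroup CfsgLib.J23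

/-- An element of odd order normalising the subgroup of order 17 lies in it. -/
theorem mem_zpowers_aJ {g : J3P} (hn : g ∈ normalizer (zpowers aJ : Set J3P))
    (ho : Odd (orderOf g)) : g ∈ zpowers aJ := by
  haveI : Fact (Nat.Prime 17) := ⟨by norm_num⟩
  have hcard : Nat.card (MulAut (zpowers aJ)) = 16 := by
    rw [IsCyclic.card_mulAut, Nat.card_zpowers, orderOf_aJ, Nat.totient_prime Fact.out]
  set φ := Subgroup.normalizerMonoidHom (zpowers aJ)
  have h1 : φ ⟨g, hn⟩ ^ 16 = 1 := hcard ▸ pow_card_eq_one'
  have h2 : φ ⟨g, hn⟩ ^ orderOf g = 1 := by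
    rw [← map_pow]
    convert map_one φ
    exact Subtype.ext (pow_orderOf_eq_one g)
  have hφ : φ ⟨g, hn⟩ = 1 := by
    refine orderOf_eq_one_iff.1 (Nat.eq_one_of_dvd_coprimes ?_ (orderOf_dvd_of_pow_eq_one h1)
      (orderOf_dvd_of_pow_eq_one h2))
    rw [show (16 : ℕ) = 2 ^ 4 by norm_num]
    exact (Nat.coprime_two_left.2 ho).pow_left 4
  have hfix := congrArg (fun f : MulAut (zpowers aJ) => ((f ⟨aJ, mem_zpowers aJ⟩ : zpowers aJ) : J3P))
    hφ
  have hc : Commute g aJ := mul_inv_eq_iff_eq_mul.1 hfix
  obtain ⟨i, -, rfl⟩ := exists_pow_of_commute hc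
  exact pow_mem (mem_zpowers aJ) i

/-- `J₃` has no subgroup of odd order at least 26163. -/
theorem false_of_odd_subgroup (D : Subgroup J3P) (hD : Odd (Nat.card D))
    (hbig : 26163 ≤ Nat.card D) : False := by
  haveI : Fact (Nat.Prime 17) := ⟨by norm_num⟩
  have hdvd : Nat.card D ∣ 392445 := by
    have h := card_subgroup_dvd_card D
    rw [card_J3P, show 50232960 = 128 * 392445 by norm_num] at h
    refine Nat.Coprime.dvd_of_dvd_mul_left ?_ h
    rw [show (128 : ℕ) = 2 ^ 7 by norm_num]
    exact (Nat.coprime_two_right.2 hD).pow_right 7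
  obtain ⟨k, hk⟩ := hdvd
  have hk15 : k ≤ 15 := by
    by_contra h
    have : 26163 * 16 ≤ Nat.card D * k := Nat.mul_le_mul hbig (by omega)
    omega
  have h17 : (Nat.card D).factorization 17 = 1 ∧
      Nat.card D / 17 % 17 ≠ 1 := by
    have hval : Nat.card D = 392445 ∨ Nat.card D = 130815 ∨ Nat.card D = 78489 ∨
        Nat.card D = 43605 ∨ Nat.card D = 26163 := by
      interval_cases k <;> omega
    have key : ∀ {n r : ℕ}, n = 17 * r → ¬ 17 ∣ r → n.factorization 17 = 1 := fun {n r} e h => by
      subst e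
      rw [Nat.factorization_mul (by norm_num) (fun h0 => h (by rw [h0]; exact dvd_zero 17)), Finsupp.add_apply,
        Nat.Prime.factorization_self Fact.out, Nat.factorization_eq_zero_of_not_dvd h]
    rcases hval with h | h | h | h | h <;> rw [h]
    · exact ⟨key (r := 23085) (by norm_num) (by norm_num), by norm_num⟩
    · exact ⟨key (r := 7695) (by norm_num) (by norm_num), by norm_num⟩
    · exact ⟨key (r := 4617) (by norm_num) (by norm_num), by norm_num⟩
    · exact ⟨key (r := 2565) (by norm_num) (by norm_num), by norm_num⟩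
    · exact ⟨key (r := 1539) (by norm_num) (by norm_num), by norm_num⟩
  obtain ⟨P⟩ : Nonempty (Sylow 17 D) := inferInstance
  have hP : Nat.card (P : Subgroup D) = 17 := by
    rw [Sylow.card_eq_multiplicity, h17.1, pow_one]
  -- the image in `J₃` is conjugate to `⟨aJ⟩`
  set R : Subgroup J3P := (P : Subgroup D).map D.subtype
  have hR : IsPGroup 17 R := P.isPGroup'.map _
  have hA : Nat.card (zpowers aJ) = 17 := by rw [Nat.card_zpowers, orderOf_aJ]
  obtain ⟨S, hS⟩ := hR.exists_le_sylow
  obtain ⟨T, hT⟩ := (IsPGroup.of_card (n := 1) (by rw [hA]; rfl) :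
    IsPGroup 17 (zpowers aJ)).exists_le_sylow
  have hS17 : ∀ U : Sylow 17 J3P, Nat.card (U : Subgroup J3P) = 17 := fun U => by
    rw [Sylow.card_eq_multiplicity, card_J3P, show 50232960 = 17 * 2954880 by norm_num,
      Nat.factorization_mul (by norm_num) (by norm_num), Finsupp.add_apply,
      Nat.Prime.factorization_self Fact.out,
      Nat.factorization_eq_zero_of_not_dvd (show ¬ 17 ∣ 2954880 by norm_num), add_zero, pow_one]
  have hTeq : zpowers aJ = (T : Subgroup J3P) := eq_of_le_of_card_ge hT (by rw [hA, hS17])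
  have hSeq : R = (S : Subgroup J3P) := eq_of_le_of_card_ge hS (by
    rw [hS17, card_map_of_injective D.subtype_injective, hP])
  obtain ⟨c, hc⟩ := MulAction.exists_smul_eq J3P S T
  have hconj : R.map (MulAut.conj c).toMonoidHom = zpowers aJ := by
    rw [hSeq, hTeq, ← hc, Sylow.coe_subgroup_smul]
    rfl
  -- `P` is its own normalizer in `D`
  have hN : normalizer ((P : Subgroup D) : Set D) ≤ (P : Subgroup D) := by
    intro g hg
    have hgo : Odd (orderOf (g : J3P)) := by
      rw [orderOf_coe]
      exact hD.of_dvd_nat (orderOf_dvd_natCard g)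
    have hgR : (g : J3P) ∈ normalizer (R : Set J3P) :=
      le_normalizer_map D.subtype ⟨g, hg, rfl⟩
    have hgA : c * g * c⁻¹ ∈ normalizer (zpowers aJ : Set J3P) := by
      rw [← hconj]
      exact le_normalizer_map (MulAut.conj c).toMonoidHom ⟨g, hgR, rfl⟩
    have := mem_zpowers_aJ hgA (by rwa [← MulAut.conj_apply, MulEquiv.orderOf_eq])
    rw [← hconj] at this
    obtain ⟨r, ⟨r', hr', rfl⟩, h⟩ := this
    have : (r' : J3P) = g := (MulAut.conj c).injective h
    exact Subtype.ext this ▸ hr'
  have hidx : Nat.card (Sylow 17 D) = Nat.card D / 17 := by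
    rw [Sylow.card_eq_index_normalizer P,
      show normalizer (P : Set D) = (P : Subgroup D) from le_antisymm hN le_normalizer]
    have h := (P : Subgroup D).card_mul_index
    rw [hP] at h
    omega
  have hmod := card_sylow_modEq_one 17 D
  rw [Nat.ModEq, hidx] at hmod
  exact h17.2 hmod

/-- A subgroup isomorphic to `J₃` containing an involution centraliser of order 1920, in a group
with one class of involutions, is the whole group. -/
theorem eq_top_of_equiv {G : Type*} [Group G] [Finite G] (z : G) (hz : orderOf z = 2)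
    (hone : ∀ x y : G, orderOf x = 2 → orderOf y = 2 → IsConj x y) (H : Subgroup G)
    (hC : Subgroup.centralizer ({z} : Set G) ≤ H)
    (hcard : Nat.card (Subgroup.centralizer ({z} : Set G)) = 1920)
    (e : H ≃* CfsgLib.J23.J3P) : H = ⊤ := by
  classical
  by_contra hne
  have hzH : z ∈ H := hC (mem_centralizer_singleton_iff.2 rfl)
  obtain ⟨hHone, -⟩ := involution_structure e
  -- centralizers of involutions of `H` lie in `H`
  have hCt : ∀ t ∈ H, orderOf t = 2 → centralizer ({t} : Set G) ≤ H := by
    intro t ht ot c hc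
    obtain ⟨h, hh⟩ := isConj_iff.1 (hHone ⟨z, hzH⟩ ⟨t, ht⟩ (by rw [orderOf_mk, hz])
      (by rw [orderOf_mk, ot]))
    have e' : (h : G) * z * (h : G)⁻¹ = t := congrArg Subtype.val hh
    have hm : (h : G)⁻¹ * c * h ∈ centralizer ({z} : Set G) := mem_centralizer_singleton_iff.2 (by
      calc (h : G)⁻¹ * c * h * z = (h : G)⁻¹ * (c * (h * z * (h : G)⁻¹)) * h := by group
        _ = (h : G)⁻¹ * (t * c) * h := by rw [e', mem_centralizer_singleton_iff.1 hc]
        _ = z * ((h : G)⁻¹ * c * h) := by rw [← e']; group)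
    have := mul_mem (mul_mem h.2 (hC hm)) (inv_mem h.2)
    simpa [mul_assoc] using this
  -- counting involutions
  have hcount : ∀ (K : Subgroup G) (w : K),
      (∀ x : K, orderOf x = 2 → IsConj w x) → orderOf w = 2 →
      Nat.card {x : K // orderOf x = 2} = (centralizer ({w} : Set K)).index := by
    intro K w hw ow
    have : (centralizer ({w} : Set K)).index = Nat.card (MulAction.orbit (ConjAct K) w) := by
      rw [Nat.card_coe_set_eq, ← MulAction.index_stabilizer]
      congr 1
      ext s
      rw [mem_centralizer_singleton_iff]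
      show _ ↔ ConjAct.toConjAct s • _ = _
      rw [ConjAct.smul_def, ConjAct.ofConjAct_toConjAct, mul_inv_eq_iff_eq_mul]
    rw [this]
    refine Nat.card_congr (Equiv.subtypeEquivRight fun x => ?_)
    rw [ConjAct.mem_orbit_conjAct]
    exact ⟨fun hx => (hw x hx).symm, fun hx => by
      obtain ⟨c, rfl⟩ := isConj_iff.1 hx.symm
      rw [← MulAut.conj_apply, MulEquiv.orderOf_eq, ow]⟩
  set I := {x : G // orderOf x = 2}
  have hI : Nat.card I * 1920 = Nat.card G := by
    have e0 : Nat.card {x : (⊤ : Subgroup G) // orderOf x = 2} = Nat.card I :=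
      Nat.card_congr ((topEquiv (G := G)).toEquiv.subtypeEquiv fun x => by
        show _ ↔ orderOf (topEquiv x) = 2
        rw [MulEquiv.orderOf_eq])
    have h := hcount ⊤ ⟨z, mem_top z⟩ (fun x hx => by
      obtain ⟨c, hc⟩ := isConj_iff.1 (hone z x hz (by rw [orderOf_coe, hx]))
      exact isConj_iff.2 ⟨⟨c, mem_top c⟩, Subtype.ext hc⟩) (by rw [orderOf_mk, hz])
    rw [e0] at h
    have hc : Nat.card (centralizer ({(⟨z, mem_top z⟩ : (⊤ : Subgroup G))} : Set (⊤ : Subgroup G)))
        = 1920 := by
      rw [← hcard]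
      exact Nat.card_congr ((topEquiv (G := G)).toEquiv.subtypeEquiv fun x => by
        simp [mem_centralizer_singleton_iff, Subtype.ext_iff])
    have h2 := (centralizer ({(⟨z, mem_top z⟩ : (⊤ : Subgroup G))} : Set _)).card_mul_index
    rw [hc, card_top, ← h] at h2
    rw [← h2, mul_comm]
  have hHI : Nat.card {x : H // orderOf x = 2} = 26163 := by
    rw [hcount H ⟨z, hzH⟩ (fun x hx => hHone _ _ (by rw [orderOf_mk, hz]) hx) (by rw [orderOf_mk, hz])]
    have hc : Nat.card (centralizer ({(⟨z, hzH⟩ : H)} : Set H)) = 1920 := by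
      rw [← hcard, ← card_map_of_injective H.subtype_injective]
      congr 2
      ext x
      simp only [mem_map, mem_centralizer_singleton_iff, coe_subtype]
      refine ⟨?_, fun hx => ⟨⟨x, hC (mem_centralizer_singleton_iff.2 hx)⟩, Subtype.ext hx, rfl⟩⟩
      rintro ⟨y, hy, rfl⟩
      exact congrArg Subtype.val hy
    have h2 := (centralizer ({(⟨z, hzH⟩ : H)} : Set H)).card_mul_index
    rw [hc, Nat.card_congr e.toEquiv, card_J3P] at h2
    omega
  -- a coset with many involutions
  have hG : Nat.card I = H.index * 26163 := by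
    have h := H.card_mul_index
    rw [Nat.card_congr e.toEquiv, card_J3P] at h
    omega
  obtain ⟨q, hq, hbig⟩ : ∃ q : G ⧸ H, q ≠ ((1 : G) : G ⧸ H) ∧
      26163 ≤ Nat.card {x : I // ((x : G) : G ⧸ H) = q} := by
    by_contra hcon
    push Not at hcon
    haveI := Fintype.ofFinite (G ⧸ H)
    have hsum : Nat.card I = ∑ q : G ⧸ H, Nat.card {x : I // ((x : G) : G ⧸ H) = q} := by
      rw [← Nat.card_sigma]
      exact (Nat.card_congr (Equiv.sigmaFiberEquiv fun x : I => ((x : G) : G ⧸ H))).symm
    have h1 : Nat.card {x : I // ((x : G) : G ⧸ H) = ((1 : G) : G ⧸ H)} = 26163 := by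
      rw [← hHI]
      exact Nat.card_congr
        { toFun := fun x => ⟨⟨x.1.1, by
            have h := QuotientGroup.eq.1 x.2.symm
            simpa using h⟩, by rw [orderOf_mk]; exact x.1.2⟩
          invFun := fun x => ⟨⟨x.1, by rw [orderOf_coe]; exact x.2⟩, by
            refine (QuotientGroup.eq.2 ?_).symm
            simpa using x.1.2⟩
          left_inv := fun x => rfl
          right_inv := fun x => rfl }
    have hlt : ∑ q : G ⧸ H, Nat.card {x : I // ((x : G) : G ⧸ H) = q} < ∑ _q : G ⧸ H, 26163 := by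
      refine Finset.sum_lt_sum (fun q _ => ?_) ?_
      · by_cases h : q = ((1 : G) : G ⧸ H)
        · rw [h, h1]
        · exact (hcon q h).le
      · obtain ⟨g, hg⟩ : ∃ g, g ∉ H := by
          by_contra h
          exact hne ((eq_top_iff' H).2 (not_exists_not.1 h))
        refine ⟨(g : G ⧸ H), Finset.mem_univ _, hcon _ fun h => hg ?_⟩
        simpa using QuotientGroup.eq.1 h.symm
    rw [← hsum, Finset.sum_const, Finset.card_univ, ← Nat.card_eq_fintype_card, ← index_eq_card,
      smul_eq_mul, ← hG] at hlt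
    exact lt_irrefl _ hlt
  haveI : Nonempty {x : I // ((x : G) : G ⧸ H) = q} := (Nat.card_pos_iff.1 (by omega)).1
  obtain ⟨⟨⟨u, hu⟩, huq⟩⟩ := ‹Nonempty {x : I // ((x : G) : G ⧸ H) = q}›
  have huH : u ∉ H := fun h => hq (by
    rw [← huq]
    exact (QuotientGroup.eq.2 (by simpa using h)).symm)
  have huu : u * u = 1 := by
    have := pow_orderOf_eq_one u
    rwa [hu, pow_two] at this
  have huinv : u⁻¹ = u := inv_eq_of_mul_eq_one_right huu
  set D : Subgroup H := (H.map (MulAut.conj u).toMonoidHom).subgroupOf H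
  have hmemD : ∀ x : H, x ∈ D ↔ u * x * u ∈ H := by
    intro x
    rw [mem_subgroupOf]
    constructor
    · rintro ⟨y, hy, e'⟩
      rw [← e', MulEquiv.coe_toMonoidHom, MulAut.conj_apply, huinv]
      rw [show u * (u * y * u) * u = (u * u) * y * (u * u) by group, huu, one_mul, mul_one]
      exact hy
    · intro h
      refine ⟨u * x * u, h, ?_⟩
      rw [MulEquiv.coe_toMonoidHom, MulAut.conj_apply, huinv]
      calc u * (u * x * u) * u = (u * u) * x * (u * u) := by group
        _ = x := by rw [huu, one_mul, mul_one]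
  -- `D` has odd order
  have hDodd : Odd (Nat.card D) := by
    rw [Nat.odd_iff]
    by_contra h
    haveI : Fact (Nat.Prime 2) := ⟨Nat.prime_two⟩
    obtain ⟨t, ht⟩ := exists_prime_orderOf_dvd_card' (G := D) 2 (Nat.dvd_of_mod_eq_zero (by omega))
    have ot : orderOf ((t : H) : G) = 2 := by rw [orderOf_coe, orderOf_coe, ht]
    have ht' : u * ((t : H) : G) * u ∈ H := (hmemD _).1 t.2
    obtain ⟨h', hh⟩ := isConj_iff.1 (hHone (t : H) ⟨_, ht'⟩ (by rw [orderOf_coe, ht]) (by
      rw [orderOf_mk]
      have : u * ((t : H) : G) * u = MulAut.conj u ((t : H) : G) := by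
        rw [MulAut.conj_apply, huinv]
      rw [this, MulEquiv.orderOf_eq, ot]))
    have e' : (h' : G) * (t : H) * (h' : G)⁻¹ = u * (t : H) * u := congrArg Subtype.val hh
    have hm : (h' : G)⁻¹ * u ∈ centralizer ({((t : H) : G)} : Set G) :=
      mem_centralizer_singleton_iff.2 (by
        calc (h' : G)⁻¹ * u * (t : H) = (h' : G)⁻¹ * (u * (t : H) * u) * u := by
              rw [show (h' : G)⁻¹ * (u * (t : H) * u) * u = (h' : G)⁻¹ * u * (t : H) * (u * u) by group,
                huu, mul_one]
          _ = (t : H) * ((h' : G)⁻¹ * u) := by rw [← e']; group)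
    exact huH (by simpa using mul_mem h'.2 (hCt _ (t : H).2 ot hm))
  -- the elements `u⁻¹ x`
  have hDbig : 26163 ≤ Nat.card D := by
    refine hbig.trans (Nat.card_le_card_of_injective (fun x =>
      (⟨⟨u * x.1.1, ?_⟩, ?_⟩ : D)) fun x y h => ?_)
    · have h := QuotientGroup.eq.1 (huq.trans x.2.symm)
      rwa [huinv] at h
    · rw [hmemD]
      have hx : (x.1.1 : G) * x.1.1 = 1 := by
        have := pow_orderOf_eq_one x.1.1
        rwa [x.1.2, pow_two] at this
      have h := QuotientGroup.eq.1 (huq.trans x.2.symm)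
      have h' := inv_mem h
      rw [huinv, mul_inv_rev, inv_eq_of_mul_eq_one_right hx, huinv] at h'
      show u * (u * x.1.1) * u ∈ H
      rwa [← mul_assoc u u, huu, one_mul]
    · exact Subtype.ext (Subtype.ext (mul_left_cancel (congrArg (fun d : D => ((d : H) : G)) h)))
  refine false_of_odd_subgroup (D.map e.toMonoidHom) ?_ ?_ <;>
    rw [card_map_of_injective e.injective] <;> assumption

end CfsgLib.JThree
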