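import Cfsg.Agent.JThree.Upper
import Cfsg.Agent.JankoTwoThree.J3Simple

/-!
# The model of `J₃` realises the local relations

Eight words in the two generators satisfy the relations and generate; with the order bound this
makes `J₃` the universal group of the relations.
-/

set_option autoImplicit false
set_option maxRecDepth 100000

namespace CfsgLib.JThree.Model

open CfsgLib.J23

/-- The word for `u`. -/
def uW : List ℕ := [2, 2, 2, 2, 3, 2, 3, 2, 3, 2, 2, 2, 1, 2, 1, 2, 2, 2, 1, 0, 0, 0, 1, 0, 0, 1, 0]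

/-- The word for `z`. -/
def zW : List ℕ := [0, 3, 2, 2, 3, 2, 2, 3, 2, 1, 2, 2, 1, 2, 2, 2, 1, 2, 2, 1, 0, 0, 1, 2, 2]

/-- The word for `y`. -/
def yW : List ℕ := [2, 3, 0, 0, 3, 2, 2, 3, 2, 3, 2, 2, 2, 1, 0, 0, 0, 1, 0, 1, 0, 0, 1, 2, 2, 1, 0]

/-- The word for `a`. -/
def aW : List ℕ := [0, 3, 0, 3, 0, 3, 0, 0, 3, 2, 1, 2, 1, 0, 0, 1, 0, 0, 1, 0, 1, 2, 1, 0, 0, 0]

/-- The word for `s`. -/
def sW : List ℕ := [2, 3, 0, 3, 2, 2, 3, 0, 0, 0, 1, 0, 0, 1, 0, 1, 0, 1, 0, 1, 0, 1, 2, 1, 0, 1]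

/-- The word for `t`. -/
def tW : List ℕ := [3, 2, 2, 3, 2, 3, 2, 3, 2, 2, 1, 2, 1, 2, 1, 0, 1, 0, 0, 1, 2, 1, 0, 0, 0]

/-- The word for `g`. -/
def gW : List ℕ := [0, 3, 2, 2, 2, 2, 1, 2, 1, 2, 1, 0, 1, 0, 1, 0, 0, 0, 0, 1, 2]

/-- The word for `b`. -/
def bW : List ℕ := [2, 3, 0, 3, 2, 3, 2, 2, 1, 2, 2, 1, 2, 1, 2, 2, 1, 2, 2, 2, 1, 0]

/-- The letters of the relators. -/
def lett : List (List ℕ) := [uW, zW, yW, aW, sW, wInv sW, tW, gW, bW]

/-- The word of a relator. -/
def relW (w : List ℕ) : List ℕ := w.flatMap fun x => lett.getD x []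

/-- The eight elements. -/
noncomputable def gJ (x : ℕ) : J3P := pW (lett.getD x [])

theorem prod_gJ : ∀ w : List ℕ, (w.map gJ).prod = pW (relW w)
  | [] => by simp [relW, pW_nil]
  | x :: w => by
    rw [List.map_cons, List.prod_cons, prod_gJ w, gJ, ← pW_append]
    simp [relW]

theorem gJ_s : gJ 5 = (gJ 4)⁻¹ := by rw [gJ, gJ, ← pW_wInv]; rfl

/-- The relators. -/
def rels : List (List ℕ) := [
  [4, 4, 4],
  [0, 2, 0, 2, 0, 2, 0, 2, 0, 2],
  [1, 2, 1, 2, 1, 2],
  [0, 1, 2, 0, 1, 2, 0, 1, 2, 0, 1, 2, 0, 1, 2],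
  [0, 1, 0, 1],
  [1, 3, 1, 3],
  [0, 3, 0, 3, 1],
  [2, 3, 2, 3, 2, 3],
  [0, 2, 1, 3, 2, 0, 2, 1, 3, 2, 0, 2, 1, 3, 2],
  [0, 1, 2, 3, 0, 1, 2, 3, 0, 1, 2, 3, 0, 1, 2, 3],
  [4, 0, 5, 0],
  [4, 1, 5, 1],
  [4, 2, 5, 2],
  [4, 3, 5, 3],
  [6, 0, 6, 0],
  [6, 1, 6, 1],
  [6, 3, 6, 3, 6, 3, 6, 3, 1],
  [4, 6, 4, 6, 4, 6],
  [6, 5, 6, 4, 6, 5, 6, 4],
  [1, 2, 0, 1, 2, 0, 2, 4, 4, 6, 5, 5, 2, 0, 2, 1, 0, 2, 1, 6],
  [7, 1, 7, 6],
  [7, 0, 7, 5, 6, 4, 6],
  [7, 4, 7, 1, 2, 0, 1, 2, 0, 2, 4, 4],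
  [7, 3, 6, 3, 7, 3, 6, 3, 7, 3, 6, 3],
  [8, 4, 8, 4],
  [8, 0, 8, 3],
  [8, 1, 8, 1],
  [8, 2, 8, 1, 2, 3, 2, 0, 2, 0],
  [8, 6, 8, 6, 8, 6, 1],
  [5, 6, 4, 3, 6, 3, 5, 6, 4, 3, 6, 3, 0, 1],
  [2, 5, 6, 4, 7, 3, 6, 3, 7, 2, 5, 6, 4, 7, 3, 6, 3, 7],
  [2, 0, 7, 1, 3, 7, 3, 1, 7, 0],
  [0, 0],
  [1, 1],
  [2, 2],
  [3, 3],
  [6, 6],
  [7, 7],
  [8, 8]]

theorem rels_ok : rels.all (fun w => wEq (relW w) []) = true := by decide +kernel

theorem rel_eq_one {w : List ℕ} (hw : w ∈ rels) : (w.map gJ).prod = 1 := by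
  rw [prod_gJ, ← pW_nil]
  exact wEq_sound (List.all_eq_true.1 rels_ok w hw)

theorem gen : Gen (gJ 0) (gJ 1) (gJ 2) (gJ 3) (gJ 4) (gJ 6) (gJ 7) (gJ 8) where
    sss := by
      simpa only [List.map_cons, List.map_nil, List.prod_cons, List.prod_nil, gJ_s, pow_succ, pow_zero,
        one_mul, mul_one, mul_assoc] using rel_eq_one (w := [4, 4, 4]) (by decide)
    uy := by
      simpa only [List.map_cons, List.map_nil, List.prod_cons, List.prod_nil, gJ_s, pow_succ, pow_zero,
        one_mul, mul_one, mul_assoc] using rel_eq_one (w := [0, 2, 0, 2, 0, 2, 0, 2, 0, 2]) (by decide)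
    zy := by
      simpa only [List.map_cons, List.map_nil, List.prod_cons, List.prod_nil, gJ_s, pow_succ, pow_zero,
        one_mul, mul_one, mul_assoc] using rel_eq_one (w := [1, 2, 1, 2, 1, 2]) (by decide)
    uzy := by
      simpa only [List.map_cons, List.map_nil, List.prod_cons, List.prod_nil, gJ_s, pow_succ, pow_zero,
        one_mul, mul_one, mul_assoc] using rel_eq_one (w := [0, 1, 2, 0, 1, 2, 0, 1, 2, 0, 1, 2, 0, 1, 2]) (by decide)
    uz := by
      simpa only [List.map_cons, List.map_nil, List.prod_cons, List.prod_nil, gJ_s, pow_succ, pow_zero,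
        one_mul, mul_one, mul_assoc] using rel_eq_one (w := [0, 1, 0, 1]) (by decide)
    za := by
      simpa only [List.map_cons, List.map_nil, List.prod_cons, List.prod_nil, gJ_s, pow_succ, pow_zero,
        one_mul, mul_one, mul_assoc] using rel_eq_one (w := [1, 3, 1, 3]) (by decide)
    uau := by
      simpa only [List.map_cons, List.map_nil, List.prod_cons, List.prod_nil, gJ_s, pow_succ, pow_zero,
        one_mul, mul_one, mul_assoc] using rel_eq_one (w := [0, 3, 0, 3, 1]) (by decide)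
    ya := by
      simpa only [List.map_cons, List.map_nil, List.prod_cons, List.prod_nil, gJ_s, pow_succ, pow_zero,
        one_mul, mul_one, mul_assoc] using rel_eq_one (w := [2, 3, 2, 3, 2, 3]) (by decide)
    uyzay := by
      simpa only [List.map_cons, List.map_nil, List.prod_cons, List.prod_nil, gJ_s, pow_succ, pow_zero,
        one_mul, mul_one, mul_assoc] using rel_eq_one (w := [0, 2, 1, 3, 2, 0, 2, 1, 3, 2, 0, 2, 1, 3, 2]) (by decide)
    w4 := by
      simpa only [List.map_cons, List.map_nil, List.prod_cons, List.prod_nil, gJ_s, pow_succ, pow_zero,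
        one_mul, mul_one, mul_assoc] using rel_eq_one (w := [0, 1, 2, 3, 0, 1, 2, 3, 0, 1, 2, 3, 0, 1, 2, 3]) (by decide)
    su := by
      simpa only [List.map_cons, List.map_nil, List.prod_cons, List.prod_nil, gJ_s, pow_succ, pow_zero,
        one_mul, mul_one, mul_assoc] using rel_eq_one (w := [4, 0, 5, 0]) (by decide)
    sz := by
      simpa only [List.map_cons, List.map_nil, List.prod_cons, List.prod_nil, gJ_s, pow_succ, pow_zero,
        one_mul, mul_one, mul_assoc] using rel_eq_one (w := [4, 1, 5, 1]) (by decide)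
    sy := by
      simpa only [List.map_cons, List.map_nil, List.prod_cons, List.prod_nil, gJ_s, pow_succ, pow_zero,
        one_mul, mul_one, mul_assoc] using rel_eq_one (w := [4, 2, 5, 2]) (by decide)
    sa := by
      simpa only [List.map_cons, List.map_nil, List.prod_cons, List.prod_nil, gJ_s, pow_succ, pow_zero,
        one_mul, mul_one, mul_assoc] using rel_eq_one (w := [4, 3, 5, 3]) (by decide)
    tu := by
      simpa only [List.map_cons, List.map_nil, List.prod_cons, List.prod_nil, gJ_s, pow_succ, pow_zero,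
        one_mul, mul_one, mul_assoc] using rel_eq_one (w := [6, 0, 6, 0]) (by decide)
    tz := by
      simpa only [List.map_cons, List.map_nil, List.prod_cons, List.prod_nil, gJ_s, pow_succ, pow_zero,
        one_mul, mul_one, mul_assoc] using rel_eq_one (w := [6, 1, 6, 1]) (by decide)
    ta := by
      simpa only [List.map_cons, List.map_nil, List.prod_cons, List.prod_nil, gJ_s, pow_succ, pow_zero,
        one_mul, mul_one, mul_assoc] using rel_eq_one (w := [6, 3, 6, 3, 6, 3, 6, 3, 1]) (by decide)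
    st := by
      simpa only [List.map_cons, List.map_nil, List.prod_cons, List.prod_nil, gJ_s, pow_succ, pow_zero,
        one_mul, mul_one, mul_assoc] using rel_eq_one (w := [4, 6, 4, 6, 4, 6]) (by decide)
    tt2 := by
      simpa only [List.map_cons, List.map_nil, List.prod_cons, List.prod_nil, gJ_s, pow_succ, pow_zero,
        one_mul, mul_one, mul_assoc] using rel_eq_one (w := [6, 5, 6, 4, 6, 5, 6, 4]) (by decide)
    rt := by
      simpa only [List.map_cons, List.map_nil, List.prod_cons, List.prod_nil, gJ_s, pow_succ, pow_zero,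
        one_mul, mul_one, mul_assoc] using rel_eq_one (w := [1, 2, 0, 1, 2, 0, 2, 4, 4, 6, 5, 5, 2, 0, 2, 1, 0, 2, 1, 6]) (by decide)
    gz := by
      simpa only [List.map_cons, List.map_nil, List.prod_cons, List.prod_nil, gJ_s, pow_succ, pow_zero,
        one_mul, mul_one, mul_assoc] using rel_eq_one (w := [7, 1, 7, 6]) (by decide)
    gu := by
      simpa only [List.map_cons, List.map_nil, List.prod_cons, List.prod_nil, gJ_s, pow_succ, pow_zero,
        one_mul, mul_one, mul_assoc] using rel_eq_one (w := [7, 0, 7, 5, 6, 4, 6]) (by decide)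
    gs := by
      simpa only [List.map_cons, List.map_nil, List.prod_cons, List.prod_nil, gJ_s, pow_succ, pow_zero,
        one_mul, mul_one, mul_assoc] using rel_eq_one (w := [7, 4, 7, 1, 2, 0, 1, 2, 0, 2, 4, 4]) (by decide)
    gx := by
      simpa only [List.map_cons, List.map_nil, List.prod_cons, List.prod_nil, gJ_s, pow_succ, pow_zero,
        one_mul, mul_one, mul_assoc] using rel_eq_one (w := [7, 3, 6, 3, 7, 3, 6, 3, 7, 3, 6, 3]) (by decide)
    bs := by
      simpa only [List.map_cons, List.map_nil, List.prod_cons, List.prod_nil, gJ_s, pow_succ, pow_zero,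
        one_mul, mul_one, mul_assoc] using rel_eq_one (w := [8, 4, 8, 4]) (by decide)
    bu := by
      simpa only [List.map_cons, List.map_nil, List.prod_cons, List.prod_nil, gJ_s, pow_succ, pow_zero,
        one_mul, mul_one, mul_assoc] using rel_eq_one (w := [8, 0, 8, 3]) (by decide)
    bz := by
      simpa only [List.map_cons, List.map_nil, List.prod_cons, List.prod_nil, gJ_s, pow_succ, pow_zero,
        one_mul, mul_one, mul_assoc] using rel_eq_one (w := [8, 1, 8, 1]) (by decide)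
    yb := by
      simpa only [List.map_cons, List.map_nil, List.prod_cons, List.prod_nil, gJ_s, pow_succ, pow_zero,
        one_mul, mul_one, mul_assoc] using rel_eq_one (w := [8, 2, 8, 1, 2, 3, 2, 0, 2, 0]) (by decide)
    bt := by
      simpa only [List.map_cons, List.map_nil, List.prod_cons, List.prod_nil, gJ_s, pow_succ, pow_zero,
        one_mul, mul_one, mul_assoc] using rel_eq_one (w := [8, 6, 8, 6, 8, 6, 1]) (by decide)
    xt2 := by
      simpa only [List.map_cons, List.map_nil, List.prod_cons, List.prod_nil, gJ_s, pow_succ, pow_zero,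
        one_mul, mul_one, mul_assoc] using rel_eq_one (w := [5, 6, 4, 3, 6, 3, 5, 6, 4, 3, 6, 3, 0, 1]) (by decide)
    yv := by
      simpa only [List.map_cons, List.map_nil, List.prod_cons, List.prod_nil, gJ_s, pow_succ, pow_zero,
        one_mul, mul_one, mul_assoc] using rel_eq_one (w := [2, 5, 6, 4, 7, 3, 6, 3, 7, 2, 5, 6, 4, 7, 3, 6, 3, 7]) (by decide)
    yg := by
      simpa only [List.map_cons, List.map_nil, List.prod_cons, List.prod_nil, gJ_s, pow_succ, pow_zero,
        one_mul, mul_one, mul_assoc] using rel_eq_one (w := [2, 0, 7, 1, 3, 7, 3, 1, 7, 0]) (by decide)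
    uu := by
      simpa only [List.map_cons, List.map_nil, List.prod_cons, List.prod_nil, gJ_s, pow_succ, pow_zero,
        one_mul, mul_one, mul_assoc] using rel_eq_one (w := [0, 0]) (by decide)
    zz := by
      simpa only [List.map_cons, List.map_nil, List.prod_cons, List.prod_nil, gJ_s, pow_succ, pow_zero,
        one_mul, mul_one, mul_assoc] using rel_eq_one (w := [1, 1]) (by decide)
    yy := by
      simpa only [List.map_cons, List.map_nil, List.prod_cons, List.prod_nil, gJ_s, pow_succ, pow_zero,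
        one_mul, mul_one, mul_assoc] using rel_eq_one (w := [2, 2]) (by decide)
    aa := by
      simpa only [List.map_cons, List.map_nil, List.prod_cons, List.prod_nil, gJ_s, pow_succ, pow_zero,
        one_mul, mul_one, mul_assoc] using rel_eq_one (w := [3, 3]) (by decide)
    tt := by
      simpa only [List.map_cons, List.map_nil, List.prod_cons, List.prod_nil, gJ_s, pow_succ, pow_zero,
        one_mul, mul_one, mul_assoc] using rel_eq_one (w := [6, 6]) (by decide)
    gg := by
      simpa only [List.map_cons, List.map_nil, List.prod_cons, List.prod_nil, gJ_s, pow_succ, pow_zero,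
        one_mul, mul_one, mul_assoc] using rel_eq_one (w := [7, 7]) (by decide)
    bb := by
      simpa only [List.map_cons, List.map_nil, List.prod_cons, List.prod_nil, gJ_s, pow_succ, pow_zero,
        one_mul, mul_one, mul_assoc] using rel_eq_one (w := [8, 8]) (by decide)

/-- The generators as products of the eight elements. -/
theorem gens_ok : wEq (relW [6, 2, 1, 7, 2, 3, 6, 2, 8, 6, 2, 1]) [0] = true ∧ wEq (relW [0, 4, 7, 8, 2, 7, 3, 7, 8, 1, 2, 8, 2]) [1] = true := by
  decide +kernel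

theorem closure_eq_top :
    Subgroup.closure ({gJ 0, gJ 1, gJ 2, gJ 3, gJ 4, gJ 6, gJ 7, gJ 8} : Set J3P) = ⊤ := by
  obtain ⟨C, hC⟩ : ∃ C, C = Subgroup.closure
      ({gJ 0, gJ 1, gJ 2, gJ 3, gJ 4, gJ 6, gJ 7, gJ 8} : Set J3P) := ⟨_, rfl⟩
  have hg : ∀ x, x < 9 → gJ x ∈ C := by
    intro x hx
    rw [hC]
    interval_cases x
    case «5» => rw [gJ_s]; exact inv_mem (Subgroup.subset_closure (by simp))
    all_goals exact Subgroup.subset_closure (by simp)
  have hw : ∀ w : List ℕ, (∀ x ∈ w, x < 9) → pW (relW w) ∈ C := by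
    intro w h
    rw [← prod_gJ]
    exact list_prod_mem fun q hq => by
      obtain ⟨x, hx, rfl⟩ := List.mem_map.1 hq
      exact hg x (h x hx)
  rw [← hC, eq_top_iff, ← closure_pW, Subgroup.closure_le]
  rintro x (rfl | rfl)
  · rw [SetLike.mem_coe, ← wEq_sound gens_ok.1]
    exact hw _ (by decide)
  · rw [SetLike.mem_coe, ← wEq_sound gens_ok.2]
    exact hw _ (by decide)

end CfsgLib.JThree.Model

namespace CfsgLib.JThree

open CfsgLib.J23

set_option linter.style.haveILetI false in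
/-- `J₃` maps onto every group generated by elements satisfying the local relations. -/
theorem Gen.exists_hom {G : Type*} [Group G] {u z y a s t g b : G} (h : Gen u z y a s t g b) :
    ∃ f : J3P →* G, f.range = Subgroup.closure ({u, z, y, a, s, t, g, b} : Set G) := by
  have hgen := Model.closure_eq_top
  have h' := Model.gen
  generalize Model.gJ 0 = u' at h' hgen
  generalize Model.gJ 1 = z' at h' hgen
  generalize Model.gJ 2 = y' at h' hgen
  generalize Model.gJ 3 = a' at h' hgen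
  generalize Model.gJ 4 = s' at h' hgen
  generalize Model.gJ 6 = t' at h' hgen
  generalize Model.gJ 7 = g' at h' hgen
  generalize Model.gJ 8 = b' at h' hgen
  have hp : Gen ((u', u) : J3P × G) (z', z) (y', y) (a', a) (s', s) (t', t) (g', g) (b', b) := by
    constructor <;>
      simp only [Prod.ext_iff, Prod.fst_mul, Prod.snd_mul, Prod.pow_fst, Prod.pow_snd, Prod.fst_one,
        Prod.snd_one, Prod.fst_inv, Prod.snd_inv,
        h.sss, h.uy, h.zy, h.uzy, h.uz, h.za, h.uau, h.ya, h.uyzay, h.w4,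
        h.su, h.sz, h.sy, h.sa, h.tu, h.tz, h.ta, h.st, h.tt2, h.rt,
        h.gz, h.gu, h.gs, h.gx, h.bs, h.bu, h.bz, h.yb, h.bt, h.xt2,
        h.yv, h.yg, h.uu, h.zz, h.yy, h.aa, h.tt, h.gg, h.bb, h'.sss,
        h'.uy, h'.zy, h'.uzy, h'.uz, h'.za, h'.uau, h'.ya, h'.uyzay, h'.w4, h'.su,
        h'.sz, h'.sy, h'.sa, h'.tu, h'.tz, h'.ta, h'.st, h'.tt2, h'.rt, h'.gz,
        h'.gu, h'.gs, h'.gx, h'.bs, h'.bu, h'.bz, h'.yb, h'.bt, h'.xt2, h'.yv,
        h'.yg, h'.uu, h'.zz, h'.yy, h'.aa, h'.tt, h'.gg, h'.bb,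
        and_self]
  obtain ⟨hfin, hcard⟩ := hp.card_le
  obtain ⟨D, hD⟩ : ∃ D : Subgroup (J3P × G), D = Subgroup.closure
      {(u', u), (z', z), (y', y), (a', a), (s', s), (t', t), (g', g), (b', b)} := ⟨_, rfl⟩
  rw [← hD] at hfin hcard
  haveI := hfin
  let π : D →* J3P := (MonoidHom.fst J3P G).comp D.subtype
  have hsurj : Function.Surjective π := by
    rw [← MonoidHom.range_eq_top, eq_top_iff, ← hgen, Subgroup.closure_le]
    rintro x (e | e | e | e | e | e | e | e) <;> rw [e]
    exacts [⟨⟨(u', u), hD ▸ Subgroup.subset_closure (by simp)⟩, rfl⟩,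
      ⟨⟨(z', z), hD ▸ Subgroup.subset_closure (by simp)⟩, rfl⟩,
      ⟨⟨(y', y), hD ▸ Subgroup.subset_closure (by simp)⟩, rfl⟩,
      ⟨⟨(a', a), hD ▸ Subgroup.subset_closure (by simp)⟩, rfl⟩,
      ⟨⟨(s', s), hD ▸ Subgroup.subset_closure (by simp)⟩, rfl⟩,
      ⟨⟨(t', t), hD ▸ Subgroup.subset_closure (by simp)⟩, rfl⟩,
      ⟨⟨(g', g), hD ▸ Subgroup.subset_closure (by simp)⟩, rfl⟩,
      ⟨⟨(b', b), hD ▸ Subgroup.subset_closure (by simp)⟩, rfl⟩]
  have hbij : Function.Bijective π :=
    (Nat.bijective_iff_surjective_and_card π).2 ⟨hsurj,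
      le_antisymm (card_J3P ▸ hcard) (Nat.card_le_card_of_surjective π hsurj)⟩
  let e := MulEquiv.ofBijective π hbij
  refine ⟨((MonoidHom.snd J3P G).comp D.subtype).comp e.symm.toMonoidHom, ?_⟩
  rw [MonoidHom.range_comp, MonoidHom.range_eq_top.2 e.symm.surjective, ← MonoidHom.range_eq_map,
    MonoidHom.range_comp, Subgroup.range_subtype, hD, MonoidHom.map_closure]
  simp only [Set.image_insert_eq, Set.image_singleton, MonoidHom.coe_snd]

end CfsgLib.JThree
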