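import Cfsg.Agent.JThree.Gens
import Cfsg.Agent.JThree.BElt
import Cfsg.Agent.JThree.Embedded
import Cfsg.Agent.JThree.Outside
import Cfsg.Agent.JThree.CentS
import Cfsg.Agent.JThree.CentLe
import Cfsg.Agent.JThree.Model
import Cfsg.Agent.JankoTwoThree.J3Simple

/-!
# Groups of `J₃` type are isomorphic to `J₃`
-/

set_option autoImplicit false
set_option linter.style.haveILetI false

namespace CfsgLib.JThree

open CfsgLib.HallJanko CfsgLib.J23

variable {G : Type*} [Group G] [Finite G] {z : G} {Q : Subgroup G}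

/-- The centraliser hypothesis in a simple group with one class of involutions. -/
theorem hyp_of_pre [IsSimpleGroup G] (h : PreCore z Q)
    (hone : ∀ x y : G, orderOf x = 2 → orderOf y = 2 → IsConj x y) : Hyp z Q :=
  { h with one := hone, out := h.exists_outside_of_one hone }

/-- The local relations. -/
theorem exists_gen (h : Hyp z Q) : ∃ (L : Loc z Q) (a y g b : G), a ∈ Q ∧
    Gen L.u z y a L.s L.t g b := by
  obtain ⟨L, a, g, y, ha, P, hl, h5⟩ := exists_part h
  obtain ⟨a', b, ha', hG⟩ := exists_gen_of h L (sig_of_five h L h5) ha P hl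
    fun a' h1 h2 h3 h4 => exists_b h L h1 h2 h3 h4
  exact ⟨L, a', y, g, b, ha', hG⟩

/-- A group of `J₃` type is isomorphic to `J₃`. -/
theorem nonempty_equiv (h : Hyp z Q) : Nonempty (G ≃* J3P) := by
  obtain ⟨L, a, y, g, b, haQ, hG⟩ := exists_gen h
  obtain ⟨H, hH⟩ : ∃ H, H = Subgroup.closure ({L.u, z, y, a, L.s, L.t, g, b} : Set G) := ⟨_, rfl⟩
  obtain ⟨f, hf⟩ := hG.exists_hom
  have hp : PreCore z Q := h.toPreCore
  have hbi : b⁻¹ = b := inv_eq_of_mul_eq_one_left hG.bb
  have hle : Subgroup.centralizer ({z} : Set G) ≤ H := by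
    have hbz : b * z = z * b := by
      have e := hG.bz
      rw [pow_two] at e
      have := eq_inv_of_mul_eq_one_left e
      rwa [mul_inv_rev, hbi, inv_eq_of_mul_eq_one_left hp.zz] at this
    have hbu : b * L.u * b⁻¹ = a := by
      rw [hbi, eq_inv_of_mul_eq_one_left hG.bu, inv_eq_of_mul_eq_one_left hG.aa]
    have hua : L.u * a * L.u * a = z := by
      rw [eq_inv_of_mul_eq_one_left hG.uau, inv_eq_of_mul_eq_one_left hp.zz]
    have hm : ∀ x ∈ ({L.u, z, y, a, L.s, L.t, g, b} : Set G), x ∈ H :=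
      fun x hx => hH ▸ Subgroup.subset_closure hx
    exact cent_le hp L haQ hua hbz hG.bb hbu (hm _ (by simp)) (hm _ (by simp))
      (hm _ (by simp)) (hm _ (by simp)) (hm _ (by simp)) (hm _ (by simp))
  have hzH : z ∈ H := hle (Subgroup.mem_centralizer_singleton_iff.2 rfl)
  haveI : IsSimpleGroup J3P := isSimpleGroup_J3P
  have hker : f.ker = ⊥ := by
    refine (IsSimpleGroup.eq_bot_or_eq_top_of_normal f.ker inferInstance).resolve_right fun e => ?_
    rw [← hH, MonoidHom.ker_eq_top_iff.1 e |> fun e' => MonoidHom.range_eq_bot_iff.2 e'] at hf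
    rw [← hf, Subgroup.mem_bot] at hzH
    exact hp.z_ne_one hzH
  have e : J3P ≃* H := (MonoidHom.ofInjective ((MonoidHom.ker_eq_bot_iff f).1 hker)).trans
    (MulEquiv.subgroupCongr (hf.trans hH.symm))
  have htop := eq_top_of_equiv z hp.hz h.one H hle hp.card_centralizer e.symm
  exact ⟨((MulEquiv.subgroupCongr htop).trans Subgroup.topEquiv).symm.trans e.symm⟩

theorem isJ3_of_equiv {G : Type*} [Group G] [IsSimpleGroup G] (e : G ≃* J3P) : Cfsg.IsJ3 G :=
  ⟨inferInstance, (Nat.card_congr e.toEquiv).trans card_J3P⟩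

theorem isoJ3_of_equiv {G : Type*} [Group G] (e : G ≃* J3P) : Cfsg.Spor.IsoJ3 G := by
  letI : Fintype GF4 := Fintype.ofFinite GF4
  refine ⟨GF4, inferInstance, inferInstance, w4, ?_, w4_spec, ⟨e.trans (equivP w4_spec).symm⟩⟩
  rw [← Nat.card_eq_fintype_card]
  exact GaloisField.card 2 2 (by norm_num)

end CfsgLib.JThree
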