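import Cfsg.Agent.HallJanko.AltSix

/-!
# The conjugate of `y` under the involution exchanging `u` and `a`, modulo the centre
-/

set_option autoImplicit false
set_option maxRecDepth 100000
set_option synthInstance.maxSize 10000
set_option synthInstance.maxHeartbeats 1000000

namespace CfsgLib.JThree

open CfsgLib.HallJanko

local notation "A6" => alternatingGroup (Fin 6)

theorem six_pair_fixed : ∀ U : A6, U ≠ Alt.six_inv → U ≠ 1 → U * U = 1 →
    U * Alt.six_inv = Alt.six_inv * U →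
    ∀ Y : A6, Y * Y = 1 → (Alt.six_inv * Y) ^ 3 = 1 → (U * Y) ^ 5 = 1 →
      (U * Alt.six_inv * Y) ^ 5 = 1 →
    ∀ A : A6, A * A = 1 → A * Alt.six_inv = Alt.six_inv * A → U * A * U * A = Alt.six_inv →
      (Y * A) ^ 3 = 1 → (U * Y * Alt.six_inv * A * Y) ^ 3 = 1 →
      (U * Alt.six_inv * Y * A) ^ 4 = 1 →
    ∀ V : A6, V * V = 1 → (Alt.six_inv * V) ^ 3 = 1 → (A * V) ^ 5 = 1 →
      (A * Alt.six_inv * V) ^ 5 = 1 → (V * U) ^ 3 = 1 → (A * V * Alt.six_inv * U * V) ^ 3 = 1 →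
      (A * Alt.six_inv * V * U) ^ 4 = 1 →
      V = U * Alt.six_inv * Y * U * Y * A * Y ∨ V = U * Y * A * Y * U * Y * Alt.six_inv ∨
        V = Y * U * A * Y * U * A ∨ V = U * Y * U * Y * A * Y * Alt.six_inv := by
  decide +kernel

theorem six_link_fixed : ∀ U : A6, U ≠ Alt.six_inv → U ≠ 1 → U * U = 1 →
    U * Alt.six_inv = Alt.six_inv * U →
    ∀ Y : A6, Y * Y = 1 → (Alt.six_inv * Y) ^ 3 = 1 → (U * Y) ^ 5 = 1 →
      (U * Alt.six_inv * Y) ^ 5 = 1 →
    ∀ A : A6, A * A = 1 → A * Alt.six_inv = Alt.six_inv * A → U * A * U * A = Alt.six_inv →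
      (Y * A) ^ 3 = 1 → (U * Y * Alt.six_inv * A * Y) ^ 3 = 1 →
      (U * Alt.six_inv * Y * A) ^ 4 = 1 →
      (A * (Alt.six_inv * Y * U * Alt.six_inv * Y * U * Y)) ^ 2 = U * Alt.six_inv := by
  decide +kernel

end CfsgLib.JThree
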