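import Cfsg.Agent.HallJanko.Rho

/-!
# Groups of `J₃` type: local data

All involutions are conjugate; `u` is a further involution of `Q`, `s` an element of order 3
centralising `z` and `u`, `t` an involution outside `Q` centralising `u` and `r` an element of
order 3 centralising `s` and `t` which permutes `z, u, u z`.
-/

set_option autoImplicit false
set_option linter.style.haveILetI false
set_option linter.unusedSectionVars false

namespace CfsgLib.JThree

open CfsgLib.HallJanko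

variable {G : Type*} [Group G] [Finite G] {z : G} {Q : Subgroup G}

/-- The hypotheses: one class of involutions, and an involution of `C(z)` outside `Q`. -/
structure Hyp (z : G) (Q : Subgroup G) : Prop extends PreCore z Q where
  one : ∀ x y : G, orderOf x = 2 → orderOf y = 2 → IsConj x y
  out : ∃ t : G, t * z = z * t ∧ t * t = 1 ∧ t ∉ Q

instance : Coe (Hyp z Q) (PreCore z Q) := ⟨Hyp.toPreCore⟩

/-- The involutions outside `Q` centralising a given pair. -/
theorem card_J (h : PreCore z Q) (F : Frame z Q) {t₀ : G} (ht : t₀ * z = z * t₀) (ht2 : t₀ * t₀ = 1) (htQ : t₀ ∉ Q) (i : Fin 5) :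
    Nat.card {x : G // (x * z = z * x ∧ x * x = 1 ∧ x ∉ Q) ∧ x * F.a i = F.a i * x} = 24 := by
  classical
  haveI := Fintype.ofFinite G
  let S := {x : G // x * z = z * x ∧ x * x = 1 ∧ x ∉ Q}
  let J := fun j => {x : G // (x * z = z * x ∧ x * x = 1 ∧ x ∉ Q) ∧ x * F.a j = F.a j * x}
  let fp : S → Fin 5 := fun x => (F.exists_fixed h x.2.1 x.2.2.1 x.2.2.2).choose
  have hfp : ∀ (x : S) j, fp x = j ↔ (x : G) * F.a j = F.a j * x := by
    intro x j
    obtain ⟨-, hu, hc⟩ := (F.exists_fixed h x.2.1 x.2.2.1 x.2.2.2).choose_spec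
    exact ⟨fun e => e ▸ hc, fun e => (hu j (F.fix_of_commute h x.2.1 e)).symm⟩
  let fib : ∀ j, {x : S // fp x = j} ≃ J j := fun j =>
    ⟨fun x => ⟨x.1.1, x.1.2, (hfp _ _).1 x.2⟩, fun x => ⟨⟨x.1, x.2.1⟩, (hfp _ _).2 x.2.2⟩,
      fun x => rfl, fun x => rfl⟩
  have hsum : ∑ j, Nat.card (J j) = 120 := by
    rw [← (F.outside_main h ht ht2 htQ).2.1, ← Nat.card_congr (Equiv.sigmaFiberEquiv fp),
      Nat.card_sigma]
    exact Finset.sum_congr rfl fun j _ => (Nat.card_congr (fib j)).symm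
  have hall : ∀ j k, Nat.card (J j) = Nat.card (J k) := by
    intro j k
    have hle : ∀ a b : Fin 5, Nat.card (J a) ≤ Nat.card (J b) := by
      intro a b
      obtain ⟨g, hg⟩ := Alt.transitive a b
      obtain ⟨c, hc⟩ := F.surj g
      have hcz := Subgroup.mem_centralizer_singleton_iff.1 c.2
      have he : Eqz z (F.a b) ((c : G) * F.a a * (c : G)⁻¹) := by
        have := F.act c a
        rw [hc, hg] at this
        exact h.eqz_symm this
      refine Nat.card_le_card_of_injective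
        (fun x : J a => (⟨(c : G) * x * (c : G)⁻¹, ?_, ?_⟩ : J b))
        fun a b e => Subtype.ext (mul_left_cancel (mul_right_cancel (congrArg Subtype.val e)))
      · obtain ⟨⟨x1, x2, x3⟩, -⟩ := x.2
        refine ⟨?_, ?_, fun hm => x3 ?_⟩
        · exact (((show Commute (c : G) z from hcz).mul_left x1).mul_left
            (show Commute (c : G) z from hcz).inv_left).eq
        · rw [show (c : G) * x * (c : G)⁻¹ * ((c : G) * x * (c : G)⁻¹) =
            (c : G) * ((x : G) * x) * (c : G)⁻¹ by group, x2, mul_one, mul_inv_cancel]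
        · have := h.hn (c : G)⁻¹ (show Commute (c : G) z from hcz).inv_left.eq _ hm
          rwa [show (c : G)⁻¹ * ((c : G) * x * (c : G)⁻¹) * (c : G)⁻¹⁻¹ = x by group] at this
      · obtain ⟨⟨x1, -, -⟩, hx⟩ := x.2
        have h1 : Commute ((c : G) * x * (c : G)⁻¹) ((c : G) * F.a a * (c : G)⁻¹) :=
          (SemiconjBy.conj_iff).2 hx
        have h2 : Commute ((c : G) * x * (c : G)⁻¹) z :=
          ((show Commute (c : G) z from hcz).mul_left x1).mul_left
            (show Commute (c : G) z from hcz).inv_left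
        rcases he with e | e <;> rw [e]
        · exact h1.eq
        · exact (h1.mul_right h2).eq
    exact le_antisymm (hle j k) (hle k j)
  rw [Finset.sum_congr rfl fun j _ => hall j i, Finset.sum_const, Finset.card_univ,
    Fintype.card_fin, smul_eq_mul] at hsum
  show Nat.card (J i) = 24
  omega

namespace Hyp

variable (h : Hyp z Q)
include h

theorem conj_of {x : G} (h1 : x ≠ 1) (h2 : x * x = 1) : IsConj z x :=
  h.one z x h.hz (CfsgLib.Small.orderOf_eq_two_iff_sq.2 ⟨h1, h2⟩)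

theorem inE_of_mem (F : Frame z Q) (f : Fin 5) {x : G} (hx : x ∈ Q) (hx2 : x * x = 1)
    (hxf : x * F.a f = F.a f * x) :
    x = 1 ∨ x = z ∨ x = F.a f ∨ x = F.a f * z := by
  rcases F.centralizer_a h f hx hxf.symm with (e | e) | (e | e) | ⟨i, j, hij, -, -, e⟩
  · exact Or.inl e
  · exact Or.inr (Or.inl (by rw [e, one_mul]))
  · exact Or.inr (Or.inr (Or.inl e))
  · exact Or.inr (Or.inr (Or.inr e))
  · exfalso
    have := h.eqz_sq (Q.mul_mem (F.mem i) (F.mem j)) e
    rw [hx2, F.sq4 h i j hij] at this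
    exact h.z_ne_one this.symm

/-- If `u = g z g⁻¹` is an involution of `Q` then `z` lies in `g Q g⁻¹`. -/
theorem mem_conj (F : Frame z Q) (f : Fin 5) {g : G} (hg : g * z * g⁻¹ = F.a f) :
    g⁻¹ * z * g ∈ Q := by
  obtain ⟨s, hs, hs3, hsu⟩ := F.exists_three h f
  obtain ⟨w, hw⟩ : ∃ w, w = g⁻¹ * z * g := ⟨_, rfl⟩
  rw [← hw]
  by_contra hwQ
  have hc := h.hQC _ (F.mem f)
  have hwz : w * z = z * w := by
    rw [hw]
    calc g⁻¹ * z * g * z = g⁻¹ * (z * (g * z * g⁻¹)) * g := by group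
      _ = z * (g⁻¹ * z * g) := by rw [hg, ← hc, ← hg]; group
  have hw2 : w * w = 1 := by
    rw [hw, show g⁻¹ * z * g * (g⁻¹ * z * g) = g⁻¹ * (z * z) * g by group, h.zz]; group
  obtain ⟨k, hk⟩ : ∃ k, k = g⁻¹ * s * g := ⟨_, rfl⟩
  have hkz : k * z = z * k := by
    rw [hk]
    calc g⁻¹ * s * g * z = g⁻¹ * (s * (g * z * g⁻¹)) * g := by group
      _ = z * (g⁻¹ * s * g) := by rw [hg, hsu, ← hg]; group
  have hkw : k * w = w * k := by
    rw [hk, hw]
    calc g⁻¹ * s * g * (g⁻¹ * z * g) = g⁻¹ * (s * z) * g := by group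
      _ = g⁻¹ * z * g * (g⁻¹ * s * g) := by rw [hs]; group
  obtain ⟨f', hf', hu', hc'⟩ := F.exists_fixed h hwz hw2 hwQ
  have hkk := (F.cent_outside h hwz hw2 hwQ hf' hu' hc' hkz hkw).1
  have hss : s ^ 2 = 1 := by
    rw [pow_two]
    calc s * s = g * (k * k) * g⁻¹ := by rw [hk]; group
      _ = 1 := by rw [hkk, mul_one, mul_inv_cancel]
  have hd := orderOf_dvd_of_pow_eq_one hss
  rw [hs3] at hd
  norm_num at hd

/-- An element centralising `u` and moving `z` to `z * u`. -/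
theorem exists_swap (F : Frame z Q) (f : Fin 5) :
    ∃ k : G, k * z * k⁻¹ = z * F.a f ∧ k * F.a f * k⁻¹ = F.a f := by
  obtain ⟨g, hg⟩ := isConj_iff.1 (h.conj_of (F.ne_one f) (F.sq f))
  obtain ⟨w, hw⟩ : ∃ w, w = g⁻¹ * z * g := ⟨_, rfl⟩
  have hwQ : w ∈ Q := hw ▸ h.mem_conj F f hg
  have hwne : w ≠ z := fun e => F.ne_z f (by
    rw [← hg]
    calc g * z * g⁻¹ = g * (g⁻¹ * z * g) * g⁻¹ := by rw [← hw, e]
      _ = z := by group)
  have hw1 : w ≠ 1 := fun e => h.z_ne_one (by
    calc z = g * (g⁻¹ * z * g) * g⁻¹ := by group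
      _ = 1 := by rw [← hw, e, mul_one, mul_inv_cancel])
  obtain ⟨q, hq, hne⟩ : ∃ q ∈ Q, w * q ≠ q * w := by
    by_contra! hh
    rcases h.hcenter w hwQ hh with e | e
    · exact hw1 e
    · exact hwne e
  have hqw : q * w * q⁻¹ = w * z := by
    have e := (h.hcomm q hq w hwQ).resolve_left fun e => hne e.symm
    rw [e, mul_assoc (w * q), ← h.hQC _ (Q.inv_mem hq), ← mul_assoc, mul_inv_cancel_right]
  refine ⟨g * q * g⁻¹, ?_, ?_⟩
  · calc g * q * g⁻¹ * z * (g * q * g⁻¹)⁻¹ = g * (q * (g⁻¹ * z * g) * q⁻¹) * g⁻¹ := by group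
      _ = z * (g * z * g⁻¹) := by rw [← hw, hqw, hw]; group
      _ = z * F.a f := by rw [hg]
  · rw [← hg]
    calc g * q * g⁻¹ * (g * z * g⁻¹) * (g * q * g⁻¹)⁻¹ = g * (q * z * q⁻¹) * g⁻¹ := by group
      _ = g * z * g⁻¹ := by rw [h.hQC q hq, mul_inv_cancel_right]

/-- The local data exists. -/
theorem exists_loc (F : Frame z Q) (f : Fin 5) {s : G} (hs : s * z = z * s) (hs3 : orderOf s = 3)
    (hsu : s * F.a f = F.a f * s) : ∃ L : Loc z Q, L.F = F ∧ L.f = f ∧ L.s = s := by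
  classical
  haveI := Fintype.ofFinite G
  haveI := Fact.mk Nat.prime_three
  obtain ⟨t₀, ht₀, ht₀2, ht₀Q⟩ := h.out
  obtain ⟨u, hu⟩ : ∃ u, u = F.a f := ⟨_, rfl⟩
  rw [← hu] at hsu
  have huQ : u ∈ Q := hu ▸ F.mem f
  have huu : u * u = 1 := hu ▸ F.sq f
  have huz : u * z = z * u := h.hQC u huQ
  have hu1 : u ≠ 1 := hu ▸ F.ne_one f
  have hunz : u ≠ z := hu ▸ F.ne_z f
  let E : Subgroup G :=
    { carrier := {1, z, u, u * z}
      one_mem' := Or.inl rfl
      mul_mem' := by
        have hzu : ∀ x : G, z * (u * x) = u * (z * x) := fun x => by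
          rw [← mul_assoc, ← huz, mul_assoc]
        rintro a b (rfl | rfl | rfl | rfl) (rfl | rfl | rfl | rfl) <;>
          simp [Set.mem_insert_iff, mul_assoc, h.zz, huu, hzu, ← huz] <;>
          simp [← mul_assoc, huu]
      inv_mem' := by
        rintro a (rfl | rfl | rfl | rfl) <;>
          simp [Set.mem_insert_iff, inv_eq_of_mul_eq_one_left h.zz, inv_eq_of_mul_eq_one_left huu,
            ← huz] }
  have hzE : z ∈ E := Or.inr (Or.inl rfl)
  have huE : u ∈ E := Or.inr (Or.inr (Or.inl rfl))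
  have hEcard : Nat.card E ≤ 4 := by
    show Nat.card ({1, z, u, u * z} : Set G) ≤ 4
    rw [Nat.card_coe_set_eq]
    calc ({1, z, u, u * z} : Set G).ncard ≤ ({z, u, u * z} : Set G).ncard + 1 :=
          Set.ncard_insert_le _ _
      _ ≤ ({u, u * z} : Set G).ncard + 1 + 1 := by gcongr; exact Set.ncard_insert_le _ _
      _ ≤ ({u * z} : Set G).ncard + 1 + 1 + 1 := by gcongr; exact Set.ncard_insert_le _ _
      _ = 4 := by rw [Set.ncard_singleton]
  set N := Subgroup.normalizer (E : Set G) with hNdef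
  let ψ : N →* Equiv.Perm E := (MulAut.toPerm E).comp (Subgroup.normalizerMonoidHom E)
  have hψ : ∀ (g : N) (e : E), ((ψ g e : E) : G) = (g : G) * e * (g : G)⁻¹ := fun g e => rfl
  have hker : ∀ g : N, ψ g = 1 ↔ ((g : G) * z = z * g ∧ (g : G) * u = u * g) := by
    intro g
    constructor
    · intro e
      refine ⟨mul_inv_eq_iff_eq_mul.1 ?_, mul_inv_eq_iff_eq_mul.1 ?_⟩
      · rw [← hψ g ⟨z, hzE⟩, e]; rfl
      · rw [← hψ g ⟨u, huE⟩, e]; rfl
    · rintro ⟨e1, e2⟩
      refine Equiv.ext fun x => Subtype.ext ?_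
      rw [hψ]
      show (g : G) * x * (g : G)⁻¹ = (x : G)
      rw [mul_inv_eq_iff_eq_mul]
      obtain ⟨x, hx | hx | hx | hx⟩ := x <;> subst hx
      · simp
      · exact e1
      · exact e2
      · exact ((show Commute (g : G) u from e2).mul_right e1).eq
  have hmemN : ∀ g : G, g * z * g⁻¹ ∈ E → g * u * g⁻¹ ∈ E → g ∈ N := by
    intro g h1 h2
    have hsub : ∀ x ∈ E, g * x * g⁻¹ ∈ E := by
      rintro x (rfl | rfl | rfl | rfl)
      · simpa using E.one_mem
      · exact h1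
      · exact h2
      · rw [show g * (u * z) * g⁻¹ = g * u * g⁻¹ * (g * z * g⁻¹) by group]
        exact E.mul_mem h2 h1
    rw [hNdef, Subgroup.mem_normalizer_iff]
    refine fun x => ⟨hsub x, fun hx => ?_⟩
    obtain ⟨⟨w, hw⟩, hwx⟩ := Finite.surjective_of_injective
      (f := fun w : E => (⟨g * w * g⁻¹, hsub w w.2⟩ : E))
      (fun a b e => Subtype.ext (mul_left_cancel (mul_right_cancel (congrArg Subtype.val e))))
      ⟨_, hx⟩
    have e : g * w * g⁻¹ = g * x * g⁻¹ := congrArg Subtype.val hwx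
    rw [← mul_left_cancel (mul_right_cancel e)]
    exact hw
  -- divisibility
  have hsN : s ∈ N := hmemN s (by rw [hs, mul_inv_cancel_right]; exact hzE)
    (by rw [hsu, mul_inv_cancel_right]; exact huE)
  have hk9 : ¬ 9 ∣ Nat.card ψ.ker := by
    intro h9
    have hd : Nat.card ψ.ker ∣ Nat.card (Subgroup.centralizer ({z} : Set G)) := by
      rw [Nat.card_congr (Subgroup.equivMapOfInjective ψ.ker N.subtype N.subtype_injective).toEquiv]
      refine Subgroup.card_dvd_of_le ?_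
      rintro _ ⟨g, hg, rfl⟩
      exact Subgroup.mem_centralizer_singleton_iff.2 ((hker g).1 hg).1
    rw [h.card_centralizer] at hd
    exact absurd (h9.trans hd) (by norm_num)
  have hk3 : 3 ∣ Nat.card ψ.ker := by
    have : (⟨s, hsN⟩ : N) ∈ ψ.ker := (hker _).2 ⟨hs, hsu⟩
    have e := Subgroup.orderOf_dvd_natCard _ this
    rwa [Subgroup.orderOf_mk, hs3] at e
  obtain ⟨k, hkz, hku⟩ := h.exists_swap F f
  rw [← hu] at hkz hku
  obtain ⟨q, hqQ, hqu⟩ : ∃ q ∈ Q, q * u * q⁻¹ = u * z := by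
    obtain ⟨j, hj⟩ := exists_ne f
    refine ⟨F.a j, F.mem j, ?_⟩
    rw [hu, inv_eq_of_mul_eq_one_left (F.sq j), F.nc j f hj, mul_assoc (F.a f * F.a j) z,
      ← h.hQC _ (F.mem j), ← mul_assoc, mul_assoc (F.a f), F.sq j, mul_one]
  obtain ⟨m, hm⟩ : ∃ m, m = k * q := ⟨_, rfl⟩
  have hmz : m * z * m⁻¹ = u * z := by
    rw [hm, show k * q * z * (k * q)⁻¹ = k * (q * z * q⁻¹) * k⁻¹ by group, h.hQC q hqQ,
      mul_inv_cancel_right, hkz, huz]
  have hmu : m * u * m⁻¹ = z := by
    rw [hm, show k * q * u * (k * q)⁻¹ = k * (q * u * q⁻¹) * k⁻¹ by group, hqu,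
      show k * (u * z) * k⁻¹ = k * u * k⁻¹ * (k * z * k⁻¹) by group, hku, hkz, ← huz, ← mul_assoc,
      huu, one_mul]
  have hmN : m ∈ N := hmemN m (by rw [hmz]; exact Or.inr (Or.inr (Or.inr rfl)))
    (by rw [hmu]; exact hzE)
  have hr3' : 3 ∣ Nat.card ψ.range := by
    have hm3 : orderOf (ψ ⟨m, hmN⟩) = 3 := by
      refine orderOf_eq_prime ?_ fun e => ?_
      · refine Equiv.ext fun x => Subtype.ext ?_
        rw [pow_succ, pow_two, Equiv.Perm.mul_apply, Equiv.Perm.mul_apply, hψ, hψ, hψ]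
        show m * (m * (m * (x : G) * m⁻¹) * m⁻¹) * m⁻¹ = (x : G)
        have huzm : m * (u * z) * m⁻¹ = u := by
          rw [show m * (u * z) * m⁻¹ = m * u * m⁻¹ * (m * z * m⁻¹) by group, hmu, hmz, huz,
            ← mul_assoc, h.zz, one_mul]
        obtain ⟨x, hx | hx | hx | hx⟩ := x <;> subst hx
        · group
        · rw [hmz, huzm, hmu]
        · rw [hmu, hmz, huzm]
        · rw [huzm, hmu, hmz]
      · have := congrArg (fun p : Equiv.Perm E => ((p ⟨u, huE⟩ : E) : G)) e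
        simp only [hψ, Equiv.Perm.coe_one, id_eq] at this
        rw [hmu] at this
        exact hunz this.symm
    have := Subgroup.orderOf_dvd_natCard ψ.range (MonoidHom.mem_range.2 ⟨⟨m, hmN⟩, rfl⟩)
    rwa [hm3] at this
  have hr9 : ¬ 9 ∣ Nat.card ψ.range := by
    intro h9
    have hd : Nat.card ψ.range ∣ Nat.factorial (Nat.card E) :=
      Nat.card_perm (α := E) ▸ Subgroup.card_subgroup_dvd_card ψ.range
    exact absurd (h9.trans (hd.trans (Nat.factorial_dvd_factorial hEcard))) (by decide)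
  have hN : Nat.card N = Nat.card ψ.ker * Nat.card ψ.range := by
    rw [← Subgroup.index_ker, Subgroup.card_mul_index]
  have hs' : IsPGroup 3 (Subgroup.zpowers (⟨s, hsN⟩ : N)) := IsPGroup.of_card (n := 1) (by
    rw [Nat.card_zpowers, Subgroup.orderOf_mk, hs3, pow_one])
  obtain ⟨P, hP⟩ := hs'.exists_le_sylow
  have hPcard : Nat.card P = 9 := by
    obtain ⟨n, hn⟩ := P.2.exists_card_eq
    have hidx : ¬ 3 ∣ (P : Subgroup N).index := P.not_dvd_index
    have hmul := Subgroup.card_mul_index (P : Subgroup N)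
    rw [hn, hN] at hmul
    obtain ⟨a, ha⟩ := hk3
    obtain ⟨b, hb⟩ := hr3'
    rw [ha, hb] at hmul
    have ha3 : ¬ 3 ∣ a := fun e => hk9 (ha ▸ by obtain ⟨c, rfl⟩ := e; exact ⟨c, by ring⟩)
    have hb3 : ¬ 3 ∣ b := fun e => hr9 (hb ▸ by obtain ⟨c, rfl⟩ := e; exact ⟨c, by ring⟩)
    have hn2 : n = 2 := by
      rcases lt_trichotomy n 2 with hlt | rfl | hgt
      · exfalso
        apply hidx
        interval_cases n
        · exact ⟨3 * (a * b), by rw [pow_zero, one_mul] at hmul; rw [hmul]; ring⟩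
        · exact ⟨a * b, by rw [pow_one] at hmul; linarith⟩
      · rfl
      · exfalso
        obtain ⟨d, rfl⟩ : ∃ d, n = 3 + d := ⟨n - 3, by omega⟩
        have : 3 ∣ a * b := ⟨3 ^ d * (P : Subgroup N).index, by rw [pow_add] at hmul; linarith⟩
        rcases Nat.prime_three.dvd_mul.1 this with e | e
        exacts [ha3 e, hb3 e]
    rw [hn2] at hn
    exact hn
  have hPcomm : ∀ a b : P, a * b = b * a := fun a b =>
    IsPGroup.commutative_of_card_eq_prime_sq (p := 3) hPcard a b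
  let J := {x : G // (x * z = z * x ∧ x * x = 1 ∧ x ∉ Q) ∧ x * F.a f = F.a f * x}
  have hconjJ : ∀ (g : N) (x : J), ((g : G) * x * (g : G)⁻¹ * z = z * ((g : G) * x * (g : G)⁻¹) ∧
      (g : G) * x * (g : G)⁻¹ * ((g : G) * x * (g : G)⁻¹) = 1 ∧ (g : G) * x * (g : G)⁻¹ ∉ Q) ∧
      (g : G) * x * (g : G)⁻¹ * F.a f = F.a f * ((g : G) * x * (g : G)⁻¹) := by
    intro g x
    obtain ⟨⟨x1, x2, x3⟩, x4'⟩ := x.2
    have x4 : (x : G) * u = u * x := by rw [hu]; exact x4'
    have hcE : ∀ e ∈ E, Commute (x : G) e := by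
      rintro e (rfl | rfl | rfl | rfl)
      exacts [Commute.one_right _, x1, x4, (show Commute (x : G) u from x4).mul_right x1]
    have hcc : ∀ e ∈ E, Commute ((g : G) * x * (g : G)⁻¹) e := by
      intro e he
      have he' : (g : G)⁻¹ * e * (g : G)⁻¹⁻¹ ∈ E :=
        (Subgroup.mem_normalizer_iff.1 (N.inv_mem g.2) e).1 he
      have := (SemiconjBy.conj_iff (b := (g : G))).2 (hcE _ he')
      rwa [show (g : G) * ((g : G)⁻¹ * e * (g : G)⁻¹⁻¹) * (g : G)⁻¹ = e by group] at this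
    have hx2' : (g : G) * x * (g : G)⁻¹ * ((g : G) * x * (g : G)⁻¹) = 1 := by
      rw [show (g : G) * x * (g : G)⁻¹ * ((g : G) * x * (g : G)⁻¹) =
        (g : G) * ((x : G) * x) * (g : G)⁻¹ by group, x2, mul_one, mul_inv_cancel]
    refine ⟨⟨(hcc z hzE).eq, hx2', fun hm' => ?_⟩, (hcc (F.a f) (hu ▸ huE)).eq⟩
    have hx2o : orderOf ((g : G) * x * (g : G)⁻¹) = 2 := by
      rw [CfsgLib.Small.orderOf_conj_eq]
      exact CfsgLib.Small.orderOf_eq_two_iff_sq.2 ⟨fun e => x3 (by rw [e]; exact Q.one_mem), x2⟩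
    have hgE : (g : G) * x * (g : G)⁻¹ ∈ E := by
      rcases h.inE_of_mem F f hm' hx2' (hcc (F.a f) (hu ▸ huE)).eq with e | e | e | e <;>
        rw [e] <;> first | exact E.one_mem | exact hzE | (rw [← hu]; exact huE) |
          (rw [← hu]; exact E.mul_mem huE hzE)
    have hxE : (x : G) ∈ E := by
      have := (Subgroup.mem_normalizer_iff.1 (N.inv_mem g.2) _).1 hgE
      rwa [show (g : G)⁻¹ * ((g : G) * x * (g : G)⁻¹) * (g : G)⁻¹⁻¹ = (x : G) by group] at this
    refine x3 ?_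
    rcases hxE with e | e | e | e <;> rw [e]
    exacts [Q.one_mem, h.hzQ, huQ, Q.mul_mem huQ h.hzQ]
  letI : MulAction P J :=
    { smul := fun p x => ⟨(((p : N) : G)) * x * ((p : N) : G)⁻¹, hconjJ p x⟩
      one_smul := fun x => Subtype.ext (by
        show (((1 : P) : N) : G) * x * (((1 : P) : N) : G)⁻¹ = x
        simp)
      mul_smul := fun a b x => Subtype.ext (by
        show (((a * b : P) : N) : G) * x * (((a * b : P) : N) : G)⁻¹ =
          ((a : N) : G) * (((b : N) : G) * x * ((b : N) : G)⁻¹) * ((a : N) : G)⁻¹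
        simp only [Subgroup.coe_mul]
        group) }
  obtain ⟨x, hx⟩ : ∃ x : J, MulAction.stabilizer P x ≠ ⊥ := by
    by_contra! hh
    have horb : ∀ x : J, Nat.card (MulAction.orbit P x) = 9 := fun x => by
      rw [← hPcard, Nat.card_congr (MulAction.orbitEquivQuotientStabilizer P x), hh x]
      exact Nat.card_congr (QuotientGroup.quotientBot).toEquiv
    have hd : 9 ∣ Nat.card J := by
      rw [Nat.card_congr (MulAction.selfEquivSigmaOrbits P J), Nat.card_sigma]
      refine Finset.dvd_sum fun o _ => ?_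
      rw [horb]
    rw [card_J h F ht₀ ht₀2 ht₀Q f] at hd
    norm_num at hd
  obtain ⟨⟨x1, x2, x3⟩, x4⟩ := x.2
  obtain ⟨⟨p, hp⟩, hp3⟩ : ∃ p : MulAction.stabilizer P x, orderOf p = 3 := by
    refine exists_prime_orderOf_dvd_card' 3 ?_
    have hd : Nat.card (MulAction.stabilizer P x) ∣ 3 ^ 2 := by
      have hd' := Subgroup.card_subgroup_dvd_card (MulAction.stabilizer P x)
      rwa [hPcard] at hd'
    obtain ⟨j, hj, hcj⟩ := (Nat.dvd_prime_pow Nat.prime_three).1 hd
    rcases j with _ | j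
    · exact absurd (Subgroup.eq_bot_of_card_eq _ hcj) hx
    · exact hcj ▸ dvd_pow_self 3 (Nat.succ_ne_zero j)
  have hp3' : orderOf ((p : N) : G) = 3 := by
    rw [Subgroup.orderOf_coe, Subgroup.orderOf_coe]
    exact (Subgroup.orderOf_coe (⟨p, hp⟩ : MulAction.stabilizer P x)).trans hp3
  have hpx : ((p : N) : G) * x = x * ((p : N) : G) :=
    mul_inv_eq_iff_eq_mul.1 (congrArg (fun y : J => (y : G)) (MulAction.mem_stabilizer_iff.1 hp))
  have hps : ((p : N) : G) * s = s * ((p : N) : G) := by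
    have hsP : (⟨s, hsN⟩ : N) ∈ (P : Subgroup N) := hP (Subgroup.mem_zpowers _)
    exact congrArg (fun y : P => ((y : N) : G)) (hPcomm p ⟨_, hsP⟩)
  have hpE : ∀ e ∈ E, ((p : N) : G) * e * ((p : N) : G)⁻¹ ∈ E := fun e he =>
    (Subgroup.mem_normalizer_iff.1 (p : N).2 e).1 he
  have hz1 := h.z_ne_one
  have huz1 : u * z ≠ 1 := fun e => hunz (by
    calc u = u * (z * z) := by rw [h.zz, mul_one]
      _ = z := by rw [← mul_assoc, e, one_mul])
  obtain ⟨g, hg⟩ : ∃ g, g = ((p : N) : G) := ⟨_, rfl⟩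
  rw [← hg] at hp3' hpx hps hpE
  have huzm' : ∀ {y : G}, g * y = y * g → g * y * g⁻¹ = y := fun e => mul_inv_eq_of_eq_mul e
  have hg3 : g * g * g = 1 := by
    have := pow_orderOf_eq_one g
    rwa [hp3', pow_succ, pow_two] at this
  -- `g` does not centralise `z`
  have hnz : g * z ≠ z * g := by
    intro e
    obtain ⟨f', hf', hu', hc'⟩ := F.exists_fixed h x1 x2 x3
    have hh := (F.cent_outside h x1 x2 x3 hf' hu' hc' e hpx).1
    rw [hh, one_mul] at hg3
    rw [hg3, orderOf_one] at hp3'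
    norm_num at hp3'
  have hmove : ∀ {y : G}, g * y * g⁻¹ = y → (g * z * g⁻¹ = y → g * z = z * g) := by
    intro y e1 e2
    have : z = y := mul_left_cancel (mul_right_cancel (e2.trans e1.symm))
    exact mul_inv_eq_iff_eq_mul.1 (by rw [e2, this])
  have hcube : ∀ y : G, g * (g * (g * y * g⁻¹) * g⁻¹) * g⁻¹ = y := fun y => by
    rw [show g * (g * (g * y * g⁻¹) * g⁻¹) * g⁻¹ = g * g * g * y * (g * g * g)⁻¹ by group, hg3]
    group
  have hgz : g * z * g⁻¹ = u ∨ g * z * g⁻¹ = u * z := by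
    rcases hpE z hzE with e | e | e | e
    · exact absurd (conj_eq_one_iff.1 e) hz1
    · exact absurd (mul_inv_eq_iff_eq_mul.1 e) hnz
    · exact Or.inl e
    · exact Or.inr e
  have hgu : g * u * g⁻¹ ≠ u := fun e => by
    rcases hgz with e1 | e1
    · exact hnz (hmove e e1)
    · -- then `g` interchanges two elements
      have e2 : g * (u * z) * g⁻¹ = z := by
        rw [show g * (u * z) * g⁻¹ = g * u * g⁻¹ * (g * z * g⁻¹) by group, e, e1, ← mul_assoc, huu,
          one_mul]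
      have := hcube z
      rw [e1, e2, e1] at this
      exact hu1 (mul_eq_right.1 this)
  rcases hgz with e1 | e1
  · have e2 : g * u * g⁻¹ = u * z := by
      rcases hpE u huE with e | e | e | e
      · exact absurd (conj_eq_one_iff.1 e) hu1
      · exfalso
        have := hcube z
        rw [e1, e, e1] at this
        exact hunz this
      · exact absurd e hgu
      · exact e
    exact ⟨⟨F, f, s, x, g, hs, hs3, hu ▸ hsu, x1, x2, x3, x4, hp3', hps, hpx, hu ▸ e1,
      hu ▸ e2⟩, rfl, rfl, rfl⟩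
  · have e2 : g * u * g⁻¹ = z := by
      rcases hpE u huE with e | e | e | e
      · exact absurd (conj_eq_one_iff.1 e) hu1
      · exact e
      · exact absurd e hgu
      · exact absurd (mul_left_cancel (mul_right_cancel (e.trans e1.symm))) hunz
    have e3 : g * (u * z) * g⁻¹ = u := by
      rw [show g * (u * z) * g⁻¹ = g * u * g⁻¹ * (g * z * g⁻¹) by group, e2, e1, huz, ← mul_assoc,
        h.zz, one_mul]
    have hgg3 : orderOf (g * g) = 3 := by
      rw [← pow_two, Nat.Coprime.orderOf_pow (by rw [hp3']; norm_num), hp3']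
    refine ⟨⟨F, f, s, x, g * g, hs, hs3, hu ▸ hsu, x1, x2, x3, x4, hgg3,
      ((show Commute g s from hps).mul_left hps).eq, ((show Commute g x from hpx).mul_left hpx).eq,
      ?_, ?_⟩, rfl, rfl, rfl⟩
    · rw [← hu, show g * g * z * (g * g)⁻¹ = g * (g * z * g⁻¹) * g⁻¹ by group, e1, e3]
    · rw [← hu, show g * g * u * (g * g)⁻¹ = g * (g * u * g⁻¹) * g⁻¹ by group, e2, e1]

theorem exists_locdata : Nonempty (Loc z Q) := by
  obtain ⟨F⟩ := h.exists_frame
  obtain ⟨s, hs, hs3, hsu⟩ := F.exists_three h 0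
  obtain ⟨L, -⟩ := h.exists_loc F 0 hs hs3 hsu
  exact ⟨L⟩

end Hyp

end CfsgLib.JThree
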