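import Cfsg.Agent.JThree.Norm

/-!
# The local relations not involving `b`

The elements commuting with `r s` and normalising `⟨z, u, t, t₂⟩` are determined by their action;
a single conjugation carries them into the centraliser of `s`.
-/

set_option autoImplicit false
set_option linter.style.haveILetI false
set_option linter.unusedSectionVars false

namespace CfsgLib.JThree

open CfsgLib.HallJanko

/-- The relations of `Gen` not involving `b`, except those of `a` against `y`. -/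
structure Part {G : Type*} [Group G] (u z y a s t g : G) : Prop where
  uu : u * u = 1
  zz : z * z = 1
  yy : y * y = 1
  aa : a * a = 1
  tt : t * t = 1
  gg : g * g = 1
  sss : s ^ 3 = 1
  uy : (u * y) ^ 5 = 1
  zy : (z * y) ^ 3 = 1
  uzy : (u * z * y) ^ 5 = 1
  uz : (u * z) ^ 2 = 1
  za : (z * a) ^ 2 = 1
  uau : u * a * u * a * z = 1
  su : s * u * s⁻¹ * u = 1
  sz : s * z * s⁻¹ * z = 1
  sy : s * y * s⁻¹ * y = 1
  sa : s * a * s⁻¹ * a = 1
  tu : (t * u) ^ 2 = 1
  tz : (t * z) ^ 2 = 1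
  ta : (t * a) ^ 4 * z = 1
  st : (s * t) ^ 3 = 1
  tt2 : (t * s⁻¹ * t * s) ^ 2 = 1
  rt : z * y * u * z * y * u * y * s * s * t * s⁻¹ * s⁻¹ * y * u * y * z * u * y * z * t = 1
  gz : g * z * g * t = 1
  gu : g * u * g * s⁻¹ * t * s * t = 1
  gs : g * s * g * z * y * u * z * y * u * y * s * s = 1
  gx : (g * a * t * a) ^ 3 = 1
  xt2 : s⁻¹ * t * s * a * t * a * s⁻¹ * t * s * a * t * a * u * z = 1
  yv : (y * s⁻¹ * t * s * g * a * t * a * g) ^ 2 = 1

/-- The expression of `y` through `u, z, a, g`, or a value of `(a W)²` excluded in `C(s)`. -/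
def Link {G : Type*} [Group G] (u z y a g : G) : Prop :=
  y = u * g * z * a * g * a * z * g * u ∨ (a * (z * y * u * z * y * u * y)) ^ 2 = 1 ∨
    (a * (z * y * u * z * y * u * y)) ^ 2 = z ∨ (a * (z * y * u * z * y * u * y)) ^ 2 = u

variable {G : Type*} [Group G] [Finite G] {z : G} {Q : Subgroup G}

theorem act_triv (h : PreCore z Q) (L : Loc z Q) {g : G} {m : Fin 4 → Fin 16} (hg : Act L g m)
    (e : m = unit4) : ∃ x, g = av L x := by
  subst e
  obtain ⟨-, b1, -, b4, -⟩ := av_basis L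
  refine exists_av h L (mul_inv_eq_iff_eq_mul.1 ?_) (mul_inv_eq_iff_eq_mul.1 ?_)
  · have := hg 0
    rwa [show unit4 0 = 1 from rfl, b1] at this
  · have := hg 2
    rwa [show unit4 2 = 4 from rfl, b4] at this

variable (h : Hyp z Q) (L : Loc z Q) {a : G} (D : Base L a)
include h D

theorem cw_x : Cw L (a * L.t * a) ![1, 2, 5, 10] := by
  have hp : PreCore z Q := h.toPreCore
  obtain ⟨b0, b1, b2, b4, b8⟩ := av_basis L
  obtain ⟨x, hx⟩ : ∃ x, x = a * L.t * a := ⟨_, rfl⟩
  rw [← hx]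
  have hX : Act L x ![1, 2, 5, 10] := hx ▸ D.act
  obtain ⟨p, hpw⟩ := exists_lift hp L hX (by decide +kernel)
  have hpp : p * p = 1 := Cw.one_of hp L (Cw.mul hp L hpw hpw) (by decide +kernel)
  obtain ⟨m, hm⟩ := act_triv hp L (Act.mul hp L hX hpw.2) (by decide +kernel)
  have hxm : x = av L m * p := by rw [← hm, mul_assoc, hpp, mul_one]
  have hpc : p * av L m * p = av L (lin ![1, 2, 5, 10] m) := by
    rw [← Act.conj hp L hpw.2, inv_eq_of_mul_eq_one_left hpp]
  have hxx : x * x = 1 := by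
    rw [hx, show a * L.t * a * (a * L.t * a) = a * L.t * (a * a) * L.t * a by group, D.sq,
      mul_one, mul_assoc a L.t L.t, L.ht2, mul_one, D.sq]
  have hmP : lin ![1, 2, 5, 10] m = m := by
    refine ((by decide +kernel : ∀ a b : Fin 16, a ^^^ b = 0 → a = b) m _
      (av_eq_one hp L ?_)).symm
    rw [av_xor hp, ← hpc, ← hxx, hxm]
    group
  have hmS : lin ![1, 2, 8, 12] m = m :=
    (by decide +kernel : ∀ m, lin ![1, 2, 5, 10] m = m → lin ![1, 2, 8, 12] m = m) m hmP
  have hpm : Commute p (av L m) := by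
    show p * av L m = av L m * p
    refine mul_inv_eq_iff_eq_mul.1 ?_
    rw [Act.conj hp L hpw.2, hmP]
  have hsm : Commute L.s (av L m) := mul_inv_eq_iff_eq_mul.1
    (by rw [Act.conj hp L (act_s hp L), hmS])
  have hs3 : L.s * L.s * L.s = 1 := L.s_cube
  have hsi : L.s⁻¹ = L.s * L.s := inv_eq_of_mul_eq_one_left hs3
  have hS : Cw L L.s ![1, 2, 8, 12] :=
    ⟨((show Commute L.s L.r from L.hrs.symm).mul_right (Commute.refl L.s)).eq, act_s hp L⟩
  have h2 := Cw.mul hp L (Cw.mul hp L hS hpw) (Cw.mul hp L hS hS)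
  have h3 := Cw.mul hp L (Cw.mul hp L hS h2) (Cw.mul hp L hS hS)
  have hprod : p * (L.s * p * L.s⁻¹) * (L.s * (L.s * p * L.s⁻¹) * L.s⁻¹) = 1 := by
    rw [hsi]
    exact Cw.one_of hp L (Cw.mul hp L (Cw.mul hp L hpw h2) h3) (by decide +kernel)
  have hxprod : x * (L.s * x * L.s⁻¹) * (L.s * (L.s * x * L.s⁻¹) * L.s⁻¹) = 1 := by
    have e1 : L.s * x * L.s⁻¹ = a * L.t2 * a := by
      have hc : Commute L.s a := D.comm.symm
      rw [hx, Loc.t2, show L.s * (a * L.t * a) * L.s⁻¹ = (L.s * a) * L.t * (a * L.s⁻¹) by group,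
        hc.eq, hc.inv_left.symm.eq]
      group
    have e2 : L.s * (L.s * x * L.s⁻¹) * L.s⁻¹ = a * (L.t * L.t2) * a := by
      have hc : Commute L.s a := D.comm.symm
      rw [e1, show L.s * (a * L.t2 * a) * L.s⁻¹ = (L.s * a) * L.t2 * (a * L.s⁻¹) by group,
        hc.eq, hc.inv_left.symm.eq, ← (t_rel hp L).2]
      group
    rw [e2, e1, hx, show a * L.t * a * (a * L.t2 * a) * (a * (L.t * L.t2) * a) =
      a * L.t * (a * a) * L.t2 * (a * a) * (L.t * L.t2) * a by group, D.sq, mul_one, mul_one,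
      show a * L.t * L.t2 * (L.t * L.t2) * a = a * (L.t * (L.t2 * L.t) * L.t2) * a by group,
      ← (t_rel hp L).1, ← mul_assoc L.t, L.ht2, one_mul, (t2_facts hp L).2.1, mul_one, D.sq]
  have hm0 : av L m = 1 := by
    obtain ⟨p2, hp2⟩ : ∃ p2, p2 = L.s * p * L.s⁻¹ := ⟨_, rfl⟩
    obtain ⟨p3, hp3⟩ : ∃ p3, p3 = L.s * p2 * L.s⁻¹ := ⟨_, rfl⟩
    rw [← hp2, ← hp3] at hprod
    have c2 : Commute p2 (av L m) := hp2 ▸ (hsm.mul_left hpm).mul_left hsm.inv_left
    have c3 : Commute p3 (av L m) := hp3 ▸ (hsm.mul_left c2).mul_left hsm.inv_left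
    have ex2 : L.s * x * L.s⁻¹ = av L m * p2 := by
      rw [hxm, hp2, ← mul_assoc L.s (av L m), hsm.eq]; group
    have ex3 : L.s * (L.s * x * L.s⁻¹) * L.s⁻¹ = av L m * p3 := by
      rw [ex2, hp3, ← mul_assoc L.s (av L m), hsm.eq]; group
    rw [ex3, ex2, hxm, hpm.mul_mul_mul_comm, av_sq hp, one_mul,
      ← mul_assoc (p * p2) (av L m) p3, (hpm.mul_left c2).eq, mul_assoc (av L m), hprod,
      mul_one] at hxprod
    exact hxprod
  rw [hxm, hm0, one_mul]
  exact hpw

theorem exists_part' : ∃ g y : G, Part L.u z y a L.s L.t g ∧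
    (Link L.u z y a g ∧ Link L.u z y (a * z) g) ∧
    5 ∣ Nat.card (Subgroup.centralizer ({L.s} : Set G)) := by
  have hp : PreCore z Q := h.toPreCore
  obtain ⟨b0, b1, b2, b4, b8⟩ := av_basis L
  obtain ⟨b3, b12⟩ := av_named hp L
  obtain ⟨x, hx⟩ : ∃ x, x = a * L.t * a := ⟨_, rfl⟩
  have hX : Cw L x ![1, 2, 5, 10] := hx ▸ cw_x h L D
  obtain ⟨g1, hg1⟩ := exists_g h L D
  obtain ⟨g, hg⟩ := exists_lift hp L hg1 (by decide +kernel)
  have hgg : g * g = 1 := Cw.one_of hp L (Cw.mul hp L hg hg) (by decide +kernel)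
  have hgi : g⁻¹ = g := inv_eq_of_mul_eq_one_left hgg
  have hai : a⁻¹ = a := inv_eq_of_mul_eq_one_left D.sq
  have hs3 : L.s * L.s * L.s = 1 := L.s_cube
  have hr3 : L.r * L.r * L.r = 1 := L.r_cube
  have hsi : L.s⁻¹ = L.s * L.s := inv_eq_of_mul_eq_one_left hs3
  have hri : L.r⁻¹ = L.r * L.r := inv_eq_of_mul_eq_one_left hr3
  have csa : Commute L.s a := D.comm.symm
  have crs : Commute L.r L.s := L.hrs
  have hS : Cw L L.s ![1, 2, 8, 12] :=
    ⟨(crs.symm.mul_right (Commute.refl L.s)).eq, act_s hp L⟩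
  have hR : Cw L L.r ![2, 3, 4, 8] :=
    ⟨((Commute.refl L.r).mul_right crs).eq, act_r hp L⟩
  have hgrg : g * L.r * g = L.s :=
    Cw.eq hp L (Cw.mul hp L (Cw.mul hp L hg hR) hg) hS (by decide +kernel)
  have hgsg : g * L.s * g = L.r :=
    Cw.eq hp L (Cw.mul hp L (Cw.mul hp L hg hS) hg) hR (by decide +kernel)
  have hgconj : ∀ k, g * av L k * g = av L (lin ![4, 8, 1, 2] k) := fun k => by
    rw [← Act.conj hp L hg.2, hgi]
  have hxi : x⁻¹ = x := by
    refine inv_eq_of_mul_eq_one_left ?_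
    exact Cw.one_of hp L (Cw.mul hp L hX hX) (by decide +kernel)
  have haua : a * L.u * a = L.u * z := by
    calc a * L.u * a = L.u * L.u * a * L.u * a := by rw [L.F.sq, one_mul]
      _ = L.u * (L.u * a * L.u * a) := by group
      _ = L.u * z := by rw [D.uau]
  have caz : Commute a z := hp.hQC a D.mem
  have haxa : a * x * a = L.t := by
    rw [hx, show a * (a * L.t * a) * a = (a * a) * L.t * (a * a) by group, D.sq, one_mul, mul_one]
  -- the twisted element
  obtain ⟨v, hv⟩ : ∃ v, v = a * (L.r * L.s) * a := ⟨_, rfl⟩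
  have hv3 : v * v * v = 1 := by
    rw [hv, show a * (L.r * L.s) * a * (a * (L.r * L.s) * a) * (a * (L.r * L.s) * a) =
      a * (L.r * L.s) * (a * a) * (L.r * L.s) * (a * a) * (L.r * L.s) * a by group, D.sq, mul_one,
      mul_one, show a * (L.r * L.s) * (L.r * L.s) * (L.r * L.s) * a =
        a * ((L.r * L.s) * (L.r * L.s) * (L.r * L.s)) * a by group, crs.symm.mul_mul_mul_comm,
      ((crs.symm.mul_left crs.symm).mul_mul_mul_comm (L.r * L.r) L.s), hr3, hs3, one_mul,
      mul_one, D.sq]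
  have hnz : L.r * v * z = z * (L.r * v) := by
    have e1 : v * z * v⁻¹ = L.u * z := by
      rw [hv, mul_inv_rev, mul_inv_rev, hai,
        show a * (L.r * L.s) * a * z * (a * ((L.r * L.s)⁻¹ * a)) =
          a * ((L.r * L.s) * (a * z * a) * (L.r * L.s)⁻¹) * a by group, caz.eq, mul_assoc z a a,
        D.sq, mul_one, show L.r * L.s * z * (L.r * L.s)⁻¹ = L.r * (L.s * z * L.s⁻¹) * L.r⁻¹ by group,
        L.hs, mul_inv_cancel_right, L.hrz]
      exact haua
    refine mul_inv_eq_iff_eq_mul.1 ?_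
    rw [show L.r * v * z * (L.r * v)⁻¹ = L.r * (v * z * v⁻¹) * L.r⁻¹ by group, e1, r_uz hp L]
  have hnt : L.r * v * L.t = L.t * (L.r * v) := by
    refine ((show Commute L.r L.t from L.hrt).mul_left ?_).eq
    rw [← haxa]
    show v * (a * x * a) = a * x * a * v
    rw [hv, show a * (L.r * L.s) * a * (a * x * a) = a * (L.r * L.s) * (a * a) * x * a by group,
      show a * x * a * (a * (L.r * L.s) * a) = a * x * (a * a) * (L.r * L.s) * a by group, D.sq,
      mul_one, mul_one, mul_assoc a (L.r * L.s) x, ← hX.1, mul_assoc a x (L.r * L.s)]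
  obtain ⟨k, hk⟩ := exists_av hp L hnz hnt
  have hvk : v = L.r * L.r * av L k := by
    rw [← hk, ← mul_assoc, hr3, one_mul]
  have hk4 : k < 4 := by
    have hconj : ∀ j, L.r * av L j * L.r⁻¹ = av L (lin ![2, 3, 4, 8] j) :=
      Act.conj hp L (act_r hp L)
    have e : av L (lin ![2, 3, 4, 8] (lin ![2, 3, 4, 8] k)) * av L (lin ![2, 3, 4, 8] k) * av L k
        = 1 := by
      rw [← hconj (lin ![2, 3, 4, 8] k), ← hconj k, ← hv3, hvk]
      calc L.r * (L.r * av L k * L.r⁻¹) * L.r⁻¹ * (L.r * av L k * L.r⁻¹) * av L k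
          = L.r * L.r * av L k * (L.r⁻¹ * (av L k) * L.r⁻¹ * av L k) := by group
        _ = _ := by rw [hri]; group
    rw [← av_xor hp, ← av_xor hp] at e
    exact (by decide +kernel : ∀ k : Fin 16, lin ![2, 3, 4, 8] (lin ![2, 3, 4, 8] k) ^^^
      lin ![2, 3, 4, 8] k ^^^ k = 0 → k < 4) k (av_eq_one hp L e)
  obtain ⟨e, he4, hek⟩ := (by decide +kernel : ∀ k : Fin 16, k < 4 → ∃ e : Fin 16, e < 4 ∧
    lin ![2, 3, 4, 8] e ^^^ k ^^^ e = 0) k hk4
  obtain ⟨E, hE⟩ : ∃ E, E = av L e := ⟨_, rfl⟩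
  have hEE : E * E = 1 := hE ▸ av_sq hp L e
  have hEs : Commute E L.s := by
    refine Commute.symm (mul_inv_eq_iff_eq_mul.1 ?_)
    rw [hE, Act.conj hp L (act_s hp L)]
    exact congrArg (av L) ((by decide +kernel : ∀ e : Fin 16, e < 4 →
      lin ![1, 2, 8, 12] e = e) e he4)
  have hEx : Commute E x := by
    refine Commute.symm (mul_inv_eq_iff_eq_mul.1 ?_)
    rw [hE, Act.conj hp L hX.2]
    exact congrArg (av L) ((by decide +kernel : ∀ e : Fin 16, e < 4 →
      lin ![1, 2, 5, 10] e = e) e he4)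
  have hEv : E * v * E = L.r⁻¹ := by
    calc E * v * E = L.r⁻¹ * ((L.r * E * L.r⁻¹) * av L k * E) := by
          rw [hvk, ← hri]
          group
      _ = L.r⁻¹ := by
          rw [hE, Act.conj hp L (act_r hp L), ← av_xor hp, ← av_xor hp, hek, b0, mul_one]
  -- the conjugation
  obtain ⟨c, hc⟩ : ∃ c, c = g * E * a := ⟨_, rfl⟩
  have hci : c⁻¹ = a * E * g := by
    rw [hc, mul_inv_rev, mul_inv_rev, hai, hgi, inv_eq_of_mul_eq_one_left hEE, mul_assoc]
  have hφ : ∀ y : G, MulAut.conj c y = g * (E * (a * y * a) * E) * g := fun y => by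
    rw [MulAut.conj_apply, hci, hc]; group
  have hcw : MulAut.conj c (L.r * L.s) = L.s⁻¹ := by
    rw [hφ, ← hv, hEv, ← hgrg, mul_inv_rev, mul_inv_rev, hgi, mul_assoc]
  have hEg : ∀ j, Commute E (av L j) := fun j => hE ▸ av_comm hp L e j
  have hcx : MulAut.conj c x = z := by
    rw [hφ, haxa, ← b4, (hEg 4).eq, mul_assoc (av L 4), hEE, mul_one, hgconj]
    exact b1
  obtain ⟨x2, hx2⟩ : ∃ x2, x2 = L.s * x * (L.s * L.s) := ⟨_, rfl⟩
  have hX2 : Cw L x2 _ := hx2 ▸ Cw.mul hp L (Cw.mul hp L hS hX) (Cw.mul hp L hS hS)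
  have hcu : MulAut.conj c x2 = L.u := by
    have e1 : a * x2 * a = L.t2 := by
      rw [hx2, ← hsi, show a * (L.s * x * L.s⁻¹) * a = (a * L.s) * x * (L.s⁻¹ * a) by group,
        csa.symm.eq, csa.inv_left.eq, show L.s * a * x * (a * L.s⁻¹) = L.s * (a * x * a) * L.s⁻¹ by
          group, haxa]
      rfl
    rw [hφ, e1, ← b8, (hEg 8).eq, mul_assoc (av L 8), hEE, mul_one, hgconj]
    exact b2
  obtain ⟨y0, hy0⟩ : ∃ y0, y0 = x2 * g * x2 := ⟨_, rfl⟩
  have hY : Cw L y0 _ := hy0 ▸ Cw.mul hp L (Cw.mul hp L hX2 hg) hX2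
  obtain ⟨y, hy⟩ : ∃ y, y = MulAut.conj c y0 := ⟨_, rfl⟩
  have hcs : ∀ n, n * (L.r * L.s) = L.r * L.s * n →
      Commute (MulAut.conj c n) L.s := by
    intro n hn
    have := (show Commute n (L.r * L.s) from hn).map (MulAut.conj c).toMonoidHom
    simp only [MulEquiv.coe_toMonoidHom, hcw] at this
    rw [← inv_inv L.s]
    exact this.inv_right
  have cys : Commute y L.s := hy ▸ hcs y0 hY.1
  -- the image of `r⁻¹ s`
  have hcr : MulAut.conj c (L.r * L.r * L.s) = L.r * L.r * L.s := by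
    obtain ⟨n, hn⟩ : ∃ n, n = c⁻¹ * (L.r * L.r * L.s) * c := ⟨_, rfl⟩
    have hcn : MulAut.conj c n = L.r * L.r * L.s := by rw [hn, MulAut.conj_apply]; group
    obtain ⟨e', he'⟩ : ∃ e', a * E * a = av L e' := by
      refine exists_av hp L ?_ ?_
      · exact ((caz.mul_left (hE ▸ (av_cent hp L e).1)).mul_left caz).eq
      · rw [← haxa, show a * E * a * (a * x * a) = a * E * (a * a) * x * a by group,
          show a * x * a * (a * E * a) = a * x * (a * a) * E * a by group, D.sq, mul_one, mul_one,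
          mul_assoc a E, hEx.eq, mul_assoc a x]
    have hne : n = L.s * L.s * (av L e' * (L.r * L.r * av L k * (L.s * L.s)) * av L e') := by
      have e1 : g * (L.r * L.r * L.s) * g = L.s * L.s * L.r := by
        rw [show g * (L.r * L.r * L.s) * g = g * L.r * (g * g) * L.r * (g * g) * L.s * g by
          rw [hgg]; group,
          show g * L.r * (g * g) * L.r * (g * g) * L.s * g =
            (g * L.r * g) * (g * L.r * g) * (g * L.s * g) by group, hgrg, hgsg]
      have e2 : a * (L.s * L.s) = L.s * L.s * a := (csa.symm.mul_right csa.symm).eq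
      have e3 : E * (L.s * L.s) = L.s * L.s * E := (hEs.mul_right hEs).eq
      have e4 : a * L.r * a = v * (L.s * L.s) := by
        rw [hv, show a * (L.r * L.s) * a * (L.s * L.s) = a * L.r * (L.s * (a * (L.s * L.s))) by
          group, e2, show L.s * (L.s * L.s * a) = L.s * L.s * L.s * a by group, hs3, one_mul]
      rw [← hvk, ← e4, ← he', hn, hci, hc]
      calc a * E * g * (L.r * L.r * L.s) * (g * E * a)
          = a * (E * (g * (L.r * L.r * L.s) * g)) * E * a := by group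
        _ = a * (L.s * L.s) * E * L.r * E * a := by rw [e1, ← mul_assoc E, e3]; group
        _ = L.s * L.s * (a * E) * (a * a) * L.r * (a * a) * E * a := by
          rw [e2, D.sq]; group
        _ = _ := by group
    have hact : Act L n (comp (comp ![1, 2, 8, 12] ![1, 2, 8, 12]) (comp (comp unit4
        (comp (comp (comp ![2, 3, 4, 8] ![2, 3, 4, 8]) unit4)
          (comp ![1, 2, 8, 12] ![1, 2, 8, 12]))) unit4)) := by
      rw [hne]
      exact Act.mul hp L (Act.mul hp L (act_s hp L) (act_s hp L))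
        (Act.mul hp L (Act.mul hp L (act_av hp L e')
          (Act.mul hp L (Act.mul hp L (Act.mul hp L (act_r hp L) (act_r hp L)) (act_av hp L k))
            (Act.mul hp L (act_s hp L) (act_s hp L)))) (act_av hp L e'))
    have hcomm : n * (L.r * L.s) = L.r * L.s * n := by
      apply (MulAut.conj c).injective
      rw [map_mul _ n (L.r * L.s), map_mul _ (L.r * L.s) n, hcn, hcw]
      exact ((((crs.mul_left crs).mul_left (Commute.refl L.s))).inv_right).eq
    have := Cw.eq hp L (g := n) ⟨hcomm, hact⟩ (Cw.mul hp L (Cw.mul hp L hR hR) hS)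
      (by decide +kernel)
    rw [this] at hcn
    exact hcn
  have hW : z * y * L.u * z * y * L.u * y = L.r * L.r * L.s := by
    rw [← hcr, ← Cw.eq hp L (Cw.mul hp L (Cw.mul hp L (Cw.mul hp L (Cw.mul hp L
      (Cw.mul hp L (Cw.mul hp L hX hY) hX2) hX) hY) hX2) hY)
      (Cw.mul hp L (Cw.mul hp L hR hR) hS) (by decide +kernel)]
    simp only [map_mul, hcx, hcu, ← hy]
  have hyy : y * y = 1 := by
    rw [hy, ← map_mul, Cw.one_of hp L (Cw.mul hp L hY hY) (by decide +kernel), map_one]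
  have hpow : ∀ {n : G} {m : Fin 4 → Fin 16} (i : ℕ), Cw L n m → (comp m)^[i] unit4 = unit4 →
      (MulAut.conj c n) ^ i = 1 := fun i hn e => by
    rw [← map_pow, Cw.one_of hp L (Cw.pow hp L hn i) e, map_one]
  -- the link between `y` and `g`
  have hyl : y = L.u * (g * E * a * g * a * E * g) * L.u := by
    calc y = MulAut.conj c x2 * MulAut.conj c g * MulAut.conj c x2 := by
          rw [hy, hy0, map_mul, map_mul]
      _ = L.u * (c * g * c⁻¹) * L.u := by rw [hcu, MulAut.conj_apply]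
      _ = _ := by
          rw [hci, hc, show g * E * a * g * (a * E * g) = g * E * a * g * a * E * g by group]
  obtain ⟨W, hWd⟩ : ∃ W, W = z * y * L.u * z * y * L.u * y := ⟨_, rfl⟩
  have hWr : W = L.r * L.r * L.s := hWd.trans hW
  have hWsq : (a * W) ^ 2 = av L k := by
    have cas : Commute a L.s := csa.symm
    have cvs : Commute v L.s := by
      rw [hv]; exact (cas.mul_left (crs.mul_left (Commute.refl L.s))).mul_left cas
    have e1 : a * (L.r * L.r) * a = v * v * L.s := by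
      have e0 : a * L.r * a = v * (L.s * L.s) := by
        rw [hv, show a * (L.r * L.s) * a * (L.s * L.s) = a * L.r * (L.s * (a * (L.s * L.s))) by
          group, (cas.mul_right cas).eq,
          show L.s * (L.s * L.s * a) = L.s * L.s * L.s * a by group, hs3, one_mul]
      calc a * (L.r * L.r) * a = (a * L.r * a) * (a * L.r * a) := by
            rw [show a * L.r * a * (a * L.r * a) = a * L.r * (a * a) * L.r * a by group, D.sq]
            group
        _ = v * (L.s * L.s * v) * (L.s * L.s) := by rw [e0]; group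
        _ = v * v * (L.s * L.s * L.s) * L.s := by
            rw [← (cvs.mul_right cvs).eq]; group
        _ = _ := by rw [hs3, mul_one]
    calc (a * W) ^ 2 = a * (L.r * L.r) * (L.s * a) * (L.r * L.r) * L.s := by
          rw [hWr, pow_two]; group
      _ = (a * (L.r * L.r) * a) * L.s * (L.r * L.r) * L.s := by rw [csa.eq]; group
      _ = v * v * (L.s * L.s * (L.r * L.r)) * L.s := by rw [e1]; group
      _ = v * v * (L.r * L.r) * (L.s * L.s * L.s) := by
          rw [((crs.symm.mul_left crs.symm).mul_right (crs.symm.mul_left crs.symm)).eq]; group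
      _ = v⁻¹ * (L.r * L.r) := by
          rw [hs3, mul_one, inv_eq_of_mul_eq_one_left hv3]
      _ = (av L k)⁻¹ * (L.r⁻¹ * L.r⁻¹) * (L.r * L.r) := by rw [hvk]; group
      _ = av L k := by rw [inv_eq_of_mul_eq_one_left (av_sq hp L k)]; group
  have hWsq' : (a * z * W) ^ 2 = av L (k ^^^ 3) := by
    have hconjW : ∀ w : G, L.s * w * L.s⁻¹ = w → W⁻¹ * w * W = L.r * w * L.r⁻¹ := by
      intro w hw
      rw [hWr, mul_inv_rev, mul_inv_rev, hri]
      have e : L.r * L.r * L.r * L.r = L.r := by rw [hr3, one_mul]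
      calc L.s⁻¹ * (L.r * L.r * (L.r * L.r)) * w * (L.r * L.r * L.s)
          = L.s⁻¹ * (L.r * L.r * L.r * L.r) * w * (L.r * L.r) * L.s := by group
        _ = L.s⁻¹ * L.r * (L.s * w * L.s⁻¹) * L.r⁻¹ * L.s := by rw [e, hw, hri]
        _ = L.r * (L.s⁻¹ * (L.s * w * L.s⁻¹) * L.s) * L.r⁻¹ := by
            rw [crs.inv_right.symm.eq, show L.r * L.s⁻¹ * (L.s * w * L.s⁻¹) * L.r⁻¹ * L.s =
              L.r * L.s⁻¹ * (L.s * w * L.s⁻¹) * (L.r⁻¹ * L.s) by group, crs.inv_left.eq]
            group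
        _ = L.r * w * (L.r * L.r) := by rw [← hri]; group
    have e1 : z * W = W * L.u := by
      have := hconjW z (by rw [L.hs, mul_inv_cancel_right])
      rw [show L.r * z * L.r⁻¹ = L.u from L.hrz] at this
      rw [← this]; group
    have e2 : L.u * z * W = W * z := by
      have := hconjW (L.u * z) (by
        rw [((show Commute L.s L.u from L.hsu).mul_right L.hs).eq, mul_inv_cancel_right])
      rw [r_uz hp L] at this
      conv_rhs => rw [← this]
      group
    have cuz : L.u * z = z * L.u := hp.hQC _ (L.F.mem _)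
    calc (a * z * W) ^ 2 = a * W * (L.u * a) * W * L.u := by
          rw [pow_two, mul_assoc a z W, e1]; group
      _ = a * W * a * (L.u * z * W) * L.u := by
          rw [← haua, show a * W * a * (a * L.u * a * W) * L.u = a * W * (a * a) * L.u * a * W * L.u
            by group, D.sq]
          group
      _ = (a * W) ^ 2 * (L.u * z) := by rw [e2, pow_two, cuz]; group
      _ = av L (k ^^^ 3) := by rw [hWsq, ← b3, ← av_xor hp]
  have hlink : Link L.u z y a g ∧ Link L.u z y (a * z) g := by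
    have cz : z * a = a * z := caz.symm.eq
    unfold Link
    rw [← hWd, hWsq, hWsq', hyl, hE]
    rcases (by decide +kernel : ∀ e k : Fin 16, e < 4 → lin ![2, 3, 4, 8] e ^^^ k ^^^ e = 0 →
        (e = 0 ∧ k = 0) ∨ (e = 1 ∧ k = 3) ∨ (e = 2 ∧ k = 1) ∨ (e = 3 ∧ k = 2)) e k he4 hek with
      ⟨rfl, rfl⟩ | ⟨rfl, rfl⟩ | ⟨rfl, rfl⟩ | ⟨rfl, rfl⟩
    · refine ⟨Or.inr (Or.inl b0), Or.inl ?_⟩
      rw [b0, show L.u * g * z * (a * z) * g * (a * z) * z * g * L.u =
        L.u * g * (z * a) * z * g * a * (z * z) * g * L.u by group, cz, hp.zz]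
      rw [show L.u * g * (a * z) * z * g * a * 1 * g * L.u =
        L.u * g * a * (z * z) * g * a * g * L.u by group, hp.zz]
      group
    · refine ⟨Or.inl ?_, Or.inr (Or.inl b0)⟩
      rw [b1]; group
    · exact ⟨Or.inr (Or.inr (Or.inl b1)), Or.inr (Or.inr (Or.inr b2))⟩
    · exact ⟨Or.inr (Or.inr (Or.inr b2)), Or.inr (Or.inr (Or.inl b1))⟩
  have hsq : ∀ {p q : G}, p * p = 1 → q * q = 1 → p * q = q * p → (p * q) ^ 2 = 1 :=
    fun {p q} e1 e2 e3 => by
      rw [pow_two, (show Commute q p from e3.symm).mul_mul_mul_comm, e1, e2, one_mul]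
  have hstar : ∀ {p q : G}, p * q = q * p → q * q = 1 → p * q * p⁻¹ * q = 1 :=
    fun {p q} e1 e2 => by rw [e1, mul_inv_cancel_right, e2]
  have ht' : L.s⁻¹ * L.t * L.s = av L 12 := by
    rw [b12, ← (t_rel hp L).2, Loc.t2, hsi,
      show L.s * (L.s * L.t * (L.s * L.s)) * (L.s * L.s) = L.s * L.s * L.t *
        (L.s * L.s * L.s) * L.s by group, hs3, mul_one]
  have huy : (L.u * y) ^ 5 = 1 := by
    rw [hy, ← hcu, ← map_mul]
    exact hpow 5 (Cw.mul hp L hX2 hY) (by decide +kernel)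
  refine ⟨g, y, ⟨L.F.sq _, hp.zz, hyy, D.sq, L.ht2, hgg, ?_, huy, ?_, ?_,
    hsq (L.F.sq _) hp.zz (hp.hQC _ (L.F.mem _)), hsq hp.zz D.sq caz.symm.eq,
    by rw [D.uau, hp.zz], hstar L.hsu (L.F.sq _), hstar L.hs hp.zz, hstar cys.symm.eq hyy,
    hstar csa.eq D.sq, hsq L.ht2 (L.F.sq _) L.htu, hsq L.ht2 hp.zz L.ht, D.ta, ?_, ?_, ?_, ?_,
    ?_, ?_, ?_, ?_, ?_⟩, hlink, ?_⟩
  · rw [pow_succ, pow_two, hs3]
  · rw [hy, ← hcx, ← map_mul]
    exact hpow 3 (Cw.mul hp L hX hY) (by decide +kernel)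
  · rw [hy, ← hcu, ← hcx, ← map_mul, ← map_mul]
    exact hpow 5 (Cw.mul hp L (Cw.mul hp L hX2 hX) hY) (by decide +kernel)
  · -- `st`
    calc (L.s * L.t) ^ 3 = (L.s * L.t * L.s⁻¹) * (L.s * (L.s * L.t * L.s⁻¹) * L.s⁻¹) *
          ((L.s * L.s * L.s) * L.t * (L.s * L.s * L.s)⁻¹) * (L.s * L.s * L.s) := by
          simp only [pow_succ, pow_zero, one_mul]
          group
      _ = L.t2 * (L.t * L.t2) * L.t := by
          rw [show L.s * L.t * L.s⁻¹ = L.t2 from rfl, (t_rel hp L).2, hs3]; group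
      _ = 1 := by
          rw [← b4, ← b8, ← av_xor hp, ← av_xor hp, ← av_xor hp]
          exact b0
  · -- `tt2`
    rw [show L.t * L.s⁻¹ * L.t * L.s = L.t * (L.s⁻¹ * L.t * L.s) by group, ht', ← b4,
      ← av_xor hp, pow_two, av_sq hp]
  · -- `rt`
    have e : y * L.u * y * z * L.u * y * z = (z * y * L.u * z * y * L.u * y)⁻¹ := by
      simp only [mul_inv_rev, inv_eq_of_mul_eq_one_left hyy, inv_eq_of_mul_eq_one_left hp.zz,
        inv_eq_of_mul_eq_one_left (L.F.sq L.f)]
      group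
    calc z * y * L.u * z * y * L.u * y * L.s * L.s * L.t * L.s⁻¹ * L.s⁻¹ * y * L.u * y * z * L.u *
          y * z * L.t
        = (z * y * L.u * z * y * L.u * y) * L.s * L.s * L.t * L.s⁻¹ * L.s⁻¹ *
          (y * L.u * y * z * L.u * y * z) * L.t := by group
      _ = L.r * L.r * L.s * L.s * L.s * L.t * (L.r * L.r * L.s * L.s * L.s)⁻¹ * L.t := by
          rw [e, hW]; group
      _ = 1 := by
          rw [mul_assoc (L.r * L.r) L.s L.s, mul_assoc (L.r * L.r) (L.s * L.s) L.s, hs3, mul_one,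
            ((show Commute L.r L.t from L.hrt).mul_left L.hrt).eq, mul_inv_cancel_right, L.ht2]
  · -- `gz`
    have e := hgconj 1
    rw [b1] at e
    rw [e, ← b4, ← av_xor hp]
    exact b0
  · -- `gu`
    rw [show g * L.u * g * L.s⁻¹ * L.t * L.s * L.t = g * L.u * g * (L.s⁻¹ * L.t * L.s) * L.t by
      group, ht', ← b2, hgconj, ← b4, ← av_xor hp, ← av_xor hp]
    exact b0
  · -- `gs`
    calc g * L.s * g * z * y * L.u * z * y * L.u * y * L.s * L.s
        = g * L.s * g * (z * y * L.u * z * y * L.u * y) * L.s * L.s := by group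
      _ = L.r * L.r * L.r * (L.s * L.s * L.s) := by rw [hW, hgsg]; group
      _ = 1 := by rw [hr3, hs3, one_mul]
  · -- `gx`
    rw [show g * a * L.t * a = g * x by rw [hx]; group]
    exact Cw.one_of hp L (Cw.pow hp L (Cw.mul hp L hg hX) 3) (by decide +kernel)
  · -- `xt2`
    have e : x * av L 12 * x = av L 15 := by
      have := Act.conj hp L hX.2 12
      rwa [hxi] at this
    rw [show L.s⁻¹ * L.t * L.s * a * L.t * a * L.s⁻¹ * L.t * L.s * a * L.t * a * L.u * z =
        L.s⁻¹ * L.t * L.s * (a * L.t * a * (L.s⁻¹ * L.t * L.s) * (a * L.t * a)) * (L.u * z) by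
      group, ht', ← hx, e, ← b3, ← av_xor hp, ← av_xor hp]
    exact b0
  · -- `yv`
    obtain ⟨w, hw⟩ : ∃ w, w = L.s⁻¹ * L.t * L.s * g * x * g := ⟨_, rfl⟩
    have hgw : g * w * g = av L 3 * x := by
      calc g * w * g = g * (L.s⁻¹ * L.t * L.s) * g * x * (g * g) := by rw [hw]; group
        _ = av L 3 * x := by
            rw [hgg, mul_one, ht', hgconj]; rfl
    have hcy : MulAut.conj c (av L 6) = w := by
      have e1 : av L 6 = L.u * L.t := by
        rw [← b2, ← b4, ← av_xor hp]; rfl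
      have e2 : a * (L.u * L.t) * a = L.u * z * x := by
        rw [← haua, hx, show a * L.u * a * (a * L.t * a) = a * L.u * (a * a) * L.t * a by group,
          D.sq, mul_one]
        group
      rw [hφ, e1, e2, ← b3, ((hEg 3).mul_right hEx).eq, mul_assoc (av L 3 * x), hEE, mul_one,
        ← hgw, show g * (g * w * g) * g = (g * g) * w * (g * g) by group, hgg, one_mul, mul_one]
    have hfix : lin (comp (comp (comp (comp ![1, 2, 8, 12] ![1, 2, 5, 10])
        (comp ![1, 2, 8, 12] ![1, 2, 8, 12])) ![4, 8, 1, 2]) (comp (comp ![1, 2, 8, 12] ![1, 2, 5, 10])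
        (comp ![1, 2, 8, 12] ![1, 2, 8, 12]))) 6 = 6 := by decide +kernel
    have hc6 : y0 * av L 6 = av L 6 * y0 := by
      refine mul_inv_eq_iff_eq_mul.1 ?_
      rw [Act.conj hp L hY.2, hfix]
    rw [show y * L.s⁻¹ * L.t * L.s * g * a * L.t * a * g = y * w by rw [hw, hx]; group, hy,
      ← hcy, ← map_mul, ← map_pow, hsq ?_ (av_sq hp L 6) hc6, map_one]
    exact Cw.one_of hp L (Cw.mul hp L hY hY) (by decide +kernel)
  · have hne : L.u * y ≠ 1 := by
      rw [hy, ← hcu, ← map_mul]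
      intro e
      have e1 : x2 * y0 = 1 := (MulAut.conj c).injective (e.trans (map_one _).symm)
      have e2 := (Cw.mul hp L hX2 hY).2
      rw [e1] at e2
      exact absurd (act_eq hp L e2 (Cw.one hp L).2) (by decide +kernel)
    haveI : Fact (Nat.Prime 5) := ⟨by norm_num⟩
    rw [← orderOf_eq_prime huy hne]
    exact Subgroup.orderOf_dvd_natCard _ (Subgroup.mem_centralizer_singleton_iff.2
      ((show Commute L.u L.s from L.hsu.symm).mul_left cys).eq)

omit L D in
/-- The local relations not involving `b`. -/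
theorem exists_part : ∃ (L : Loc z Q) (a g y : G), a ∈ Q ∧ Part L.u z y a L.s L.t g ∧
    (Link L.u z y a g ∧ Link L.u z y (a * z) g) ∧
    5 ∣ Nat.card (Subgroup.centralizer ({L.s} : Set G)) := by
  obtain ⟨L, a, D⟩ := exists_base h
  obtain ⟨g, y, hP, hl, h5⟩ := exists_part' h L D
  exact ⟨L, a, g, y, D.mem, hP, hl, h5⟩

end CfsgLib.JThree
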