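import Cfsg.Agent.JThree.Rels
import Cfsg.Agent.JThree.CollapseWp
import Cfsg.Agent.JThree.CollapseWm
import Cfsg.Agent.JThree.CollapseY0
import Cfsg.Agent.JThree.CollapseY1
import Cfsg.Agent.JThree.CollapseY2

/-!
Wrong values of two of the local relations of a group of `J₃` type put `t` into the subgroup generated by
`u, z, y, a, s` (resp. with `b`).
-/

set_option autoImplicit false

namespace CfsgLib.JThree

open CfsgLib.CosetEnum

/-- The local relations in which `b` does not occur, without `(u z y a) ^ 4 = 1`. -/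
structure CoreRels {G : Type*} [Group G] (u z y a s t g : G) : Prop where
  uu : u * u = 1
  zz : z * z = 1
  yy : y * y = 1
  aa : a * a = 1
  tt : t * t = 1
  gg : g * g = 1
  sss : s ^ 3 = 1
  uy : (u * y) ^ 5 = 1
  zy : (z * y) ^ 3 = 1
  uzy : (u * z * y) ^ 5 = 1
  uz : (u * z) ^ 2 = 1
  za : (z * a) ^ 2 = 1
  uau : u * a * u * a * z = 1
  ya : (y * a) ^ 3 = 1
  uyzay : (u * y * z * a * y) ^ 3 = 1
  su : s * u * s⁻¹ * u = 1
  sz : s * z * s⁻¹ * z = 1
  sy : s * y * s⁻¹ * y = 1
  sa : s * a * s⁻¹ * a = 1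
  tu : (t * u) ^ 2 = 1
  tz : (t * z) ^ 2 = 1
  ta : (t * a) ^ 4 * z = 1
  st : (s * t) ^ 3 = 1
  tt2 : (t * s⁻¹ * t * s) ^ 2 = 1
  rt : z * y * u * z * y * u * y * s * s * t * s⁻¹ * s⁻¹ * y * u * y * z * u * y * z * t = 1
  gz : g * z * g * t = 1
  gu : g * u * g * s⁻¹ * t * s * t = 1
  gs : g * s * g * z * y * u * z * y * u * y * s * s = 1
  gx : (g * a * t * a) ^ 3 = 1
  xt2 : s⁻¹ * t * s * a * t * a * s⁻¹ * t * s * a * t * a * u * z = 1
  yv : (y * s⁻¹ * t * s * g * a * t * a * g) ^ 2 = 1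

theorem Gen.toCoreRels {G : Type*} [Group G] {u z y a s t g b : G} (h : Gen u z y a s t g b) :
    CoreRels u z y a s t g := by
  constructor <;> first
    | exact h.uu | exact h.zz | exact h.yy | exact h.aa | exact h.tt | exact h.gg | exact h.sss
    | exact h.uy | exact h.zy | exact h.uzy | exact h.uz | exact h.za | exact h.uau | exact h.ya
    | exact h.uyzay | exact h.su | exact h.sz | exact h.sy | exact h.sa | exact h.tu | exact h.tz
    | exact h.ta | exact h.st | exact h.tt2 | exact h.rt | exact h.gz | exact h.gu | exact h.gs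
    | exact h.gx | exact h.xt2 | exact h.yv

namespace Collapse

/-- The values of the letters. -/
def letters {G : Type*} [Group G] (u z y a s t g b : G) : ℕ → G
  | 0 => u
  | 1 => z
  | 2 => y
  | 3 => a
  | 4 => t
  | 5 => g
  | 6 => b
  | 7 => s
  | 8 => s⁻¹
  | _ => 1

variable {G : Type*} [Group G] {u z y a s t g b : G}

theorem letters_iv (h : CoreRels u z y a s t g) (hb : b * b = 1) :
    ∀ x, x < 12 → letters u z y a s t g b (ivl x) = (letters u z y a s t g b x)⁻¹ := by
  have e : ∀ {x : G}, x * x = 1 → x = x⁻¹ := eq_inv_of_mul_eq_one_left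
  intro x hx
  interval_cases x
  exacts [e h.uu, e h.zz, e h.yy, e h.aa, e h.tt, e h.gg, e hb, rfl, (inv_inv s).symm, inv_one.symm,
    inv_one.symm, inv_one.symm]

theorem coreW_ok (h : CoreRels u z y a s t g) : ∀ w ∈ coreW, prodw (letters u z y a s t g b) w = 1 := by
  obtain ⟨-, -, -, -, -, -, h7, h8, h9, h10, h11, h12, h13, h14, h15, h16, h17, h18, h19, h20, h21, h22, h23,
    h24, h25, h26, h27, h28, h29, h30, h31⟩ := h
  simp only [pow_succ, pow_zero, one_mul, mul_assoc] at *
  simp only [coreW, List.forall_mem_cons]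
  simp only [prodw, List.map_cons, List.map_nil, List.prod_cons, List.prod_nil, letters, mul_one]
  exact ⟨h7, h8, h9, h10, h11, h12, h13, h14, h15, h16, h17, h18, h19, h20, h21, h22, h23, h24, h25, h26, h27,
    h28, h29, h30, h31, fun _ h => absurd h List.not_mem_nil⟩

theorem bElemW_ok (hw : (u * z * y * a) ^ 4 = 1) (hbs : (b * s) ^ 2 = 1) (hbu : b * u * b * a = 1)
    (hbz : (b * z) ^ 2 = 1) (hbt : (b * t) ^ 3 * z = 1) :
    ∀ w ∈ bElemW, prodw (letters u z y a s t g b) w = 1 := by
  simp only [pow_succ, pow_zero, one_mul, mul_assoc] at *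
  simp only [bElemW, List.forall_mem_cons]
  simp only [prodw, List.map_cons, List.map_nil, List.prod_cons, List.prod_nil, letters, mul_one]
  exact ⟨hw, hbs, hbu, hbz, hbt, fun _ h => absurd h List.not_mem_nil⟩

theorem extra_ok {X : List (List ℕ)} {w : List ℕ} (hX : X = [w]) {γ : ℕ → G} (h : prodw γ w = 1) :
    ∀ v ∈ X, prodw γ v = 1 := by
  subst hX
  simpa using h

theorem mem_of_cert {γ : ℕ → G} {H : Subgroup G} {R W : List (List ℕ)} {C : Cert} {S : ℕ}
    (hiv : ∀ x, x < 12 → γ (ivl x) = (γ x)⁻¹) (he : γ 12 = 1) (hR : ∀ w ∈ R, prodw γ w = 1)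
    (hW : ∀ w ∈ W, prodw γ w ∈ H) (hok : C.ok R W = true) (h : C.reads [4] 0 0 S = true) : γ 4 ∈ H := by
  simpa [prodw] using Cert.prodw_mem hiv he hR hW hok h

theorem forall_append {R R' : List (List ℕ)} {γ : ℕ → G} (h : ∀ w ∈ R, prodw γ w = 1)
    (h' : ∀ w ∈ R', prodw γ w = 1) : ∀ w ∈ R ++ R', prodw γ w = 1 := fun w hw =>
  (List.mem_append.1 hw).elim (h w) (h' w)

theorem subW_mem : ∀ w ∈ subW, prodw (letters u z y a s t g b) w ∈ Subgroup.closure ({u, z, y, a, s} : Set G) := by
  simp only [subW, List.forall_mem_cons]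
  simp only [prodw, List.map_cons, List.map_nil, List.prod_cons, List.prod_nil, letters, mul_one]
  refine ⟨?_, ?_, ?_, ?_, ?_, fun _ h => absurd h List.not_mem_nil⟩ <;> exact Subgroup.subset_closure (by simp)

theorem subWB_mem :
    ∀ w ∈ subWB, prodw (letters u z y a s t g b) w ∈ Subgroup.closure ({u, z, y, a, s, b} : Set G) := by
  simp only [subWB, List.forall_mem_cons]
  simp only [prodw, List.map_cons, List.map_nil, List.prod_cons, List.prod_nil, letters, mul_one]
  refine ⟨?_, ?_, ?_, ?_, ?_, ?_, fun _ h => absurd h List.not_mem_nil⟩ <;> exact Subgroup.subset_closure (by simp)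

end Collapse

open Collapse

variable {G : Type*} [Group G] {u z y a s t g b : G}

/-- A wrong value of `(u z y a) ^ 4` collapses the group. -/
theorem t_mem_of_wrong_w4 (h : CoreRels u z y a s t g)
    (hw : (u * z * y * a) ^ 4 = s ∨ (u * z * y * a) ^ 4 = s⁻¹) :
    t ∈ Subgroup.closure ({u, z, y, a, s} : Set G) := by
  have hiv := letters_iv (b := (1 : G)) h (mul_one 1)
  rcases hw with e | e
  · refine mem_of_cert hiv rfl (forall_append (coreW_ok h) (extra_ok rfl ?_)) subW_mem wp_ok wp_reads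
    show prodw (letters u z y a s t g 1) _ = 1
    have e' := mul_inv_eq_one.2 e
    simpa [prodw, letters, pow_succ, mul_assoc] using e'
  · refine mem_of_cert hiv rfl (forall_append (coreW_ok h) (extra_ok rfl ?_)) subW_mem wm_ok wm_reads
    show prodw (letters u z y a s t g 1) _ = 1
    have e' := mul_inv_eq_one.2 e
    rw [inv_inv] at e'
    simpa [prodw, letters, pow_succ, mul_assoc] using e'

/-- A wrong value of `b y b` collapses the group. -/
theorem t_mem_of_wrong_yb (h : CoreRels u z y a s t g) (hbb : b * b = 1) (hw : (u * z * y * a) ^ 4 = 1)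
    (hbs : (b * s) ^ 2 = 1) (hbu : b * u * b * a = 1) (hbz : (b * z) ^ 2 = 1) (hbt : (b * t) ^ 3 * z = 1)
    (hyb : b * y * b = u * z * y * u * y * a * y ∨ b * y * b = u * y * a * y * u * y * z ∨
      b * y * b = y * u * a * y * u * a) :
    t ∈ Subgroup.closure ({u, z, y, a, s, b} : Set G) := by
  have hiv := letters_iv h hbb
  have hR := forall_append (coreW_ok (b := b) h) (bElemW_ok (g := g) hw hbs hbu hbz hbt)
  have hinv : ∀ {x : G}, x * x = 1 → x⁻¹ = x := fun e => inv_eq_of_mul_eq_one_left e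
  rcases hyb with e | e | e
  all_goals
    have e' := mul_inv_eq_one.2 e
    simp only [_root_.mul_inv_rev, hinv h.uu, hinv h.zz, hinv h.yy, hinv h.aa, mul_assoc] at e'
  · refine mem_of_cert hiv rfl (forall_append hR (extra_ok rfl ?_)) subWB_mem y0_ok y0_reads
    simpa [prodw, letters, mul_assoc] using e'
  · refine mem_of_cert hiv rfl (forall_append hR (extra_ok rfl ?_)) subWB_mem y1_ok y1_reads
    simpa [prodw, letters, mul_assoc] using e'
  · refine mem_of_cert hiv rfl (forall_append hR (extra_ok rfl ?_)) subWB_mem y2_ok y2_reads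
    simpa [prodw, letters, mul_assoc] using e'

end CfsgLib.JThree
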