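import Cfsg.Agent.CosetEnum.Index

set_option autoImplicit false

/-!
The checker of `MTwelveUnique.Checker` for an alphabet with involutions: the letters `0` to `6` are their own
inverses, `7` and `8` are inverse to one another.

A fact `(u, x, v)` says `cr u * g x * (cr v)⁻¹ ∈ H`; the letter `eps = 12` stands for the identity, so
such facts identify cosets.  Facts are stored in one packed number; each step derives one fact from
a relator, a subgroup generator or a free cancellation, read along earlier facts.
-/

namespace CfsgLib.JThree.Collapse

open CfsgLib.CosetEnum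

/-- The inverse of a letter. -/
def ivl (x : ℕ) : ℕ := bif Nat.beq x 7 then 8 else bif Nat.beq x 8 then 7 else x

/-- A field of 64 bits. -/
def ext64 (tbl i : ℕ) : ℕ := Nat.land (Nat.shiftRight tbl (Nat.mul 64 i)) 18446744073709551615

/-- Source of a fact. -/
def srcOf (F i : ℕ) : ℕ := Nat.land (ext64 F i) 16777215

/-- Letter of a fact. -/
def letOf (F i : ℕ) : ℕ := Nat.land (Nat.shiftRight (ext64 F i) 24) 255

/-- Target of a fact. -/
def dstOf (F i : ℕ) : ℕ := Nat.shiftRight (ext64 F i) 32

/-- Follow `n` path entries of `S` starting at position `pos`, consuming the word read. -/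
def rd (F lim S : ℕ) : ℕ → ℕ → ℕ → List ℕ → Option (ℕ × List ℕ)
  | 0, _, a, w => some (a, w)
  | n + 1, pos, a, w =>
    let e := ext S pos
    let i := Nat.shiftRight e 1
    let back := Nat.beq (Nat.land e 1) 1
    let x := letOf F i
    if Nat.blt i lim && Nat.beq (bif back then dstOf F i else srcOf F i) a then
      (let b := bif back then srcOf F i else dstOf F i
      if Nat.beq x 12 then rd F lim S n (pos + 1) b w
      else match w with
        | [] => none
        | y :: w' =>
          if Nat.blt x 12 && Nat.beq y (bif back then ivl x else x) then
            rd F lim S n (pos + 1) b w'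
          else none)
    else none

/-- The word of a step, if it may be used at its start node. -/
def stepWord (R W : List (List ℕ)) (code start : ℕ) : Option (List ℕ) :=
  let p := code / 4
  match code % 4 with
  | 0 => match R[p / 128]? with
    | none => none
    | some w =>
      if w.all (fun y => Nat.blt y 12) then
        (let u := bif Nat.beq (p % 2) 1 then (w.map ivl).reverse else w
        some (u.drop (p / 2 % 64) ++ u.take (p / 2 % 64)))
      else none
  | 1 => if Nat.beq start 0 then W[p]? else none
  | 2 => if Nat.blt p 12 then some [p, ivl p] else none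
  | _ => none

/-- Check one derived fact. -/
def stepOK (R W : List (List ℕ)) (F i S : ℕ) : Bool :=
  match stepWord R W (ext S 0) (ext S 1) with
  | none => false
  | some w =>
    match rd F i S (ext S 2) 4 (ext S 1) w with
    | none => false
    | some (u, w1) =>
      Nat.beq u (srcOf F i) &&
        match (if Nat.beq (letOf F i) 12 then some w1 else
          match w1 with
          | [] => none
          | y :: w2 => if Nat.beq y (letOf F i) then some w2 else none) with
        | none => false
        | some w2 =>
          match rd F i S (ext S 3) (4 + ext S 2) (dstOf F i) w2 with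
          | some (t, []) => Nat.beq t (ext S 1)
          | _ => false

/-- Check the derived facts in order. -/
def stepsOK (R W : List (List ℕ)) (F : ℕ) : List ℕ → ℕ → Bool
  | [], _ => true
  | S :: Ss, i => stepOK R W F i S && stepsOK R W F Ss (i + 1)

/-- A defining edge of the tree. -/
def treeFact (F parN parX i : ℕ) : Bool :=
  Nat.blt (ext parN (i + 1)) (i + 1) && (Nat.blt (ext parX (i + 1)) 12 &&
    (Nat.beq (srcOf F i) (ext parN (i + 1)) && (Nat.beq (dstOf F i) (i + 1) &&
      Nat.beq (letOf F i) (ext parX (i + 1)))))

/-- The first `n` facts are the defining edges. -/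
def treeFacts (F parN parX : ℕ) : ℕ → Bool
  | 0 => true
  | n + 1 => treeFact F parN parX n && treeFacts F parN parX n

/-- A certificate. -/
structure Cert where
  nT : ℕ
  parN : ℕ
  parX : ℕ
  F : ℕ
  steps : List ℕ

/-- The number of facts. -/
def Cert.lim (C : Cert) : ℕ := C.nT + C.steps.length

/-- Validity of a certificate. -/
def Cert.ok (C : Cert) (R W : List (List ℕ)) : Bool :=
  treeFacts C.F C.parN C.parX C.nT && stepsOK R W C.F C.steps C.nT

/-- A packed path reads the word `w` from `a` to `b`. -/
def Cert.reads (C : Cert) (w : List ℕ) (a b S : ℕ) : Bool :=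
  match rd C.F C.lim S (ext S 0) 1 a w with
  | some (t, []) => Nat.beq t b
  | _ => false

section Sound

variable {G : Type*} [Group G] (g : ℕ → G) (H : Subgroup G) (cr : ℕ → G) (F : ℕ)

/-- Meaning of the fact `i`. -/
def Holds (i : ℕ) : Prop := cr (srcOf F i) * g (letOf F i) * (cr (dstOf F i))⁻¹ ∈ H

variable {g H cr F}
variable (hiv : ∀ x, x < 12 → g (ivl x) = (g x)⁻¹) (he : g 12 = 1)
include hiv he

theorem rd_sound {lim S : ℕ} (hF : ∀ i, i < lim → Holds g H cr F i) :
    ∀ (n pos a : ℕ) (w : List ℕ) (b : ℕ) (w' : List ℕ), rd F lim S n pos a w = some (b, w') →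
      cr a * prodw g w * (prodw g w')⁻¹ * (cr b)⁻¹ ∈ H := by
  intro n
  induction n with
  | zero =>
    intro pos a w b w' h
    simp only [rd, Option.some.injEq, Prod.mk.injEq] at h
    obtain ⟨rfl, rfl⟩ := h
    simp [mul_assoc]
  | succ n ih =>
    intro pos a w b w' h
    simp only [rd] at h
    generalize Nat.shiftRight (ext S pos) 1 = i at h
    generalize Nat.beq (Nat.land (ext S pos) 1) 1 = back at h
    split at h
    · rename_i hc
      simp only [Bool.and_eq_true, Nat.blt_eq, Nat.beq_eq] at hc
      obtain ⟨hi, ha⟩ := hc
      have hf := hF i hi
      unfold Holds at hf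
      split at h
      · rename_i hx
        rw [Nat.beq_eq] at hx
        rw [hx, he, mul_one] at hf
        have := ih _ _ _ _ _ h
        cases back
        · simp only [cond_false] at ha this
          subst ha
          simpa [mul_assoc] using H.mul_mem hf this
        · simp only [cond_true] at ha this
          subst ha
          simpa [mul_assoc] using H.mul_mem (H.inv_mem hf) this
      · cases w with
        | nil => simp at h
        | cons y w2 =>
          simp only at h
          split at h
          · rename_i hy
            simp only [Bool.and_eq_true, Nat.blt_eq, Nat.beq_eq] at hy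
            obtain ⟨hx, rfl⟩ := hy
            have := ih _ _ _ _ _ h
            cases back
            · simp only [cond_false] at ha this ⊢
              subst ha
              rw [prodw_cons]
              simpa [mul_assoc] using H.mul_mem hf this
            · simp only [cond_true] at ha this ⊢
              subst ha
              rw [prodw_cons, hiv _ hx]
              simpa [mul_assoc] using H.mul_mem (H.inv_mem hf) this
          · simp at h
    · simp at h

variable {R W : List (List ℕ)} (h0 : cr 0 = 1) (hR : ∀ w ∈ R, prodw g w = 1)
  (hW : ∀ w ∈ W, prodw g w ∈ H)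
include h0 hR hW

theorem stepWord_sound {code start : ℕ} {w : List ℕ} (h : stepWord R W code start = some w) :
    cr start * prodw g w * (cr start)⁻¹ ∈ H := by
  unfold stepWord at h
  simp only at h
  generalize code / 4 = p at h
  generalize code % 4 = c at h
  rcases c with _ | _ | _ | c
  · simp only at h
    cases hp : R[p / 128]? with
    | none => simp [hp] at h
    | some r =>
      simp only [hp] at h
      split at h
      · rename_i hall
        simp only [Option.some.injEq] at h
        subst h
        have hmem : r ∈ R := List.mem_of_getElem? hp
        have h1 : prodw g r = 1 := hR r hmem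
        have hy : ∀ y ∈ r, y < 12 ∧ ivl y < 12 := fun y hy => by
          have := List.all_eq_true.mp hall y hy
          rw [Nat.blt_eq] at this
          refine ⟨this, ?_⟩
          interval_cases y <;> decide
        generalize hu : (bif Nat.beq (p % 2) 1 then (r.map ivl).reverse else r) = u
        have h2 : prodw g u = 1 := by
          subst hu
          cases Nat.beq (p % 2) 1
          · simpa using h1
          · simp only [cond_true]
            rw [prodw_rev_iv g 12 ivl (fun x hx _ => hiv x hx) r hy, h1, inv_one]
        generalize p / 2 % 64 = t
        rw [← List.take_append_drop t u, prodw_append] at h2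
        rw [prodw_append, eq_inv_of_mul_eq_one_left h2]
        simp [H.one_mem]
      · simp at h
  · simp only at h
    split at h
    · rename_i hs
      rw [Nat.beq_eq] at hs
      subst hs
      simpa [h0] using hW w (List.mem_of_getElem? h)
    · simp at h
  · simp only at h
    split at h
    · rename_i hs
      rw [Nat.blt_eq] at hs
      simp only [Option.some.injEq] at h
      subst h
      have h2 : g (ivl p) = (g p)⁻¹ := hiv p hs
      simp [prodw, h2, H.one_mem]
    · simp at h
  · simp at h

theorem stepOK_sound {i S : ℕ} (hF : ∀ j, j < i → Holds g H cr F j)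
    (h : stepOK R W F i S = true) : Holds g H cr F i := by
  unfold stepOK at h
  split at h
  · simp at h
  rename_i w hw
  have hword := stepWord_sound hiv he h0 hR hW hw
  split at h
  · simp at h
  rename_i u w1 hpre
  simp only [Bool.and_eq_true, Nat.beq_eq] at h
  obtain ⟨hu, h⟩ := h
  subst hu
  have hA := rd_sound hiv he hF _ _ _ _ _ _ hpre
  split at h
  · simp at h
  rename_i w2 hmid
  have hx : prodw g w1 = g (letOf F i) * prodw g w2 := by
    split at hmid
    · rename_i hx
      simp only [Option.some.injEq] at hmid
      rw [hx, he, one_mul, hmid]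
    · cases w1 with
      | nil => simp at hmid
      | cons y t =>
        simp only at hmid
        split at hmid
        · rename_i hy
          simp only [Option.some.injEq] at hmid
          rw [prodw_cons, hy, hmid]
        · simp at hmid
  split at h
  · rename_i t hpost
    rw [Nat.beq_eq] at h
    subst h
    have hB := rd_sound hiv he hF _ _ _ _ _ _ hpost
    have := H.mul_mem (H.mul_mem (H.inv_mem hA) hword) (H.inv_mem hB)
    rw [hx] at this
    unfold Holds
    simpa [prodw_nil, mul_assoc] using this
  · simp at h

theorem stepsOK_sound : ∀ (Ss : List ℕ) (i : ℕ), (∀ j, j < i → Holds g H cr F j) →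
    stepsOK R W F Ss i = true → ∀ j, j < i + Ss.length → Holds g H cr F j := by
  intro Ss
  induction Ss with
  | nil => intro i hF _ j hj; exact hF j (by simpa using hj)
  | cons S Ss ih =>
    intro i hF h j hj
    simp only [stepsOK, Bool.and_eq_true] at h
    refine ih (i + 1) (fun l hl => ?_) h.2 j (by simp at hj; omega)
    rcases Nat.lt_or_ge l i with hli | hli
    · exact hF l hli
    · obtain rfl : l = i := by omega
      exact stepOK_sound hiv he h0 hR hW hF h.1

end Sound

section Main

variable {G : Type*} [Group G] {g : ℕ → G} {H : Subgroup G} {R W : List (List ℕ)} {C : Cert}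

/-- What a checked path says. -/
theorem Cert.mem_of_reads (hiv : ∀ x, x < 12 → g (ivl x) = (g x)⁻¹) (he : g 12 = 1)
    (hR : ∀ w ∈ R, prodw g w = 1) (hW : ∀ w ∈ W, prodw g w ∈ H) (hok : C.ok R W = true)
    {w : List ℕ} {a b S : ℕ} (h : C.reads w a b S = true) :
    crOf g C.parN C.parX a * prodw g w * (crOf g C.parN C.parX b)⁻¹ ∈ H := by
  simp only [Cert.ok, Bool.and_eq_true] at hok
  have htree : ∀ n, treeFacts C.F C.parN C.parX n = true →
      ∀ j, j < n → Holds g H (crOf g C.parN C.parX) C.F j := by
    intro n
    induction n with
    | zero => intro _ j hj; omega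
    | succ n ih =>
      intro hn j hj
      simp only [treeFacts, Bool.and_eq_true] at hn
      rcases Nat.lt_or_ge j n with hjn | hjn
      · exact ih hn.2 j hjn
      · obtain rfl : j = n := by omega
        obtain ⟨h1, _⟩ := hn
        simp only [treeFact, Bool.and_eq_true, Nat.blt_eq, Nat.beq_eq] at h1
        obtain ⟨hlt, _, hs, hd, hl⟩ := h1
        unfold Holds
        rw [hs, hd, hl, crOf_step g C.parN C.parX (j + 1) hlt, mul_inv_cancel]
        exact H.one_mem
  have hall := stepsOK_sound hiv he (crOf_zero g C.parN C.parX) hR hW C.steps C.nT
    (htree C.nT hok.1) hok.2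
  unfold Cert.reads at h
  split at h
  · rename_i t hr
    rw [Nat.beq_eq] at h
    subst h
    simpa [prodw_nil] using rd_sound hiv he hall _ _ _ _ _ _ hr
  · simp at h

/-- A checked closed path at the trivial coset. -/
theorem Cert.prodw_mem (hiv : ∀ x, x < 12 → g (ivl x) = (g x)⁻¹) (he : g 12 = 1)
    (hR : ∀ w ∈ R, prodw g w = 1) (hW : ∀ w ∈ W, prodw g w ∈ H) (hok : C.ok R W = true)
    {w : List ℕ} {S : ℕ} (h : C.reads w 0 0 S = true) : prodw g w ∈ H := by
  simpa [crOf_zero] using Cert.mem_of_reads hiv he hR hW hok h

end Main

end CfsgLib.JThree.Collapse
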