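import Cfsg.Agent.JThree.CollapseChecker

/-! Generated words for the collapse certificates; the letters `u z y a t g b s s⁻¹` are `0` to `8`. -/

set_option autoImplicit false

namespace CfsgLib.JThree.Collapse

/-- Words. -/
def coreW : List (List ℕ) :=
  [[7, 7, 7],
   [0, 2, 0, 2, 0, 2, 0, 2, 0, 2],
   [1, 2, 1, 2, 1, 2],
   [0, 1, 2, 0, 1, 2, 0, 1, 2, 0, 1, 2, 0, 1, 2],
   [0, 1, 0, 1],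
   [1, 3, 1, 3],
   [0, 3, 0, 3, 1],
   [2, 3, 2, 3, 2, 3],
   [0, 2, 1, 3, 2, 0, 2, 1, 3, 2, 0, 2, 1, 3, 2],
   [7, 0, 8, 0],
   [7, 1, 8, 1],
   [7, 2, 8, 2],
   [7, 3, 8, 3],
   [4, 0, 4, 0],
   [4, 1, 4, 1],
   [4, 3, 4, 3, 4, 3, 4, 3, 1],
   [7, 4, 7, 4, 7, 4],
   [4, 8, 4, 7, 4, 8, 4, 7],
   [1, 2, 0, 1, 2, 0, 2, 7, 7, 4, 8, 8, 2, 0, 2, 1, 0, 2, 1, 4],
   [5, 1, 5, 4],
   [5, 0, 5, 8, 4, 7, 4],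
   [5, 7, 5, 1, 2, 0, 1, 2, 0, 2, 7, 7],
   [5, 3, 4, 3, 5, 3, 4, 3, 5, 3, 4, 3],
   [8, 4, 7, 3, 4, 3, 8, 4, 7, 3, 4, 3, 0, 1],
   [2, 8, 4, 7, 5, 3, 4, 3, 5, 2, 8, 4, 7, 5, 3, 4, 3, 5]]

/-- Words. -/
def bElemW : List (List ℕ) :=
  [[0, 1, 2, 3, 0, 1, 2, 3, 0, 1, 2, 3, 0, 1, 2, 3],
   [6, 7, 6, 7],
   [6, 0, 6, 3],
   [6, 1, 6, 1],
   [6, 4, 6, 4, 6, 4, 1]]

/-- Words. -/
def subW : List (List ℕ) :=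
  [[0],
   [1],
   [2],
   [3],
   [7]]

/-- Words. -/
def subWB : List (List ℕ) :=
  [[0],
   [1],
   [2],
   [3],
   [7],
   [6]]

/-- Words. -/
def extraWp : List (List ℕ) :=
  [[0, 1, 2, 3, 0, 1, 2, 3, 0, 1, 2, 3, 0, 1, 2, 3, 8]]

/-- Words. -/
def extraWm : List (List ℕ) :=
  [[0, 1, 2, 3, 0, 1, 2, 3, 0, 1, 2, 3, 0, 1, 2, 3, 7]]

/-- Words. -/
def extraY0 : List (List ℕ) :=
  [[6, 2, 6, 2, 3, 2, 0, 2, 1, 0]]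

/-- Words. -/
def extraY1 : List (List ℕ) :=
  [[6, 2, 6, 1, 2, 0, 2, 3, 2, 0]]

/-- Words. -/
def extraY2 : List (List ℕ) :=
  [[6, 2, 6, 3, 0, 2, 3, 0, 2]]

end CfsgLib.JThree.Collapse
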