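import Cfsg.Agent.JThree.Basic
import Cfsg.Agent.HallJanko.CentT

/-!
# Coordinates on the elementary abelian group `⟨z, u, t, t₂⟩`

The group is indexed by `Fin 16` (bits `z, u, t, t₂`), and a map normalising it is recorded by the
images of the four basis vectors.
-/

set_option autoImplicit false
set_option linter.style.haveILetI false
set_option linter.unusedSectionVars false

namespace CfsgLib.JThree

open CfsgLib.HallJanko

/-- A bit of an index. -/
def bit (x : Fin 16) (k : Fin 4) : Bool := x.val.testBit k.val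

/-- The basis. -/
def unit4 : Fin 4 → Fin 16 := ![1, 2, 4, 8]

/-- The linear extension of the images of the basis. -/
def lin (m : Fin 4 → Fin 16) (x : Fin 16) : Fin 16 :=
  (if bit x 0 then m 0 else 0) ^^^ (if bit x 1 then m 1 else 0) ^^^ (if bit x 2 then m 2 else 0) ^^^
    (if bit x 3 then m 3 else 0)

/-- Composition. -/
def comp (m m' : Fin 4 → Fin 16) : Fin 4 → Fin 16 := fun k => lin m (m' k)

theorem bit_xor : ∀ (x y : Fin 16) (k : Fin 4), bit (x ^^^ y) k = (bit x k != bit y k) := by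
  decide +kernel

theorem lin_unit4 : ∀ x : Fin 16, lin unit4 x = x := by decide +kernel

variable {G : Type*} [Group G]

/-- `v` or `1`. -/
def pw (v : G) (b : Bool) : G := if b then v else 1

theorem pw_xor {v : G} (hv : v * v = 1) (b c : Bool) : pw v (b != c) = pw v b * pw v c := by
  cases b <;> cases c <;> simp [pw, hv]

theorem pw_comm {v w : G} (h : Commute v w) (b c : Bool) : Commute (pw v b) (pw w c) := by
  cases b <;> cases c <;> simp [pw, h]

theorem mul_four {a a' b b' c c' d d' : G} (ba : Commute b a') (ca : Commute c a')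
    (cb : Commute c b') (da : Commute d a') (db : Commute d b') (dc : Commute d c') :
    (a * a') * (b * b') * (c * c') * (d * d') = a * b * c * d * (a' * b' * c' * d') := by
  rw [ba.symm.mul_mul_mul_comm, (ca.mul_right cb).symm.mul_mul_mul_comm,
    ((da.mul_right db).mul_right dc).symm.mul_mul_mul_comm]

variable {z : G} {Q : Subgroup G}

/-- The element with given coordinates. -/
def av (L : Loc z Q) (x : Fin 16) : G :=
  pw z (bit x 0) * pw L.u (bit x 1) * pw L.t (bit x 2) * pw L.t2 (bit x 3)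

/-- `g` normalises the group, with given images of the basis. -/
def Act (L : Loc z Q) (g : G) (m : Fin 4 → Fin 16) : Prop :=
  ∀ k, g * av L (unit4 k) * g⁻¹ = av L (m k)

theorem Act.mul' (L : Loc z Q) {g g' : G} {m m' : Fin 4 → Fin 16}
    (hav : ∀ x, g * av L x * g⁻¹ = av L (lin m x)) (h' : Act L g' m') :
    Act L (g * g') (comp m m') := fun k => by
  rw [show g * g' * av L (unit4 k) * (g * g')⁻¹ = g * (g' * av L (unit4 k) * g'⁻¹) * g⁻¹ by group,
    h' k, hav]
  rfl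

variable [Finite G] (h : PreCore z Q) (L : Loc z Q)
include h

theorem t2_facts : L.t2 * z = z * L.t2 ∧ L.t2 * L.t2 = 1 ∧ L.t2 ∉ Q ∧
    L.t2 * L.u = L.u * L.t2 ∧ L.r * L.t2 = L.t2 * L.r := by
  have hsi : Commute L.s⁻¹ z := (show Commute L.s z from L.hs).inv_left
  refine ⟨(((show Commute L.s z from L.hs).mul_left L.ht).mul_left hsi).eq, ?_, fun hm => L.htQ ?_,
    (((show Commute L.s L.u from L.hsu).mul_left L.htu).mul_left
      (show Commute L.s L.u from L.hsu).inv_left).eq,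
    (((show Commute L.r L.s from L.hrs).mul_right L.hrt).mul_right
      (show Commute L.r L.s from L.hrs).inv_right).eq⟩
  · rw [Loc.t2, show L.s * L.t * L.s⁻¹ * (L.s * L.t * L.s⁻¹) = L.s * (L.t * L.t) * L.s⁻¹ by group,
      L.ht2, mul_one, mul_inv_cancel]
  · rw [Loc.t2] at hm
    have := h.hn L.s⁻¹ hsi.eq _ hm
    rwa [show L.s⁻¹ * (L.s * L.t * L.s⁻¹) * L.s⁻¹⁻¹ = L.t by group] at this

theorem r_uz : L.r * (L.u * z) * L.r⁻¹ = z := by
  rw [show L.r * (L.u * z) * L.r⁻¹ = L.r * L.u * L.r⁻¹ * (L.r * z * L.r⁻¹) by group, L.hru, L.hrz,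
    h.hQC _ (L.F.mem _), mul_assoc, L.F.sq, mul_one]

theorem fixed_t : (L.F.p L.ht : Equiv.Perm (Fin 5)) L.f = L.f ∧
    ∀ i, (L.F.p L.ht : Equiv.Perm (Fin 5)) i = i → i = L.f := by
  obtain ⟨f', hf', hu', hc'⟩ := L.F.exists_fixed h L.ht L.ht2 L.htQ
  obtain rfl : f' = L.f := (hu' _ (L.F.fix_of_commute h L.ht L.htu)).symm
  exact ⟨hf', hu'⟩

theorem t_rel : L.t * L.t2 = L.t2 * L.t ∧ L.s * L.t2 * L.s⁻¹ = L.t * L.t2 := by
  obtain ⟨hf', hu'⟩ := fixed_t h L
  obtain ⟨x, hx⟩ : ∃ x, x = L.t * L.t2 * (L.s * L.t2 * L.s⁻¹) := ⟨_, rfl⟩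
  have hboth : L.t * L.t2 = L.t2 * L.t ∧ (Eqz z x 1 ∨ Eqz z x L.u) := by
    rcases L.F.three_orbit h L.ht L.ht2 L.htQ hf' L.htu L.hs L.hs3 L.hsu with ⟨e1, e2⟩ | ⟨e1, e2⟩
    · exact ⟨e1, Or.inl (hx ▸ e2)⟩
    · exact ⟨e1, Or.inr (hx ▸ e2)⟩
  have hrx : L.r * x * L.r⁻¹ = x := by
    have hc : Commute L.r x := hx ▸ ((show Commute L.r L.t from L.hrt).mul_right
      (t2_facts h L).2.2.2.2).mul_right
        (((show Commute L.r L.s from L.hrs).mul_right (t2_facts h L).2.2.2.2).mul_right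
          (show Commute L.r L.s from L.hrs).inv_right)
    rw [hc.eq, mul_inv_cancel_right]
  have hx1 : x = 1 := by
    rcases hboth.2 with (e | e) | (e | e)
    · exact e
    · rw [one_mul] at e
      rw [e, L.hrz] at hrx
      exact absurd hrx (L.F.ne_z _)
    · rw [e, L.hru] at hrx
      exact absurd (mul_eq_left.1 hrx) h.z_ne_one
    · rw [e, r_uz h L] at hrx
      exact absurd (mul_eq_right.1 hrx.symm) (L.F.ne_one _)
  refine ⟨hboth.1, ?_⟩
  rw [hx] at hx1
  have e := eq_inv_of_mul_eq_one_right hx1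
  rw [e, mul_inv_rev, inv_eq_of_mul_eq_one_left L.ht2,
    inv_eq_of_mul_eq_one_left (t2_facts h L).2.1, hboth.1]

theorem av_xor (x y : Fin 16) : av L (x ^^^ y) = av L x * av L y := by
  obtain ⟨a1, a2, -, a4, -⟩ := t2_facts h L
  have c1 : Commute z L.u := (h.hQC _ (L.F.mem _)).symm
  have c2 : Commute z L.t := L.ht.symm
  have c3 : Commute L.u L.t := L.htu.symm
  have c4 : Commute z L.t2 := a1.symm
  have c5 : Commute L.u L.t2 := a4.symm
  have c6 : Commute L.t L.t2 := (t_rel h L).1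
  simp only [av, bit_xor, pw_xor h.zz, pw_xor (L.F.sq _), pw_xor L.ht2, pw_xor a2]
  exact mul_four (pw_comm c1.symm _ _) (pw_comm c2.symm _ _) (pw_comm c3.symm _ _)
    (pw_comm c4.symm _ _) (pw_comm c5.symm _ _) (pw_comm c6.symm _ _)

theorem av_comm (x y : Fin 16) : av L x * av L y = av L y * av L x := by
  rw [← av_xor h, ← av_xor h, show x ^^^ y = y ^^^ x from
    (by decide +kernel : ∀ x y : Fin 16, x ^^^ y = y ^^^ x) x y]

omit h in
theorem av_basis : av L 0 = 1 ∧ av L 1 = z ∧ av L 2 = L.u ∧ av L 4 = L.t ∧ av L 8 = L.t2 := by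
  refine ⟨?_, ?_, ?_, ?_, ?_⟩
  · show (1 : G) * 1 * 1 * 1 = 1
    simp
  · show z * 1 * 1 * 1 = z
    simp
  · show 1 * L.u * 1 * 1 = L.u
    simp
  · show 1 * 1 * L.t * 1 = L.t
    simp
  · show 1 * 1 * 1 * L.t2 = L.t2
    simp

theorem av_named : av L 3 = L.u * z ∧ av L 12 = L.t * L.t2 := by
  obtain ⟨-, a1, a2, a4, a8⟩ := av_basis L
  exact ⟨by rw [show (3 : Fin 16) = 2 ^^^ 1 from rfl, av_xor h, a1, a2],
    by rw [show (12 : Fin 16) = 4 ^^^ 8 from rfl, av_xor h, a4, a8]⟩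

theorem av_sq (x : Fin 16) : av L x * av L x = 1 := by
  rw [← av_xor h, show x ^^^ x = 0 from (by decide +kernel : ∀ x : Fin 16, x ^^^ x = 0) x]
  exact (av_basis L).1

theorem av_inv (x : Fin 16) : (av L x)⁻¹ = av L x := inv_eq_of_mul_eq_one_left (av_sq h L x)

theorem av_mem_Q {x : Fin 16} : av L x ∈ Q ↔ x < 4 := by
  obtain ⟨-, -, a3, -, -⟩ := t2_facts h L
  obtain ⟨a0, a1, a2, a4, a8⟩ := av_basis L
  have hsplit : ∀ x : Fin 16, x < 4 ∧ (x = 0 ∨ x = 1 ∨ x = 2 ∨ x = 3) ∨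
      ¬ x < 4 ∧ ∃ e : Fin 16, e < 4 ∧ (x = e ^^^ 4 ∨ x = e ^^^ 8 ∨ x = e ^^^ 12) := by
    decide +kernel
  have hlow : ∀ e : Fin 16, e < 4 → av L e ∈ Q := by
    intro e he
    rcases hsplit e with ⟨-, e' | e' | e' | e'⟩ | ⟨e', -⟩
    · rw [e', a0]; exact Q.one_mem
    · rw [e', a1]; exact h.hzQ
    · rw [e', a2]; exact L.F.mem _
    · rw [e', (av_named h L).1]; exact Q.mul_mem (L.F.mem _) h.hzQ
    · exact absurd he e'
  have h12 : av L 12 ∉ Q := fun hm => by
    rw [(av_named h L).2, ← (t_rel h L).2] at hm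
    have := h.hn L.s⁻¹ (show Commute L.s z from L.hs).inv_left.eq _ hm
    rw [show L.s⁻¹ * (L.s * L.t2 * L.s⁻¹) * L.s⁻¹⁻¹ = L.t2 by group] at this
    exact a3 this
  refine ⟨fun hm => ?_, hlow x⟩
  rcases hsplit x with ⟨hx, -⟩ | ⟨-, e, he, hx | hx | hx⟩
  · exact hx
  all_goals
    exfalso
    rw [hx, av_xor h, Q.mul_mem_cancel_left (hlow e he)] at hm
  · exact L.htQ (a4 ▸ hm)
  · exact a3 (a8 ▸ hm)
  · exact h12 hm

theorem av_eq_one {x : Fin 16} (hx : av L x = 1) : x = 0 := by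
  have hlt := (av_mem_Q h L).1 (hx ▸ Q.one_mem)
  obtain ⟨-, a1, a2, -, -⟩ := av_basis L
  rcases (by decide +kernel : ∀ x : Fin 16, x < 4 → x = 0 ∨ x = 1 ∨ x = 2 ∨ x = 3) x hlt with
    e | e | e | e
  · exact e
  · exact absurd (a1 ▸ e ▸ hx) h.z_ne_one
  · exact absurd (a2 ▸ e ▸ hx) (L.F.ne_one _)
  · rw [e, (av_named h L).1] at hx
    refine absurd ?_ (L.F.ne_z L.f)
    calc L.F.a L.f = L.u * z * z := by rw [mul_assoc, h.zz, mul_one]
      _ = z := by rw [hx, one_mul]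

theorem av_inj {x y : Fin 16} (hxy : av L x = av L y) : x = y := by
  have := av_eq_one h L (x := x ^^^ y) (by rw [av_xor h, hxy, av_sq h])
  exact (by decide +kernel : ∀ x y : Fin 16, x ^^^ y = 0 → x = y) x y this

theorem av_cent (x : Fin 16) : av L x * z = z * av L x ∧ av L x * L.t = L.t * av L x := by
  obtain ⟨-, a1, -, a4, -⟩ := av_basis L
  refine ⟨?_, ?_⟩
  · have := av_comm h L x 1
    rwa [a1] at this
  · rw [← a4, av_comm h]

/-- The group is the centraliser of `z` and `t`. -/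
theorem exists_av {n : G} (hz : n * z = z * n) (ht : n * L.t = L.t * n) : ∃ x, n = av L x := by
  classical
  let K := Subgroup.centralizer ({z} : Set G) ⊓ Subgroup.centralizer ({L.t} : Set G)
  let mk : Fin 16 → K := fun x => ⟨av L x, Subgroup.mem_centralizer_singleton_iff.2 (av_cent h L x).1,
    Subgroup.mem_centralizer_singleton_iff.2 (av_cent h L x).2⟩
  have hbij := (Nat.bijective_iff_injective_and_card mk).2
    ⟨fun a b e => av_inj h L (congrArg Subtype.val e), by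
      rw [(L.F.outside_main h L.ht L.ht2 L.htQ).1, Nat.card_fin]⟩
  obtain ⟨x, hx⟩ := hbij.2 ⟨n, Subgroup.mem_centralizer_singleton_iff.2 hz,
    Subgroup.mem_centralizer_singleton_iff.2 ht⟩
  exact ⟨x, (congrArg Subtype.val hx).symm⟩

theorem Act.conj {g : G} {m : Fin 4 → Fin 16} (hg : Act L g m) (x : Fin 16) :
    g * av L x * g⁻¹ = av L (lin m x) := by
  have key : ∀ k, g * av L (if bit x k then unit4 k else 0) * g⁻¹ =
      av L (if bit x k then m k else 0) := by
    intro k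
    cases bit x k
    · simp [(av_basis L).1]
    · simpa using hg k
  have e : x = (if bit x 0 then unit4 0 else 0) ^^^ (if bit x 1 then unit4 1 else 0) ^^^
      (if bit x 2 then unit4 2 else 0) ^^^ (if bit x 3 then unit4 3 else 0) :=
    ((by decide +kernel : ∀ x : Fin 16, lin unit4 x = x) x).symm
  conv_lhs => rw [e]
  simp only [lin, av_xor h]
  rw [← key 0, ← key 1, ← key 2, ← key 3]
  group

theorem Act.mul {g g' : G} {m m' : Fin 4 → Fin 16} (hg : Act L g m) (hg' : Act L g' m') :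
    Act L (g * g') (comp m m') := Act.mul' L (Act.conj h L hg) hg'

theorem act_av (x : Fin 16) : Act L (av L x) unit4 := fun k => by
  rw [av_comm h, mul_inv_cancel_right]

theorem act_eq {g : G} {m m' : Fin 4 → Fin 16} (hm : Act L g m) (hm' : Act L g m') : m = m' :=
  funext fun k => av_inj h L ((hm k).symm.trans (hm' k))

theorem act_of_named {g : G} {a b c d : Fin 16} (e1 : g * z * g⁻¹ = av L a)
    (e2 : g * L.u * g⁻¹ = av L b) (e3 : g * L.t * g⁻¹ = av L c) (e4 : g * L.t2 * g⁻¹ = av L d) :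
    Act L g ![a, b, c, d] := by
  obtain ⟨-, a1, a2, a4, a8⟩ := av_basis L
  intro k
  fin_cases k
  · simpa [unit4, a1] using e1
  · simpa [unit4, a2] using e2
  · simpa [unit4, a4] using e3
  · simpa [unit4, a8] using e4

/-- Maps fixing `z` and `t` act trivially. -/
theorem act_fix {g : G} {m : Fin 4 → Fin 16} (hg : Act L g m) (h0 : m 0 = 1) (h2 : m 2 = 4) :
    m = unit4 := by
  obtain ⟨-, a1, -, a4, -⟩ := av_basis L
  have e1 : g * z * g⁻¹ = z := by
    have := hg 0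
    rwa [h0, show unit4 0 = 1 from rfl, a1] at this
  have e2 : g * L.t * g⁻¹ = L.t := by
    have := hg 2
    rwa [h2, show unit4 2 = 4 from rfl, a4] at this
  obtain ⟨x, hx⟩ := exists_av h L (mul_inv_eq_iff_eq_mul.1 e1) (mul_inv_eq_iff_eq_mul.1 e2)
  exact act_eq h L hg (hx ▸ act_av h L x)

theorem act_s : Act L L.s ![1, 2, 8, 12] := by
  obtain ⟨-, a1, a2, a4, a8⟩ := av_basis L
  refine act_of_named h L ?_ ?_ ?_ ?_
  · rw [a1, L.hs, mul_inv_cancel_right]
  · rw [a2, show L.s * L.u = L.u * L.s from L.hsu, mul_inv_cancel_right]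
  · rw [a8]; rfl
  · rw [(av_named h L).2]; exact (t_rel h L).2

theorem act_r : Act L L.r ![2, 3, 4, 8] := by
  obtain ⟨-, a1, a2, a4, a8⟩ := av_basis L
  refine act_of_named h L ?_ ?_ ?_ ?_
  · rw [a2]; exact L.hrz
  · rw [(av_named h L).1]; exact L.hru
  · rw [a4, L.hrt, mul_inv_cancel_right]
  · rw [a8, (t2_facts h L).2.2.2.2, mul_inv_cancel_right]

/-- `g` commutes with `r s` and has given action. -/
def Cw (L : Loc z Q) (g : G) (m : Fin 4 → Fin 16) : Prop :=
  g * (L.r * L.s) = L.r * L.s * g ∧ Act L g m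

theorem act_w : Act L (L.r * L.s) (comp ![2, 3, 4, 8] ![1, 2, 8, 12]) :=
  Act.mul h L (act_r h L) (act_s h L)

theorem Cw.mul {g g' : G} {m m' : Fin 4 → Fin 16} (hg : Cw L g m) (hg' : Cw L g' m') :
    Cw L (g * g') (comp m m') :=
  ⟨((show Commute g (L.r * L.s) from hg.1).mul_left hg'.1).eq, Act.mul h L hg.2 hg'.2⟩

theorem Cw.one : Cw L (1 : G) unit4 := ⟨by simp, fun k => by simp⟩

theorem Cw.pow {g : G} {m : Fin 4 → Fin 16} (hg : Cw L g m) (n : ℕ) :
    Cw L (g ^ n) ((comp m)^[n] unit4) := by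
  induction n with
  | zero => simpa using Cw.one h L
  | succ n ih =>
    rw [pow_succ', Function.iterate_succ_apply']
    exact Cw.mul h L hg ih

theorem Cw.eq {g g' : G} {m m' : Fin 4 → Fin 16} (hg : Cw L g m) (hg' : Cw L g' m')
    (e : m = m') : g = g' := by
  subst e
  have hn1 : g'⁻¹ * g * z = z * (g'⁻¹ * g) := by
    obtain ⟨-, a1, -, -, -⟩ := av_basis L
    have e1 : g * z * g⁻¹ = g' * z * g'⁻¹ := by
      have := (hg.2 0).trans (hg'.2 0).symm
      rwa [show unit4 0 = 1 from rfl, a1] at this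
    calc g'⁻¹ * g * z = g'⁻¹ * (g * z * g⁻¹) * g := by group
      _ = z * (g'⁻¹ * g) := by rw [e1]; group
  have hn2 : g'⁻¹ * g * L.t = L.t * (g'⁻¹ * g) := by
    obtain ⟨-, -, -, a4, -⟩ := av_basis L
    have e1 : g * L.t * g⁻¹ = g' * L.t * g'⁻¹ := by
      have := (hg.2 2).trans (hg'.2 2).symm
      rwa [show unit4 2 = 4 from rfl, a4] at this
    calc g'⁻¹ * g * L.t = g'⁻¹ * (g * L.t * g⁻¹) * g := by group
      _ = L.t * (g'⁻¹ * g) := by rw [e1]; group
  obtain ⟨x, hx⟩ := exists_av h L hn1 hn2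
  have hc : L.r * L.s * av L x * (L.r * L.s)⁻¹ = av L x := by
    rw [← hx, ← ((show Commute g' (L.r * L.s) from hg'.1).inv_left.mul_left hg.1).eq,
      mul_inv_cancel_right]
  rw [Act.conj h L (act_w h L)] at hc
  have := (by decide +kernel : ∀ x, lin (comp ![2, 3, 4, 8] ![1, 2, 8, 12]) x = x → x = 0) x
    (av_inj h L hc)
  rw [this, (av_basis L).1] at hx
  exact (inv_mul_eq_one.1 hx).symm

theorem Cw.one_of {g : G} {m : Fin 4 → Fin 16} (hg : Cw L g m) (e : m = unit4) : g = 1 :=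
  Cw.eq h L hg (Cw.one h L) e

/-- A map commuting with the action of `r s` has a lift commuting with `r s`. -/
theorem exists_lift {g : G} {m : Fin 4 → Fin 16} (hg : Act L g m)
    (hc : comp m (comp ![2, 3, 4, 8] ![1, 2, 8, 12]) =
      comp (comp ![2, 3, 4, 8] ![1, 2, 8, 12]) m) : ∃ g', Cw L g' m := by
  obtain ⟨w, hw⟩ : ∃ w, w = L.r * L.s := ⟨_, rfl⟩
  have hW : Act L w (comp ![2, 3, 4, 8] ![1, 2, 8, 12]) := hw ▸ act_w h L
  have e1 := Act.mul h L hg hW
  have e2 := Act.mul h L hW hg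
  rw [hc] at e1
  have hn1 : (w * g)⁻¹ * (g * w) * z = z * ((w * g)⁻¹ * (g * w)) := by
    obtain ⟨-, a1, -, -, -⟩ := av_basis L
    have e3 := (e1 0).trans (e2 0).symm
    rw [show unit4 0 = 1 from rfl, a1] at e3
    calc (w * g)⁻¹ * (g * w) * z = (w * g)⁻¹ * (g * w * z * (g * w)⁻¹) * (g * w) := by group
      _ = z * ((w * g)⁻¹ * (g * w)) := by rw [e3]; group
  have hn2 : (w * g)⁻¹ * (g * w) * L.t = L.t * ((w * g)⁻¹ * (g * w)) := by
    obtain ⟨-, -, -, a4, -⟩ := av_basis L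
    have e3 := (e1 2).trans (e2 2).symm
    rw [show unit4 2 = 4 from rfl, a4] at e3
    calc (w * g)⁻¹ * (g * w) * L.t = (w * g)⁻¹ * (g * w * L.t * (g * w)⁻¹) * (g * w) := by group
      _ = L.t * ((w * g)⁻¹ * (g * w)) := by rw [e3]; group
  obtain ⟨y, hy⟩ := exists_av h L hn1 hn2
  have hy' : g * w = av L (lin (comp (comp ![2, 3, 4, 8] ![1, 2, 8, 12]) m) y) * (w * g) := by
    rw [← Act.conj h L e2 y, ← hy]; group
  obtain ⟨x, hx⟩ := (by decide +kernel : ∀ y : Fin 16, ∃ x : Fin 16,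
    x ^^^ y = lin (comp ![2, 3, 4, 8] ![1, 2, 8, 12]) x)
      (lin (comp (comp ![2, 3, 4, 8] ![1, 2, 8, 12]) m) y)
  refine ⟨av L x * g, ?_, ?_⟩
  · rw [← hw, mul_assoc, hy', ← mul_assoc, ← av_xor h, hx, ← Act.conj h L hW x]
    group
  · have := Act.mul h L (act_av h L x) hg
    rwa [show comp unit4 m = m from funext fun k => lin_unit4 _] at this

end CfsgLib.JThree
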