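import Cfsg.Agent.JThree.RankCheck

/-!
# Generated certificate: low table
-/

set_option autoImplicit false
set_option maxRecDepth 100000

namespace CfsgLib.JThree.Enum

noncomputable section

def loT0 (i : ℕ) : ℕ :=
  Nat.land (Nat.shiftRight 0x5c0014001300040002c000c000e000200018000400010000 (Nat.mul 34 i)) 17179869183

def loT1 (i : ℕ) : ℕ :=
  Nat.land (Nat.shiftRight 0x6000140014000400030000c000f00020001c000400020000 (Nat.mul 34 i)) 17179869183

def loT2 (i : ℕ) : ℕ :=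
  Nat.land (Nat.shiftRight 0x6400140015000400034000c0010000200020000400030000 (Nat.mul 34 i)) 17179869183

def loT3 (i : ℕ) : ℕ :=
  Nat.land (Nat.shiftRight 0x700014001b000400068000c0011000200024000400040000 (Nat.mul 34 i)) 17179869183

def loT4 (i : ℕ) : ℕ :=
  Nat.land (Nat.shiftRight 0x580010001200030002800140000000000014000800000001 (Nat.mul 34 i)) 17179869183

def loT5 (i : ℕ) : ℕ :=
  Nat.land (Nat.shiftRight 0x28000c001600050004800100005000100000000000000002 (Nat.mul 34 i)) 17179869183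

def loT6 (i : ℕ) : ℕ :=
  Nat.land (Nat.shiftRight 0x8000000010000000000000000500000001000000003 (Nat.mul 34 i)) 17179869183

/-- Entries. -/
def loE (x : ℕ) : ℕ → ℕ :=
  (bif Nat.blt x 3 then (bif Nat.blt x 1 then loT0 else (bif Nat.blt x 2 then loT1 else loT2)) else (bif Nat.blt x 5 then (bif Nat.blt x 4 then loT3 else loT4) else (bif Nat.blt x 6 then loT5 else loT6)))

def loP (i : ℕ) : ℕ :=
  Nat.land (Nat.shiftRight 0x260001600006000050000400000 (Nat.mul 20 i)) 1048575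

def loS (i : ℕ) : ℕ :=
  Nat.land (Nat.shiftRight 0x30005030d000530004030d000430003030f00032000501110002100050110000200005010f000240005010e00022000401110001100040110000100004010f000140004010e000130002010d000120002010c000110002010b000100002010a00012000301110000100030110000000003010f000040003010e000030001010d000020001010c000010001010b000000001010a0000400010100000030000001a0000200000019000010000001800000000000170000 (Nat.mul 52 i)) 4503599627370495

def loW_4 (_ : ℕ) : List ℕ := [4, 4, 4]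

def loW_6 (_ : ℕ) : List ℕ := [0, 2, 0, 2, 0, 2, 0, 2, 0, 2]

def loW_7 (_ : ℕ) : List ℕ := [1, 2, 1, 2, 1, 2]

def loW_5 (r : ℕ) : List ℕ :=
  bif Nat.blt r 2 then loW_6 r else loW_7 r

def loW_3 (r : ℕ) : List ℕ :=
  bif Nat.blt r 1 then loW_4 r else loW_5 r

def loW_9 (_ : ℕ) : List ℕ := [0, 1, 2, 0, 1, 2, 0, 1, 2, 0, 1, 2, 0, 1, 2]

def loW_11 (_ : ℕ) : List ℕ := [0, 1, 0, 1]

def loW_12 (_ : ℕ) : List ℕ := [1, 3, 1, 3]

def loW_10 (r : ℕ) : List ℕ :=
  bif Nat.blt r 5 then loW_11 r else loW_12 r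

def loW_8 (r : ℕ) : List ℕ :=
  bif Nat.blt r 4 then loW_9 r else loW_10 r

def loW_2 (r : ℕ) : List ℕ :=
  bif Nat.blt r 3 then loW_3 r else loW_8 r

def loW_15 (_ : ℕ) : List ℕ := [0, 3, 0, 3, 1]

def loW_17 (_ : ℕ) : List ℕ := [2, 3, 2, 3, 2, 3]

def loW_18 (_ : ℕ) : List ℕ := [0, 2, 1, 3, 2, 0, 2, 1, 3, 2, 0, 2, 1, 3, 2]

def loW_16 (r : ℕ) : List ℕ :=
  bif Nat.blt r 8 then loW_17 r else loW_18 r

def loW_14 (r : ℕ) : List ℕ :=
  bif Nat.blt r 7 then loW_15 r else loW_16 r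

def loW_21 (_ : ℕ) : List ℕ := [0, 1, 2, 3, 0, 1, 2, 3, 0, 1, 2, 3, 0, 1, 2, 3]

def loW_22 (_ : ℕ) : List ℕ := [4, 0, 5, 0]

def loW_20 (r : ℕ) : List ℕ :=
  bif Nat.blt r 10 then loW_21 r else loW_22 r

def loW_24 (_ : ℕ) : List ℕ := [4, 1, 5, 1]

def loW_25 (_ : ℕ) : List ℕ := [4, 2, 5, 2]

def loW_23 (r : ℕ) : List ℕ :=
  bif Nat.blt r 12 then loW_24 r else loW_25 r

def loW_19 (r : ℕ) : List ℕ :=
  bif Nat.blt r 11 then loW_20 r else loW_23 r

def loW_13 (r : ℕ) : List ℕ :=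
  bif Nat.blt r 9 then loW_14 r else loW_19 r

def loW_1 (r : ℕ) : List ℕ :=
  bif Nat.blt r 6 then loW_2 r else loW_13 r

def loW_29 (_ : ℕ) : List ℕ := [4, 3, 5, 3]

def loW_31 (_ : ℕ) : List ℕ := [6, 4, 6, 4]

def loW_32 (_ : ℕ) : List ℕ := [6, 0, 6, 3]

def loW_30 (r : ℕ) : List ℕ :=
  bif Nat.blt r 15 then loW_31 r else loW_32 r

def loW_28 (r : ℕ) : List ℕ :=
  bif Nat.blt r 14 then loW_29 r else loW_30 r

def loW_35 (_ : ℕ) : List ℕ := [6, 1, 6, 1]

def loW_36 (_ : ℕ) : List ℕ := [6, 2, 6, 1, 2, 3, 2, 0, 2, 0]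

def loW_34 (r : ℕ) : List ℕ :=
  bif Nat.blt r 17 then loW_35 r else loW_36 r

def loW_38 (_ : ℕ) : List ℕ := [0, 0]

def loW_39 (_ : ℕ) : List ℕ := [1, 1]

def loW_37 (r : ℕ) : List ℕ :=
  bif Nat.blt r 19 then loW_38 r else loW_39 r

def loW_33 (r : ℕ) : List ℕ :=
  bif Nat.blt r 18 then loW_34 r else loW_37 r

def loW_27 (r : ℕ) : List ℕ :=
  bif Nat.blt r 16 then loW_28 r else loW_33 r

def loW_42 (_ : ℕ) : List ℕ := [2, 2]

def loW_44 (_ : ℕ) : List ℕ := [3, 3]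

def loW_45 (_ : ℕ) : List ℕ := [6, 6]

def loW_43 (r : ℕ) : List ℕ :=
  bif Nat.blt r 22 then loW_44 r else loW_45 r

def loW_41 (r : ℕ) : List ℕ :=
  bif Nat.blt r 21 then loW_42 r else loW_43 r

def loW_48 (_ : ℕ) : List ℕ := [0]

def loW_49 (_ : ℕ) : List ℕ := [1]

def loW_47 (r : ℕ) : List ℕ :=
  bif Nat.blt r 24 then loW_48 r else loW_49 r

def loW_51 (_ : ℕ) : List ℕ := [2]

def loW_52 (_ : ℕ) : List ℕ := [3]

def loW_50 (r : ℕ) : List ℕ :=
  bif Nat.blt r 26 then loW_51 r else loW_52 r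

def loW_46 (r : ℕ) : List ℕ :=
  bif Nat.blt r 25 then loW_47 r else loW_50 r

def loW_40 (r : ℕ) : List ℕ :=
  bif Nat.blt r 23 then loW_41 r else loW_46 r

def loW_26 (r : ℕ) : List ℕ :=
  bif Nat.blt r 20 then loW_27 r else loW_40 r

def loW (r : ℕ) : List ℕ :=
  bif Nat.blt r 13 then loW_1 r else loW_26 r

/-- Inverse letters. -/
def loIv (x : ℕ) : ℕ := List.getD [0, 1, 2, 3, 5, 4, 6] x 0

end

end CfsgLib.JThree.Enum
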