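import Cfsg.Agent.JThree.EnumTopData

/-!
# Generated certificate: checks of the coset table, part B
-/

set_option autoImplicit false
set_option maxRecDepth 100000
set_option maxHeartbeats 0

namespace CfsgLib.JThree.Enum

open CfsgLib.CosetEnum

theorem tp_step5 : allR (stepChk 23256 9 81873 tpE tpS tpW 39 45) 12 20480 = true := by
  decide +kernel

theorem tp_step6 : allR (stepChk 23256 9 81873 tpE tpS tpW 39 45) 12 24576 = true := by
  decide +kernel

theorem tp_step7 : allR (stepChk 23256 9 81873 tpE tpS tpW 39 45) 12 28672 = true := by
  decide +kernel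

theorem tp_step8 : allR (stepChk 23256 9 81873 tpE tpS tpW 39 45) 12 32768 = true := by
  decide +kernel

theorem tp_step9 : allR (stepChk 23256 9 81873 tpE tpS tpW 39 45) 12 36864 = true := by
  decide +kernel

theorem tp_row3 : allR (rowChk 23256 9 81873 tpE tpP tpS tpIv) 11 6144 = true := by
  decide +kernel

theorem tp_row4 : allR (rowChk 23256 9 81873 tpE tpP tpS tpIv) 11 8192 = true := by
  decide +kernel

theorem tp_row5 : allR (rowChk 23256 9 81873 tpE tpP tpS tpIv) 11 10240 = true := by
  decide +kernel

end CfsgLib.JThree.Enum
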