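import Cfsg.Agent.JThree.EnumTopData

/-!
# Generated certificate: checks of the coset table, part C
-/

set_option autoImplicit false
set_option maxRecDepth 100000
set_option maxHeartbeats 0

namespace CfsgLib.JThree.Enum

open CfsgLib.CosetEnum

theorem tp_step10 : allR (stepChk 23256 9 81873 tpE tpS tpW 39 45) 12 40960 = true := by
  decide +kernel

theorem tp_step11 : allR (stepChk 23256 9 81873 tpE tpS tpW 39 45) 12 45056 = true := by
  decide +kernel

theorem tp_step12 : allR (stepChk 23256 9 81873 tpE tpS tpW 39 45) 12 49152 = true := by
  decide +kernel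

theorem tp_step13 : allR (stepChk 23256 9 81873 tpE tpS tpW 39 45) 12 53248 = true := by
  decide +kernel

theorem tp_step14 : allR (stepChk 23256 9 81873 tpE tpS tpW 39 45) 12 57344 = true := by
  decide +kernel

theorem tp_row6 : allR (rowChk 23256 9 81873 tpE tpP tpS tpIv) 11 12288 = true := by
  decide +kernel

theorem tp_row7 : allR (rowChk 23256 9 81873 tpE tpP tpS tpIv) 11 14336 = true := by
  decide +kernel

theorem tp_row8 : allR (rowChk 23256 9 81873 tpE tpP tpS tpIv) 11 16384 = true := by
  decide +kernel

end CfsgLib.JThree.Enum
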