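import Cfsg.Agent.JThree.EnumTopData

/-!
# Generated certificate: checks of the coset table, part D
-/

set_option autoImplicit false
set_option maxRecDepth 100000
set_option maxHeartbeats 0

namespace CfsgLib.JThree.Enum

open CfsgLib.CosetEnum

theorem tp_step15 : allR (stepChk 23256 9 81873 tpE tpS tpW 39 45) 12 61440 = true := by
  decide +kernel

theorem tp_step16 : allR (stepChk 23256 9 81873 tpE tpS tpW 39 45) 12 65536 = true := by
  decide +kernel

theorem tp_step17 : allR (stepChk 23256 9 81873 tpE tpS tpW 39 45) 12 69632 = true := by
  decide +kernel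

theorem tp_step18 : allR (stepChk 23256 9 81873 tpE tpS tpW 39 45) 12 73728 = true := by
  decide +kernel

theorem tp_step19 : allR (stepChk 23256 9 81873 tpE tpS tpW 39 45) 12 77824 = true := by
  decide +kernel

theorem tp_row9 : allR (rowChk 23256 9 81873 tpE tpP tpS tpIv) 11 18432 = true := by
  decide +kernel

theorem tp_row10 : allR (rowChk 23256 9 81873 tpE tpP tpS tpIv) 11 20480 = true := by
  decide +kernel

theorem tp_row11 : allR (rowChk 23256 9 81873 tpE tpP tpS tpIv) 11 22528 = true := by
  decide +kernel

end CfsgLib.JThree.Enum
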