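import Cfsg.Agent.JThree.Block
import Cfsg.Agent.JThree.Collapse
import Cfsg.Agent.JThree.AltSixPair
import Cfsg.Agent.HallJanko.Generators

/-!
# The complete list of local relations

The relations of `a` against `y` hold modulo `⟨s⟩` after possibly replacing `a` by `a z`; the collapse
certificates decide the remaining ambiguity by a power of `s`.
-/

set_option autoImplicit false
set_option linter.style.haveILetI false
set_option linter.unusedSectionVars false

namespace CfsgLib.JThree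

open CfsgLib.HallJanko

local notation "A6" => alternatingGroup (Fin 6)

theorem six_pair {Z U Y A V : A6} (hZ1 : Z ≠ 1) (hZ : Z * Z = 1) (hU1 : U ≠ 1) (hUZ1 : U ≠ Z)
    (hU : U * U = 1) (hUZ : U * Z = Z * U) (hY : Y * Y = 1) (h3 : (Z * Y) ^ 3 = 1)
    (h5 : (U * Y) ^ 5 = 1) (h5' : (U * Z * Y) ^ 5 = 1) (hA : A * A = 1) (hAZ : A * Z = Z * A)
    (hUA : U * A * U * A = Z) (k1 : (Y * A) ^ 3 = 1) (k2 : (U * Y * Z * A * Y) ^ 3 = 1)
    (k3 : (U * Z * Y * A) ^ 4 = 1) (v1 : V * V = 1) (v2 : (Z * V) ^ 3 = 1) (v3 : (A * V) ^ 5 = 1)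
    (v4 : (A * Z * V) ^ 5 = 1) (v5 : (V * U) ^ 3 = 1) (v6 : (A * V * Z * U * V) ^ 3 = 1)
    (v7 : (A * Z * V * U) ^ 4 = 1) :
    V = U * Z * Y * U * Y * A * Y ∨ V = U * Y * A * Y * U * Y * Z ∨
      V = Y * U * A * Y * U * A ∨ V = U * Y * U * Y * A * Y * Z := by
  obtain ⟨g, hg⟩ := Alt.six_inv_conj Z hZ1 hZ
  obtain ⟨c, hc⟩ : ∃ c : A6 →* A6, c = (MulAut.conj g).toMonoidHom := ⟨_, rfl⟩
  have hinj : Function.Injective c := hc ▸ (MulAut.conj g).injective
  have hcz : c Z = Alt.six_inv := by rw [hc]; exact hg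
  have key := six_pair_fixed (c U) (fun e => hUZ1 (hinj (e.trans hcz.symm)))
    (fun e => hU1 (hinj (e.trans (map_one c).symm))) (by rw [← map_mul, hU, map_one])
    (by rw [← hcz, ← map_mul, ← map_mul, hUZ]) (c Y) (by rw [← map_mul, hY, map_one])
    (by rw [← hcz, ← map_mul, ← map_pow, h3, map_one]) (by rw [← map_mul, ← map_pow, h5, map_one])
    (by rw [← hcz, ← map_mul, ← map_mul, ← map_pow, h5', map_one]) (c A)
    (by rw [← map_mul, hA, map_one]) (by rw [← hcz, ← map_mul, ← map_mul, hAZ])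
    (by rw [← hcz, ← map_mul, ← map_mul, ← map_mul, hUA])
    (by rw [← map_mul, ← map_pow, k1, map_one])
    (by rw [← hcz, ← map_mul, ← map_mul, ← map_mul, ← map_mul, ← map_pow, k2, map_one])
    (by rw [← hcz, ← map_mul, ← map_mul, ← map_mul, ← map_pow, k3, map_one]) (c V)
    (by rw [← map_mul, v1, map_one]) (by rw [← hcz, ← map_mul, ← map_pow, v2, map_one])
    (by rw [← map_mul, ← map_pow, v3, map_one])
    (by rw [← hcz, ← map_mul, ← map_mul, ← map_pow, v4, map_one])
    (by rw [← map_mul, ← map_pow, v5, map_one])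
    (by rw [← hcz, ← map_mul, ← map_mul, ← map_mul, ← map_mul, ← map_pow, v6, map_one])
    (by rw [← hcz, ← map_mul, ← map_mul, ← map_mul, ← map_pow, v7, map_one])
  simp only [← hcz, ← map_mul, hinj.eq_iff] at key
  exact key

theorem six_link {Z U Y A : A6} (hZ1 : Z ≠ 1) (hZ : Z * Z = 1) (hU1 : U ≠ 1) (hUZ1 : U ≠ Z)
    (hU : U * U = 1) (hUZ : U * Z = Z * U) (hY : Y * Y = 1) (h3 : (Z * Y) ^ 3 = 1)
    (h5 : (U * Y) ^ 5 = 1) (h5' : (U * Z * Y) ^ 5 = 1) (hA : A * A = 1) (hAZ : A * Z = Z * A)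
    (hUA : U * A * U * A = Z) (k1 : (Y * A) ^ 3 = 1) (k2 : (U * Y * Z * A * Y) ^ 3 = 1)
    (k3 : (U * Z * Y * A) ^ 4 = 1) :
    (A * (Z * Y * U * Z * Y * U * Y)) ^ 2 = U * Z := by
  obtain ⟨g, hg⟩ := Alt.six_inv_conj Z hZ1 hZ
  obtain ⟨c, hc⟩ : ∃ c : A6 →* A6, c = (MulAut.conj g).toMonoidHom := ⟨_, rfl⟩
  have hinj : Function.Injective c := hc ▸ (MulAut.conj g).injective
  have hcz : c Z = Alt.six_inv := by rw [hc]; exact hg
  have key := six_link_fixed (c U) (fun e => hUZ1 (hinj (e.trans hcz.symm)))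
    (fun e => hU1 (hinj (e.trans (map_one c).symm))) (by rw [← map_mul, hU, map_one])
    (by rw [← hcz, ← map_mul, ← map_mul, hUZ]) (c Y) (by rw [← map_mul, hY, map_one])
    (by rw [← hcz, ← map_mul, ← map_pow, h3, map_one]) (by rw [← map_mul, ← map_pow, h5, map_one])
    (by rw [← hcz, ← map_mul, ← map_mul, ← map_pow, h5', map_one]) (c A)
    (by rw [← map_mul, hA, map_one]) (by rw [← hcz, ← map_mul, ← map_mul, hAZ])
    (by rw [← hcz, ← map_mul, ← map_mul, ← map_mul, hUA])
    (by rw [← map_mul, ← map_pow, k1, map_one])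
    (by rw [← hcz, ← map_mul, ← map_mul, ← map_mul, ← map_mul, ← map_pow, k2, map_one])
    (by rw [← hcz, ← map_mul, ← map_mul, ← map_mul, ← map_pow, k3, map_one])
  simp only [← hcz, ← map_mul, ← map_pow] at key
  exact hinj key

section Words

variable {G : Type*} [Group G] {u z y a : G}

/-- The four candidates for the conjugate of `y` by `b` are involutions. -/
theorem words_sq (uu : u * u = 1) (zz : z * z = 1) (yy : y * y = 1) (aa : a * a = 1)
    (za : (z * a) ^ 2 = 1) (uz : (u * z) ^ 2 = 1) (uau : u * a * u * a * z = 1)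
    (ya : (y * a) ^ 3 = 1) (w4 : (u * z * y * a) ^ 4 = 1) (W : G)
    (hW : W = u * z * y * u * y * a * y ∨ W = u * y * a * y * u * y * z ∨
      W = y * u * a * y * u * a ∨ W = u * y * u * y * a * y * z) : W * W = 1 := by
  have ui : u⁻¹ = u := inv_eq_of_mul_eq_one_left uu
  have zi : z⁻¹ = z := inv_eq_of_mul_eq_one_left zz
  have yi : y⁻¹ = y := inv_eq_of_mul_eq_one_left yy
  have ai : a⁻¹ = a := inv_eq_of_mul_eq_one_left aa
  have caz : z * a = a * z := by
    rw [pow_two] at za
    have := eq_inv_of_mul_eq_one_left za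
    rwa [mul_inv_rev, ai, zi] at this
  have cuz : u * z = z * u := by
    rw [pow_two] at uz
    have := eq_inv_of_mul_eq_one_left uz
    rwa [mul_inv_rev, ui, zi] at this
  have hua : a * u * z = u * a := by
    have e : u * a * u * a = z := by rw [eq_inv_of_mul_eq_one_left uau, zi]
    rw [← e, show a * u * (u * a * u * a) = a * (u * u) * a * u * a by group, uu, mul_one, aa,
      one_mul]
  have haua : a * u * a = u * z := by
    calc a * u * a = a * u * (z * z) * a := by rw [zz, mul_one]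
      _ = a * u * z * (z * a) := by group
      _ = u * a * (a * z) := by rw [hua, caz]
      _ = u * z := by rw [← mul_assoc, mul_assoc u a a, aa, mul_one]
  have hzua : z * (a * u) = u * a := by
    rw [← mul_assoc, caz, mul_assoc, ← cuz, ← mul_assoc, hua]
  have yay : y * a * y = a * y * a := by
    have : y * a * y = (a * y * a)⁻¹ := eq_inv_of_mul_eq_one_left (by
      rw [← ya]; simp only [pow_succ, pow_zero, one_mul, mul_assoc])
    rwa [mul_inv_rev, mul_inv_rev, ai, yi, ← mul_assoc] at this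
  -- the element `p` of order dividing 4
  obtain ⟨P, hP⟩ : ∃ P, P = u * a * y * (u * a * y) := ⟨_, rfl⟩
  have hPP : P * P = 1 := by
    have e : u * a * y = a * (u * z * y * a) * a⁻¹ := by
      rw [ai, show a * (u * z * y * a) * a = a * u * z * y * (a * a) by group, aa, mul_one, hua]
    rw [hP, show u * a * y * (u * a * y) * (u * a * y * (u * a * y)) = (u * a * y) ^ 4 by
      simp only [pow_succ, pow_zero, one_mul, mul_assoc], e, conj_pow, w4, mul_one, mul_inv_cancel]
  have hconj : ∀ k : G, k * P * k⁻¹ * (k * P * k⁻¹) = 1 := fun k => by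
    rw [show k * P * k⁻¹ * (k * P * k⁻¹) = k * (P * P) * k⁻¹ by group, hPP, mul_one, mul_inv_cancel]
  have haPa : a * P * a⁻¹ = u * z * y * u * (y * a * y) := by
    rw [ai, hP, yay, show a * (u * a * y * (u * a * y)) * a = (a * u * a) * y * u * (a * y * a) by
      group, haua]
  have h3 : y * P * y⁻¹ = y * u * a * y * u * a := by
    rw [hP]; group
  rcases hW with rfl | rfl | rfl | rfl
  · rw [show u * z * y * u * y * a * y = a * P * a⁻¹ by rw [haPa]; group]
    exact hconj _
  · have e : u * y * a * y * u * y * z = z * (y * P * y⁻¹)⁻¹ * z⁻¹ := by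
      rw [h3, zi, mul_inv_rev, mul_inv_rev, mul_inv_rev, mul_inv_rev, mul_inv_rev, ui, ai, yi,
        show z * (a * (u * (y * (a * (u * y))))) * z = z * (a * u) * y * a * u * y * z by group,
        hzua, show u * y * a * y * u * y * z = u * (y * a * y) * u * y * z by group, yay]
      group
    rw [e, show z * (y * P * y⁻¹)⁻¹ * z⁻¹ * (z * (y * P * y⁻¹)⁻¹ * z⁻¹) =
      z * (y * P * y⁻¹ * (y * P * y⁻¹))⁻¹ * z⁻¹ by group, hconj]
    group
  · rw [← h3]
    exact hconj _
  · have e : u * y * u * y * a * y * z = (z * a) * P * (z * a)⁻¹ := by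
      rw [show z * a * P * (z * a)⁻¹ = z * (a * P * a⁻¹) * z⁻¹ by group, haPa, zi,
        show z * (u * z * y * u * (y * a * y)) * z = (z * u) * z * y * u * (y * a * y) * z by group,
        ← cuz, mul_assoc u z z, zz, mul_one]
      group
    rw [e]
    exact hconj _

end Words

section Choice

variable {G : Type*} [Group G] {u z y a s t g : G}

/-- Replacing `a` by `a z`. -/
theorem Part.mul_z (P : Part u z y a s t g) (cu : u * z = z * u) : Part u z y (a * z) s t g := by
  have zi : z⁻¹ = z := inv_eq_of_mul_eq_one_left P.zz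
  have caz : z * a = a * z := by
    have e := P.za
    rw [pow_two] at e
    have := eq_inv_of_mul_eq_one_left e
    rwa [mul_inv_rev, inv_eq_of_mul_eq_one_left P.aa, zi] at this
  have ctz : t * z = z * t := by
    have e := P.tz
    rw [pow_two] at e
    have := eq_inv_of_mul_eq_one_left e
    rwa [mul_inv_rev, inv_eq_of_mul_eq_one_left P.tt, zi] at this
  have key : a * z * t * (a * z) = a * t * a := by
    calc a * z * t * (a * z) = a * (t * z) * (z * a) := by rw [ctz, caz]; group
      _ = a * t * (z * z) * a := by group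
      _ = a * t * a := by rw [P.zz, mul_one]
  have hsz : s * z * s⁻¹ = z := by
    rw [← zi]; exact eq_inv_of_mul_eq_one_left (by rw [zi]; exact P.sz)
  refine { P with aa := ?_, za := ?_, uau := ?_, sa := ?_, ta := ?_, gx := ?_, xt2 := ?_, yv := ?_ }
  · rw [(show Commute z a from caz).mul_mul_mul_comm, P.aa, P.zz, one_mul]
  · rw [← mul_assoc, caz, mul_assoc a z z, P.zz, mul_one, pow_two, P.aa]
  · calc u * (a * z) * u * (a * z) * z = u * a * (z * u) * a * (z * z) := by group
      _ = u * a * u * (z * a) := by rw [← cu, P.zz]; group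
      _ = 1 := by rw [caz, ← mul_assoc]; exact P.uau
  · calc s * (a * z) * s⁻¹ * (a * z) = s * a * s⁻¹ * ((s * z * s⁻¹) * a) * z := by group
      _ = s * a * s⁻¹ * a * (z * z) := by rw [hsz, caz]; group
      _ = 1 := by rw [P.sa, P.zz, mul_one]
  · rw [show (t * (a * z)) ^ 4 = (t * a * z) ^ 4 by rw [mul_assoc],
      ((show Commute t z from ctz).mul_left (show Commute a z from caz.symm)).mul_pow,
      show z ^ 4 = (z * z) * (z * z) by simp only [pow_succ, pow_zero, one_mul, mul_assoc], P.zz,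
      one_mul, mul_one, P.ta]
  · rw [show g * (a * z) * t * (a * z) = g * (a * z * t * (a * z)) by group, key,
      show g * (a * t * a) = g * a * t * a by group]
    exact P.gx
  · rw [show s⁻¹ * t * s * (a * z) * t * (a * z) * s⁻¹ * t * s * (a * z) * t * (a * z) * u * z =
      s⁻¹ * t * s * (a * z * t * (a * z)) * s⁻¹ * t * s * (a * z * t * (a * z)) * u * z by group,
      key]
    rw [← P.xt2]
    group
  · rw [show y * s⁻¹ * t * s * g * (a * z) * t * (a * z) * g =
      y * s⁻¹ * t * s * g * (a * z * t * (a * z)) * g by group, key,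
      show y * s⁻¹ * t * s * g * (a * t * a) * g = y * s⁻¹ * t * s * g * a * t * a * g by group]
    exact P.yv

end Choice

variable {G : Type*} [Group G] [Finite G] {z : G} {Q : Subgroup G}

/-- A subgroup of the normaliser of `⟨s⟩` does not contain `t`. -/
theorem not_inverted (L : Loc z Q) (hst : (L.s * L.t) ^ 3 = 1)
    (hc : L.t * L.s = L.s * L.t ∨ L.t * L.s = L.s⁻¹ * L.t) : False := by
  have hs3 : L.s ^ 3 = 1 := by rw [← L.hs3]; exact pow_orderOf_eq_one _
  have ht1 : L.t ≠ 1 := fun e => L.htQ (e ▸ Q.one_mem)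
  rcases hc with e | e
  · rw [(show Commute L.s L.t from e.symm).mul_pow, hs3, one_mul, pow_succ, pow_two, L.ht2,
      one_mul] at hst
    exact ht1 hst
  · have e2 : L.s * L.t * (L.s * L.t) = 1 := by
      rw [show L.s * L.t * (L.s * L.t) = L.s * (L.t * L.s) * L.t by group, e,
        show L.s * (L.s⁻¹ * L.t) * L.t = L.t * L.t by group, L.ht2]
    rw [pow_succ, pow_two, e2, one_mul] at hst
    have e3 := eq_inv_of_mul_eq_one_right hst
    have e4 := L.hs3
    rw [← orderOf_inv, ← e3] at e4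
    have e5 := orderOf_dvd_of_pow_eq_one (show L.t ^ 2 = 1 by rw [pow_two, L.ht2])
    rw [e4] at e5
    norm_num at e5

variable (h : Hyp z Q) (L : Loc z Q)
include h

/-- All local relations, given the structure of `C(s)` and the element `b`. -/
theorem exists_gen_of (hsig : Sig z L.s) {a₀ g y : G} (haQ₀ : a₀ ∈ Q)
    (P₀ : Part L.u z y a₀ L.s L.t g)
    (hl : Link L.u z y a₀ g ∧ Link L.u z y (a₀ * z) g)
    (hB : ∀ a : G, a ∈ Q → a * a = 1 → a * L.s = L.s * a → L.u * a * L.u * a = z →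
      ∃ b : G, b * b = 1 ∧ b * z = z * b ∧ b * L.s * b⁻¹ = L.s⁻¹ ∧ b * L.u * b⁻¹ = a ∧
        (b * L.t) ^ 3 = z) :
    ∃ a b : G, a ∈ Q ∧ Gen L.u z y a L.s L.t g b := by
  have hp : PreCore z Q := h.toPreCore
  obtain ⟨φ, -, hφk⟩ := hsig.hom
  let K := Subgroup.centralizer ({L.s} : Set G)
  have hKm : ∀ {k : G}, k ∈ K ↔ k * L.s = L.s * k := Subgroup.mem_centralizer_singleton_iff
  have hstar : ∀ {x : G}, x * x = 1 → L.s * x * L.s⁻¹ * x = 1 → x * L.s = L.s * x := by
    intro x hx e
    have e2 := eq_inv_of_mul_eq_one_left e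
    rw [inv_eq_of_mul_eq_one_left hx] at e2
    exact (mul_inv_eq_iff_eq_mul.1 e2).symm
  have huu : L.u * L.u = 1 := L.F.sq _
  have hzK : z ∈ K := hKm.2 L.hs.symm
  have huK : L.u ∈ K := hKm.2 L.hsu.symm
  have hyK : y ∈ K := hKm.2 (hstar P₀.yy P₀.sy)
  have haK₀ : a₀ ∈ K := hKm.2 (hstar P₀.aa P₀.sa)
  have huz : L.u * z = z * L.u := hp.hQC _ (L.F.mem _)
  have caz₀ : a₀ * z = z * a₀ := hp.hQC _ haQ₀
  have hua₀ : L.u * a₀ * L.u * a₀ = z := by
    rw [eq_inv_of_mul_eq_one_left P₀.uau, inv_eq_of_mul_eq_one_left hp.zz]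
  have hs3 : ∀ i : ℤ, L.s ^ i * L.s ^ i = 1 → L.s ^ i = 1 := by
    intro i e
    have h3 : L.s ^ i * L.s ^ i * L.s ^ i = 1 := by
      rw [← zpow_add, ← zpow_add, show i + i + i = 3 * i by ring, zpow_mul,
        show (3 : ℤ) = ((3 : ℕ) : ℤ) from rfl, zpow_natCast, P₀.sss, one_zpow]
    rwa [e, one_mul] at h3
  have hinj : ∀ x : K, (x : G) * x = 1 → φ x = 1 → (x : G) = 1 := by
    intro x hx hx'
    obtain ⟨i, hi⟩ := Subgroup.mem_zpowers_iff.1 ((hφk x).1 hx')
    rw [← hi] at hx ⊢
    exact hs3 i hx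
  have hZ1 : φ ⟨z, hzK⟩ ≠ 1 := fun e' => hp.z_ne_one (hinj _ hp.zz e')
  have hU1 : φ ⟨L.u, huK⟩ ≠ 1 := fun e' => L.F.ne_one _ (hinj _ huu e')
  have hUZ : φ ⟨L.u, huK⟩ ≠ φ ⟨z, hzK⟩ := fun e' => by
    have e2 : φ (⟨L.u, huK⟩ * ⟨z, hzK⟩) = 1 := by
      rw [map_mul, e', ← map_mul, ← map_one φ]
      exact congrArg φ (Subtype.ext hp.zz)
    have e3 : L.u * z = 1 := hinj _ (by
      show L.u * z * (L.u * z) = 1
      rw [← pow_two]; exact P₀.uz) e2
    refine L.F.ne_z L.f ?_
    show L.u = z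
    rw [eq_inv_of_mul_eq_one_left e3, inv_eq_of_mul_eq_one_left hp.zz]
  -- the choice between `a` and `a z`
  have hdisj := six_choose (Z := φ ⟨z, hzK⟩) (U := φ ⟨L.u, huK⟩) (Y := φ ⟨y, hyK⟩)
    (A := φ ⟨a₀, haK₀⟩) hZ1
    (by rw [← map_mul, ← map_one φ]; exact congrArg φ (Subtype.ext hp.zz)) hU1 hUZ
    (by rw [← map_mul, ← map_one φ]; exact congrArg φ (Subtype.ext huu))
    (by rw [← map_mul, ← map_mul]; exact congrArg φ (Subtype.ext huz))
    (by rw [← map_mul, ← map_one φ]; exact congrArg φ (Subtype.ext P₀.yy))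
    (by rw [← map_mul, ← map_pow, ← map_one φ]; exact congrArg φ (Subtype.ext P₀.zy))
    (by rw [← map_mul, ← map_pow, ← map_one φ]; exact congrArg φ (Subtype.ext P₀.uy))
    (by rw [← map_mul, ← map_mul, ← map_pow, ← map_one φ]; exact congrArg φ (Subtype.ext P₀.uzy))
    (by rw [← map_mul, ← map_one φ]; exact congrArg φ (Subtype.ext P₀.aa))
    (by rw [← map_mul, ← map_mul]; exact congrArg φ (Subtype.ext caz₀))
    (by rw [← map_mul, ← map_mul, ← map_mul]; exact congrArg φ (Subtype.ext hua₀))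
  obtain ⟨a, haK, haQ, P, hla, h1, h2, h4⟩ : ∃ (a : G) (haK : a ∈ K), a ∈ Q ∧
      Part L.u z y a L.s L.t g ∧ Link L.u z y a g ∧
      φ ((⟨y, hyK⟩ * ⟨a, haK⟩) ^ 3) = 1 ∧
      φ ((⟨L.u, huK⟩ * ⟨y, hyK⟩ * ⟨z, hzK⟩ * ⟨a, haK⟩ * ⟨y, hyK⟩) ^ 3) = 1 ∧
      φ ((⟨L.u, huK⟩ * ⟨z, hzK⟩ * ⟨y, hyK⟩ * ⟨a, haK⟩) ^ 4) = 1 := by
    simp only [← map_mul, ← map_pow] at hdisj
    rcases hdisj with ⟨e1, e2, e3⟩ | ⟨e1, e2, e3⟩
    · exact ⟨a₀, haK₀, haQ₀, P₀, hl.1, e1, e2, e3⟩
    · exact ⟨a₀ * z, K.mul_mem haK₀ hzK, Q.mul_mem haQ₀ hp.hzQ, P₀.mul_z huz, hl.2, e1, e2, e3⟩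
  -- relations between two involutions of `K` lift
  have hlift : ∀ p q : K, (p : G) * p = 1 → (q : G) * q = 1 →
      φ ((p * q) ^ 3) = 1 → ((p : G) * q) ^ 3 = 1 := by
    intro p q hp' hq e'
    obtain ⟨i, hi⟩ := Subgroup.mem_zpowers_iff.1 ((hφk _).1 e')
    simp only [Subgroup.coe_pow, Subgroup.coe_mul] at hi
    have hc : Commute (p : G) (L.s ^ i) :=
      (show Commute (p : G) L.s from hKm.1 p.2).zpow_right i
    have hpi : (p : G)⁻¹ = p := inv_eq_of_mul_eq_one_left hp'
    have hqi : (q : G)⁻¹ = q := inv_eq_of_mul_eq_one_left hq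
    have e2 : (p : G) * ((p : G) * q) ^ 3 * (p : G)⁻¹ = (((p : G) * q) ^ 3)⁻¹ := by
      rw [← inv_pow, mul_inv_rev, ← conj_pow, hpi, hqi, ← mul_assoc (p : G) (p : G), hp', one_mul]
    rw [← hi] at e2 ⊢
    rw [hc.eq, mul_inv_cancel_right] at e2
    exact hs3 i (eq_inv_iff_mul_eq_one.1 e2)
  have hya : (y * a) ^ 3 = 1 := hlift ⟨y, hyK⟩ ⟨a, haK⟩ P.yy P.aa h1
  have huyzay : (L.u * y * z * a * y) ^ 3 = 1 := by
    have e' := hlift ⟨L.u, huK⟩ (⟨y, hyK⟩ * ⟨z, hzK⟩ * ⟨a, haK⟩ * ⟨y, hyK⟩) huu (by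
      simp only [Subgroup.coe_mul]
      rw [show y * z * a * y * (y * z * a * y) = y * (z * a * (y * y) * (z * a)) * y by
        simp only [mul_assoc], P.yy, mul_one, ← pow_two, P.za, mul_one, P.yy])
      (by simpa only [mul_assoc] using h2)
    simpa only [Subgroup.coe_mul, mul_assoc] using e'
  have hC : CoreRels L.u z y a L.s L.t g := { P with ya := hya, uyzay := huyzay }
  -- the fourth power
  have hw4 : (L.u * z * y * a) ^ 4 = 1 := by
    obtain ⟨i, hi⟩ := Subgroup.mem_zpowers_iff.1 ((hφk _).1 h4)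
    simp only [Subgroup.coe_pow, Subgroup.coe_mul] at hi
    rcases zpow_three_cases L.s_cube i with e | e
    · rw [← hi, e]
    · exfalso
      have ht := t_mem_of_wrong_w4 hC (by rw [← hi]; exact e)
      have hle : Subgroup.closure ({L.u, z, y, a, L.s} : Set G) ≤ K := by
        rw [Subgroup.closure_le]
        rintro x (rfl | rfl | rfl | rfl | rfl)
        exacts [huK, hzK, hyK, haK, hKm.2 rfl]
      exact not_inverted L P.st (Or.inl (hKm.1 (hle ht)))
  -- the link between `y` and `g`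
  have hyg : y = L.u * g * z * a * g * a * z * g * L.u := by
    have hlk := six_link (Z := φ ⟨z, hzK⟩) (U := φ ⟨L.u, huK⟩) (Y := φ ⟨y, hyK⟩) (A := φ ⟨a, haK⟩)
      hZ1 (by rw [← map_mul, ← map_one φ]; exact congrArg φ (Subtype.ext hp.zz)) hU1 hUZ
      (by rw [← map_mul, ← map_one φ]; exact congrArg φ (Subtype.ext huu))
      (by rw [← map_mul, ← map_mul]; exact congrArg φ (Subtype.ext huz))
      (by rw [← map_mul, ← map_one φ]; exact congrArg φ (Subtype.ext P.yy))
      (by rw [← map_mul, ← map_pow, ← map_one φ]; exact congrArg φ (Subtype.ext P.zy))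
      (by rw [← map_mul, ← map_pow, ← map_one φ]; exact congrArg φ (Subtype.ext P.uy))
      (by rw [← map_mul, ← map_mul, ← map_pow, ← map_one φ]; exact congrArg φ (Subtype.ext P.uzy))
      (by rw [← map_mul, ← map_one φ]; exact congrArg φ (Subtype.ext P.aa))
      (by rw [← map_mul, ← map_mul]; exact congrArg φ (Subtype.ext (hp.hQC a haQ)))
      (by rw [← map_mul, ← map_mul, ← map_mul]
          refine congrArg φ (Subtype.ext ?_)
          show L.u * a * L.u * a = z
          rw [eq_inv_of_mul_eq_one_left P.uau, inv_eq_of_mul_eq_one_left hp.zz])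
      (by rw [← map_mul, ← map_pow, ← map_one φ]; exact congrArg φ (Subtype.ext hya))
      (by rw [← map_mul, ← map_mul, ← map_mul, ← map_mul, ← map_pow, ← map_one φ]
          exact congrArg φ (Subtype.ext huyzay))
      (by rw [← map_mul, ← map_mul, ← map_mul, ← map_pow, ← map_one φ]
          exact congrArg φ (Subtype.ext hw4))
    simp only [← map_mul, ← map_pow] at hlk
    have hval : ∀ (w : G) (hw : w ∈ K), (a * (z * y * L.u * z * y * L.u * y)) ^ 2 = w →
        φ ⟨w, hw⟩ = φ ⟨L.u, huK⟩ * φ ⟨z, hzK⟩ := by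
      intro w hw e
      rw [← map_mul, ← hlk]
      exact congrArg φ (Subtype.ext e.symm)
    rcases hla with e | e | e | e
    · exact e
    · exfalso
      have e2 := hval 1 K.one_mem e
      rw [show (⟨1, K.one_mem⟩ : K) = 1 from rfl, map_one] at e2
      refine hUZ ?_
      rw [eq_inv_of_mul_eq_one_left e2.symm]
      exact inv_eq_of_mul_eq_one_left (by
        rw [← map_mul, ← map_one φ]; exact congrArg φ (Subtype.ext hp.zz))
    · exact absurd (left_eq_mul.1 ((hval z hzK e).trans (by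
        rw [← map_mul, ← map_mul]; exact congrArg φ (Subtype.ext huz)))) hU1
    · exact absurd (left_eq_mul.1 (hval L.u huK e)) hZ1
  -- the element `b`
  have hua : L.u * a * L.u * a = z := by
    rw [eq_inv_of_mul_eq_one_left P.uau, inv_eq_of_mul_eq_one_left hp.zz]
  obtain ⟨b, hbb, hbz, hbs, hbu, hbt⟩ := hB a haQ P.aa (hKm.1 haK) hua
  have hbi : b⁻¹ = b := inv_eq_of_mul_eq_one_left hbb
  rw [hbi] at hbs hbu
  have hba : b * a * b = L.u := by
    rw [← hbu, show b * (b * L.u * b) * b = (b * b) * L.u * (b * b) by group, hbb, one_mul, mul_one]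
  have fbs : (b * L.s) ^ 2 = 1 := by
    rw [pow_two, show b * L.s * (b * L.s) = b * L.s * b * L.s by group, hbs, inv_mul_cancel]
  have fbu : b * L.u * b * a = 1 := by rw [hbu, P.aa]
  have fbz : (b * z) ^ 2 = 1 := by
    rw [pow_two, (show Commute z b from hbz.symm).mul_mul_mul_comm, hbb, hp.zz, one_mul]
  have fbt : (b * L.t) ^ 3 * z = 1 := by rw [hbt, hp.zz]
  have hbK : ∀ x : G, x ∈ K → b * x * b ∈ K := by
    intro x hx
    refine hKm.2 ?_
    have e1 : b * L.s = L.s⁻¹ * b := by
      rw [← hbs, mul_assoc, hbb, mul_one]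
    calc b * x * b * L.s = b * x * (b * L.s) := by group
      _ = b * (x * L.s⁻¹) * b := by rw [e1]; group
      _ = b * L.s⁻¹ * x * b := by
        rw [((show Commute x L.s from hKm.1 hx).inv_right).eq]; group
      _ = L.s * (b * x * b) := by
        have e2 : b * L.s⁻¹ = L.s * b := by
          calc b * L.s⁻¹ = L.s * (L.s⁻¹ * b) * L.s⁻¹ := by group
            _ = L.s * b := by rw [← e1]; group
        rw [e2]; group
  obtain ⟨V, hV⟩ : ∃ V : K, V = ⟨b * y * b, hbK y hyK⟩ := ⟨_, rfl⟩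
  have hmc : ∀ x x' : G, b * x * b * (b * x' * b) = b * (x * x') * b := fun x x' => by
    rw [show b * x * b * (b * x' * b) = b * x * (b * b) * x' * b by group, hbb]; group
  have hmp : ∀ (x : G) (n : ℕ), x ^ n = 1 → (b * x * b) ^ n = 1 := fun x n e => by
    rw [show b * x * b = b * x * b⁻¹ by rw [hbi], conj_pow, e, mul_one, mul_inv_cancel]
  have hbzb : b * z * b = z := by rw [hbz, mul_assoc, hbb, mul_one]
  have hVV : (V : G) * V = 1 := by
    rw [hV]; show b * y * b * (b * y * b) = 1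
    rw [hmc, P.yy, mul_one, hbb]
  have hcases := six_pair (Z := φ ⟨z, hzK⟩) (U := φ ⟨L.u, huK⟩) (Y := φ ⟨y, hyK⟩)
    (A := φ ⟨a, haK⟩) (V := φ V) hZ1
    (by rw [← map_mul, ← map_one φ]; exact congrArg φ (Subtype.ext hp.zz)) hU1 hUZ
    (by rw [← map_mul, ← map_one φ]; exact congrArg φ (Subtype.ext huu))
    (by rw [← map_mul, ← map_mul]; exact congrArg φ (Subtype.ext huz))
    (by rw [← map_mul, ← map_one φ]; exact congrArg φ (Subtype.ext P.yy))
    (by rw [← map_mul, ← map_pow, ← map_one φ]; exact congrArg φ (Subtype.ext P.zy))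
    (by rw [← map_mul, ← map_pow, ← map_one φ]; exact congrArg φ (Subtype.ext P.uy))
    (by rw [← map_mul, ← map_mul, ← map_pow, ← map_one φ]; exact congrArg φ (Subtype.ext P.uzy))
    (by rw [← map_mul, ← map_one φ]; exact congrArg φ (Subtype.ext P.aa))
    (by rw [← map_mul, ← map_mul]; exact congrArg φ (Subtype.ext (hp.hQC a haQ)))
    (by rw [← map_mul, ← map_mul, ← map_mul]; exact congrArg φ (Subtype.ext hua))
    (by rw [← map_mul, ← map_pow, ← map_one φ]; exact congrArg φ (Subtype.ext hya))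
    (by rw [← map_mul, ← map_mul, ← map_mul, ← map_mul, ← map_pow, ← map_one φ]
        exact congrArg φ (Subtype.ext huyzay))
    (by rw [← map_mul, ← map_mul, ← map_mul, ← map_pow, ← map_one φ]
        exact congrArg φ (Subtype.ext hw4))
    (by rw [← map_mul, ← map_one φ]; exact congrArg φ (Subtype.ext hVV))
    (by rw [← map_mul, ← map_pow, ← map_one φ]
        refine congrArg φ (Subtype.ext ?_)
        show (z * (V : G)) ^ 3 = 1
        have := hmp _ 3 P.zy
        rw [← hmc, hbzb] at this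
        rw [hV]; exact this)
    (by rw [← map_mul, ← map_pow, ← map_one φ]
        refine congrArg φ (Subtype.ext ?_)
        show (a * (V : G)) ^ 5 = 1
        have := hmp _ 5 P.uy
        rw [← hmc, hbu] at this
        rw [hV]; exact this)
    (by rw [← map_mul, ← map_mul, ← map_pow, ← map_one φ]
        refine congrArg φ (Subtype.ext ?_)
        show (a * z * (V : G)) ^ 5 = 1
        have := hmp _ 5 P.uzy
        rw [← hmc, ← hmc, hbu, hbzb] at this
        rw [hV]; exact this)
    (by rw [← map_mul, ← map_pow, ← map_one φ]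
        refine congrArg φ (Subtype.ext ?_)
        show ((V : G) * L.u) ^ 3 = 1
        have := hmp _ 3 hya
        rw [← hmc, hba] at this
        rw [hV]; exact this)
    (by rw [← map_mul, ← map_mul, ← map_mul, ← map_mul, ← map_pow, ← map_one φ]
        refine congrArg φ (Subtype.ext ?_)
        show (a * (V : G) * z * L.u * (V : G)) ^ 3 = 1
        have := hmp _ 3 huyzay
        rw [← hmc, ← hmc, ← hmc, ← hmc, hba, hbu, hbzb] at this
        rw [hV]; exact this)
    (by rw [← map_mul, ← map_mul, ← map_mul, ← map_pow, ← map_one φ]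
        refine congrArg φ (Subtype.ext ?_)
        show (a * z * (V : G) * L.u) ^ 4 = 1
        have := hmp _ 4 hw4
        rw [← hmc, ← hmc, ← hmc, hba, hbu, hbzb] at this
        rw [hV]; exact this)
  have hlift' : ∀ W : K, φ V = φ W → (W : G) * W = 1 → (V : G) = W := by
    intro W e hW
    have e1 : φ (W⁻¹ * V) = 1 := by rw [map_mul, map_inv, e, inv_mul_cancel]
    obtain ⟨i, hi⟩ := Subgroup.mem_zpowers_iff.1 ((hφk _).1 e1)
    simp only [Subgroup.coe_mul, Subgroup.coe_inv] at hi
    have hVW : (V : G) = W * L.s ^ i := by rw [hi, mul_inv_cancel_left]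
    have e2 := hVV
    rw [hVW, ((show Commute (W : G) L.s from hKm.1 W.2).zpow_right i).symm.mul_mul_mul_comm, hW,
      one_mul] at e2
    rw [hVW, hs3 i e2, mul_one]
  have hwsq := words_sq huu hp.zz P.yy P.aa P.za P.uz P.uau hya hw4
  simp only [← map_mul] at hcases
  have hVval : (V : G) = b * y * b := by rw [hV]
  have bad : b * y * b = L.u * z * y * L.u * y * a * y ∨ b * y * b = L.u * y * a * y * L.u * y * z ∨
      b * y * b = y * L.u * a * y * L.u * a → False := by
    intro hh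
    have ht := t_mem_of_wrong_yb hC hbb hw4 fbs fbu fbz fbt hh
    let M : Subgroup G :=
      { carrier := {x | x * L.s = L.s * x ∨ x * L.s = L.s⁻¹ * x}
        one_mem' := Or.inl (by simp)
        mul_mem' := by
          rintro x x' (e | e) (e' | e')
          · exact Or.inl ((show Commute x L.s from e).mul_left e').eq
          · refine Or.inr ?_
            rw [mul_assoc, e', ← mul_assoc, ((show Commute x L.s from e).inv_right).eq, mul_assoc]
          · refine Or.inr ?_
            rw [mul_assoc, e', ← mul_assoc, e, mul_assoc]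
          · refine Or.inl ?_
            have e2 : x * L.s⁻¹ = L.s * x := by
              calc x * L.s⁻¹ = L.s * (L.s⁻¹ * x) * L.s⁻¹ := by group
                _ = L.s * x := by rw [← e]; group
            rw [mul_assoc, e', ← mul_assoc, e2, mul_assoc]
        inv_mem' := by
          rintro x (e | e)
          · exact Or.inl ((show Commute x L.s from e).inv_left).eq
          · refine Or.inr ?_
            calc x⁻¹ * L.s = x⁻¹ * (L.s * x) * x⁻¹ := by group
              _ = x⁻¹ * (x * L.s⁻¹) * x⁻¹ := by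
                  have e2 : x * L.s⁻¹ = L.s * x := by
                    calc x * L.s⁻¹ = L.s * (L.s⁻¹ * x) * L.s⁻¹ := by group
                      _ = L.s * x := by rw [← e]; group
                  rw [e2]
              _ = L.s⁻¹ * x⁻¹ := by group }
    have hle : Subgroup.closure ({L.u, z, y, a, L.s, b} : Set G) ≤ M := by
      rw [Subgroup.closure_le]
      rintro x (hx | hx | hx | hx | hx | hx) <;> rw [hx]
      · exact Or.inl L.hsu.symm
      · exact Or.inl L.hs.symm
      · exact Or.inl (hKm.1 hyK)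
      · exact Or.inl (hKm.1 haK)
      · exact Or.inl rfl
      · refine Or.inr ?_
        rw [← hbs, mul_assoc, hbb, mul_one]
    exact not_inverted L P.st (hle ht)
  have hyb : b * y * b = L.u * y * L.u * y * a * y * z := by
    rcases hcases with e | e | e | e <;> have e' := hlift' _ e (hwsq _ (by
      simp only [Subgroup.coe_mul, true_or, or_true])) <;>
      simp only [Subgroup.coe_mul, hVval] at e'
    · exact (bad (Or.inl e')).elim
    · exact (bad (Or.inr (Or.inl e'))).elim
    · exact (bad (Or.inr (Or.inr e'))).elim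
    · exact e'
  refine ⟨a, b, haQ, hC.uu, hC.zz, hC.yy, hC.aa, hC.tt, hC.gg, hbb, hC.sss, hC.uy, hC.zy, hC.uzy,
    hC.uz, hC.za, hC.uau, hC.ya, hC.uyzay, hw4, hC.su, hC.sz, hC.sy, hC.sa, hC.tu, hC.tz, hC.ta,
    hC.st, hC.tt2, hC.rt, hC.gz, hC.gu, hC.gs, hC.gx, fbs, fbu, fbz, ?_, fbt, hC.xt2, hC.yv, ?_⟩
  swap
  · calc y * L.u * g * z * a * g * a * z * g * L.u
        = y * (L.u * g * z * a * g * a * z * g * L.u) := by group
      _ = 1 := by rw [← hyg, P.yy]
  calc b * y * b * z * y * a * y * L.u * y * L.u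
      = L.u * y * L.u * y * a * y * (z * z) * y * a * y * L.u * y * L.u := by rw [hyb]; group
    _ = L.u * y * L.u * y * a * (y * y) * a * y * L.u * y * L.u := by rw [hp.zz]; group
    _ = L.u * y * L.u * y * (a * a) * y * L.u * y * L.u := by rw [P.yy]; group
    _ = L.u * y * L.u * (y * y) * L.u * y * L.u := by rw [P.aa]; group
    _ = L.u * y * (L.u * L.u) * y * L.u := by rw [P.yy]; group
    _ = L.u * (y * y) * L.u := by rw [huu]; group
    _ = 1 := by rw [P.yy, mul_one, huu]

end CfsgLib.JThree
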