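import Cfsg.Agent.JankoTwoThree.J3Aut
import Mathlib.GroupTheory.Sylow
import Mathlib.GroupTheory.SpecificGroups.Cyclic
import Mathlib.RingTheory.IntegralDomain

/-!
# Sylow normalisers of the primes 19 and 17 in a copy of `J₃`

Both Sylow subgroups are self-centralising; the normalisers induce the cyclic groups of orders
9 and 8 on them.
-/

set_option autoImplicit false

namespace CfsgLib.JThree.ModelLocal

open CfsgLib.J23

section General

variable {G : Type*} [Group G] [Finite G] {p : ℕ} [hp : Fact p.Prime]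

/-- An element moving a generator of order `p` to its `r`-th power: the quotient of the normaliser
by the centraliser has order `m ∣ p - 1` with `r ^ m ≡ 1`. -/
theorem exists_normalizer_card {x y : G} {r : ℕ} (hx : orderOf x = p)
    (hy : y * x = x ^ r * y) (hr : ¬ p ∣ r) :
    ∃ m, m ∣ p - 1 ∧ r ^ m % p = 1 % p ∧
      Nat.card (Subgroup.normalizer (Subgroup.zpowers x : Set G)) =
        Nat.card (Subgroup.centralizer (Subgroup.zpowers x : Set G)) * m := by
  set X := Subgroup.zpowers x with hX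
  set φ := X.normalizerMonoidHom with hφ
  haveI : IsCyclic X := Subgroup.isCyclic_zpowers x
  have hcard : Nat.card X = p := by rw [hX, Nat.card_zpowers, hx]
  refine ⟨Nat.card φ.range, ?_, ?_, ?_⟩
  · refine (Subgroup.card_subgroup_dvd_card _).trans ?_
    rw [Nat.card_congr (IsCyclic.mulAutMulEquiv X).symm.toEquiv.symm, hcard,
      Nat.card_eq_fintype_card, ZMod.card_units]
  · have hconj : y * x * y⁻¹ = x ^ r := by rw [hy, mul_inv_cancel_right]
    have hyN : y ∈ Subgroup.normalizer (X : Set G) := by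
      rw [Subgroup.mem_normalizer_iff]
      have hgen : ∀ z ∈ X, y * z * y⁻¹ ∈ X := fun z hz => by
        obtain ⟨n, rfl⟩ := Subgroup.mem_zpowers_iff.1 hz
        rw [← conj_zpow, hconj]
        exact zpow_mem (pow_mem (Subgroup.mem_zpowers x) r) n
      refine fun z => ⟨hgen z, fun hz => ?_⟩
      let ψ : X → X := fun u => ⟨y * u * y⁻¹, hgen u u.2⟩
      have hψ : Function.Injective ψ := fun u v e =>
        Subtype.ext (mul_left_cancel (mul_right_cancel (congrArg Subtype.val e :)))
      obtain ⟨u, hu⟩ := Finite.injective_iff_surjective.1 hψ ⟨_, hz⟩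
      exact (mul_left_cancel (mul_right_cancel (congrArg Subtype.val hu :))) ▸ u.2
    have hone : (φ ⟨y, hyN⟩) ^ Nat.card φ.range = 1 :=
      congrArg Subtype.val (pow_card_eq_one' (x := (⟨φ ⟨y, hyN⟩, ⟨_, rfl⟩⟩ : φ.range)))
    rw [← map_pow, ← MonoidHom.mem_ker, hφ, Subgroup.normalizerMonoidHom_ker,
      Subgroup.mem_subgroupOf] at hone
    have hcomm := Subgroup.mem_centralizer_iff.1 hone x (Subgroup.mem_zpowers x)
    have hiter : ∀ i, y ^ i * x * (y ^ i)⁻¹ = x ^ r ^ i := by
      intro i
      induction i with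
      | zero => simp
      | succ i ih =>
        rw [pow_succ' y, mul_inv_rev, show y * y ^ i * x * ((y ^ i)⁻¹ * y⁻¹) =
          y * (y ^ i * x * (y ^ i)⁻¹) * y⁻¹ by group, ih, ← conj_pow, hconj, ← pow_mul,
          pow_succ' r]
    have h1 := hiter (Nat.card φ.range)
    rw [← show ((⟨y, hyN⟩ ^ Nat.card φ.range : Subgroup.normalizer (X : Set G)) : G) =
      y ^ Nat.card φ.range from rfl, ← hcomm, mul_inv_cancel_right, eq_comm] at h1
    rw [show x ^ r ^ Nat.card φ.range = x ↔ _ from
      (Iff.of_eq (by rw [pow_one x])).trans (pow_inj_mod (x := x) (n := r ^ Nat.card φ.range)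
        (m := 1)), hx] at h1
    exact h1
  · rw [Subgroup.card_eq_card_quotient_mul_card_subgroup φ.ker, mul_comm,
      Nat.card_congr (QuotientGroup.quotientKerEquivRange φ).toEquiv]
    congr 1
    rw [hφ, Subgroup.normalizerMonoidHom_ker]
    exact Nat.card_congr
      (Subgroup.subgroupOfEquivOfLe (Subgroup.centralizer_le_normalizer _)).toEquiv

/-- A self-centralising subgroup of prime order has a cyclic normaliser quotient. -/
theorem local_struct {X : Subgroup G} {k : ℕ} (hX : Nat.card X = p)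
    (hC : Subgroup.centralizer (X : Set G) = X)
    (hN : Nat.card (Subgroup.normalizer (X : Set G)) = p * k) :
    ∃ h : (X.subgroupOf (Subgroup.normalizer (X : Set G))).Normal,
      IsCyclic (↥(Subgroup.normalizer (X : Set G)) ⧸ X.subgroupOf _) ∧
      Nat.card (↥(Subgroup.normalizer (X : Set G)) ⧸ X.subgroupOf _) = k := by
  haveI h : (X.subgroupOf (Subgroup.normalizer (X : Set G))).Normal :=
    Subgroup.normal_in_normalizer
  haveI : IsCyclic X := isCyclic_of_prime_card hX
  haveI : IsCyclic (MulAut X) := by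
    haveI : IsCyclic (ZMod (Nat.card X))ˣ := by rw [hX]; infer_instance
    exact isCyclic_of_surjective (IsCyclic.mulAutMulEquiv X).symm.toMonoidHom
      (IsCyclic.mulAutMulEquiv X).symm.surjective
  refine ⟨h, ?_, ?_⟩
  · have hker : X.normalizerMonoidHom.ker = X.subgroupOf _ := by
      rw [Subgroup.normalizerMonoidHom_ker, hC]
    exact isCyclic_of_surjective
      (((QuotientGroup.quotientKerEquivRange X.normalizerMonoidHom).symm).trans
        (QuotientGroup.quotientMulEquivOfEq hker)).toMonoidHom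
      (MulEquiv.surjective _)
  · have := Subgroup.card_eq_card_quotient_mul_card_subgroup
      (X.subgroupOf (Subgroup.normalizer (X : Set G)))
    rw [hN, Nat.card_congr (Subgroup.subgroupOfEquivOfLe X.le_normalizer).toEquiv, hX,
      mul_comm] at this
    exact (Nat.eq_of_mul_eq_mul_right hp.out.pos this).symm

/-- The local structure carries over from one Sylow subgroup of an isomorphic group. -/
theorem sylow_local_transfer {H : Type*} [Group H] [Finite H] (e : G ≃* H) (P : Sylow p H) {k : ℕ}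
    (hP : Nat.card P = p) (hC : Subgroup.centralizer ((P : Subgroup H) : Set H) = P)
    (hN : Nat.card (Subgroup.normalizer ((P : Subgroup H) : Set H)) = p * k) (X : Sylow p G) :
    Subgroup.centralizer ((X : Subgroup G) : Set G) = X ∧
      ∃ h : ((X : Subgroup G).subgroupOf (Subgroup.normalizer ((X : Subgroup G) : Set G))).Normal,
        IsCyclic (↥(Subgroup.normalizer ((X : Subgroup G) : Set G)) ⧸
          (X : Subgroup G).subgroupOf _) ∧
        Nat.card (↥(Subgroup.normalizer ((X : Subgroup G) : Set G)) ⧸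
          (X : Subgroup G).subgroupOf _) = k := by
  obtain ⟨g, hg⟩ := MulAction.exists_smul_eq H (X.mapSurjective (f := e.toMonoidHom) e.surjective) P
  let ψ : G ≃* H := e.trans (MulAut.conj g)
  have hψ : (X : Subgroup G).map ψ.toMonoidHom = (P : Subgroup H) := by
    rw [← hg, Sylow.coe_subgroup_smul]
    show (X : Subgroup G).map ψ.toMonoidHom =
      ((X : Subgroup G).map e.toMonoidHom).map (MulAut.conj g).toMonoidHom
    rw [Subgroup.map_map]
    rfl
  have hcard : ∀ K : Subgroup G, Nat.card (K.map ψ.toMonoidHom) = Nat.card K := fun K =>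
    Subgroup.card_map_of_injective ψ.injective
  have hCX : Subgroup.centralizer ((X : Subgroup G) : Set G) = X := by
    refine Subgroup.map_injective (f := ψ.toMonoidHom) ψ.injective ?_
    rw [hψ]
    refine Eq.trans ?_ hC
    rw [← hψ]
    ext z
    simp only [Subgroup.mem_map, Subgroup.mem_centralizer_iff, SetLike.mem_coe]
    constructor
    · rintro ⟨w, hw, rfl⟩ _ ⟨u, hu, rfl⟩
      rw [← map_mul, hw u hu, map_mul]
    · intro hz
      refine ⟨ψ.symm z, fun u hu => ψ.injective ?_, ψ.apply_symm_apply z⟩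
      have := hz _ ⟨u, hu, rfl⟩
      simpa using this
  refine ⟨hCX, local_struct (p := p) ?_ hCX ?_⟩
  · rw [← hcard, hψ]; exact hP
  · rw [← hcard, Subgroup.map_equiv_normalizer_eq, hψ, hN]

end General

/-- A word conjugating the element of order 19 to its ninth power. -/
def norm19 : List ℕ := [0, 3, 0, 0, 0, 3, 0, 3, 0, 0, 1, 0, 1, 0]

theorem chk19 : wEq (norm19 ++ word19) (wPow word19 9 ++ norm19) = true := by decide +kernel

/-- The element of order 19. -/
noncomputable def xJ : J3P := pW word19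

theorem orderOf_xJ : orderOf xJ = 19 := by
  haveI : Fact (Nat.Prime 19) := ⟨by norm_num⟩
  exact orderOf_eq_prime normalFacts.2.1 normalFacts.2.2.1

theorem conj_xJ : pW norm19 * xJ = xJ ^ 9 * pW norm19 := by
  rw [xJ, ← pW_wPow, ← pW_append, ← pW_append]; exact wEq_sound chk19

/-- A subgroup of order 17 is a Sylow subgroup. -/
theorem card_sylow_eq (p : ℕ) [hp : Fact p.Prime] (h : Nat.factorization 50232960 p = 1)
    (P : Sylow p J3P) : Nat.card P = p := by
  rw [Sylow.card_eq_multiplicity, card_J3P, h, pow_one]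

theorem fac19 : Nat.factorization 50232960 19 = 1 := by
  rw [show 50232960 = 19 ^ 1 * 2643840 by norm_num, Nat.factorization_mul (by norm_num) (by norm_num),
    Finsupp.add_apply, Nat.Prime.factorization_pow (by norm_num), Finsupp.single_eq_same,
    Nat.factorization_eq_zero_of_not_dvd (by norm_num)]

theorem fac17 : Nat.factorization 50232960 17 = 1 := by
  rw [show 50232960 = 17 ^ 1 * 2954880 by norm_num, Nat.factorization_mul (by norm_num) (by norm_num),
    Finsupp.add_apply, Nat.Prime.factorization_pow (by norm_num), Finsupp.single_eq_same,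
    Nat.factorization_eq_zero_of_not_dvd (by norm_num)]

theorem zpowers_aJ_eq_centralizer :
    Subgroup.centralizer (Subgroup.zpowers aJ : Set J3P) = Subgroup.zpowers aJ := by
  refine le_antisymm (fun g hg => ?_) (Subgroup.le_centralizer (Subgroup.zpowers aJ))
  obtain ⟨i, -, rfl⟩ := exists_pow_of_commute (g := g)
    (Subgroup.mem_centralizer_iff.1 hg aJ (Subgroup.mem_zpowers aJ)).symm
  exact pow_mem (Subgroup.mem_zpowers aJ) i

theorem card_normalizer_aJ :
    Nat.card (Subgroup.normalizer (Subgroup.zpowers aJ : Set J3P)) = 17 * 8 := by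
  haveI : Fact (Nat.Prime 17) := ⟨by norm_num⟩
  have hab := abcFacts.2.2.1
  have hy : bJ⁻¹ * aJ = aJ ^ 2 * bJ⁻¹ := by
    rw [eq_mul_inv_iff_mul_eq, mul_assoc, hab, inv_mul_cancel_left, pow_two]
  obtain ⟨m, hm, hr, hN⟩ := exists_normalizer_card orderOf_aJ hy (by norm_num)
  rw [zpowers_aJ_eq_centralizer, Nat.card_zpowers, orderOf_aJ] at hN
  have hle : 17 * m ≤ 136 := hN ▸ card_nA_le
  have h8 : ∀ m < 9, m ∣ 16 → 2 ^ m % 17 = 1 → m = 0 ∨ m = 8 := by decide
  rcases h8 m (by omega) hm (by simpa using hr) with rfl | rfl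
  · exact absurd hm (by norm_num)
  · exact hN

/-- The centraliser of the element of order 19 has order `19 c` with `c` odd and prime to 17. -/
theorem centralizer_xJ_dvd : ∃ c, c ∣ 1215 ∧
    Nat.card (Subgroup.centralizer (Subgroup.zpowers xJ : Set J3P)) = 19 * c := by
  set C := Subgroup.centralizer (Subgroup.zpowers xJ : Set J3P) with hC
  have hcomm : ∀ u ∈ C, xJ * u = u * xJ := fun u hu =>
    Subgroup.mem_centralizer_iff.1 hu xJ (Subgroup.mem_zpowers xJ)
  have h2 : ¬ 2 ∣ Nat.card C := by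
    intro h
    haveI : Fact (Nat.Prime 2) := ⟨Nat.prime_two⟩
    obtain ⟨u, hu⟩ := exists_prime_orderOf_dvd_card' 2 h
    rw [← Subgroup.orderOf_coe] at hu
    obtain ⟨g, hg⟩ := isConj_iff.1 (isConj_tJ_of_orderOf hu)
    have hmem : g⁻¹ * xJ * g ∈ Subgroup.centralizer ({tJ} : Set J3P) := by
      rw [Subgroup.mem_centralizer_singleton_iff]
      calc g⁻¹ * xJ * g * tJ = g⁻¹ * (xJ * (g * tJ * g⁻¹)) * g := by group
        _ = g⁻¹ * (g * tJ * g⁻¹ * xJ) * g := by rw [hg, hcomm _ u.2]
        _ = tJ * (g⁻¹ * xJ * g) := by group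
    have := Subgroup.orderOf_dvd_natCard _ hmem
    rw [card_centralizer, show g⁻¹ * xJ * g = MulAut.conj g⁻¹ xJ by simp, MulEquiv.orderOf_eq,
      orderOf_xJ] at this
    omega
  have h17 : ¬ 17 ∣ Nat.card C := by
    intro h
    haveI : Fact (Nat.Prime 17) := ⟨by norm_num⟩
    obtain ⟨u, hu⟩ := exists_prime_orderOf_dvd_card' 17 h
    rw [← Subgroup.orderOf_coe] at hu
    let P : Sylow 17 J3P := Sylow.ofCard (Subgroup.zpowers aJ)
      (by rw [Nat.card_zpowers, orderOf_aJ, card_J3P, fac17, pow_one])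
    let Q : Sylow 17 J3P := Sylow.ofCard (Subgroup.zpowers (u : J3P))
      (by rw [Nat.card_zpowers, hu, card_J3P, fac17, pow_one])
    obtain ⟨g, hg⟩ := MulAction.exists_smul_eq J3P Q P
    have ha : aJ ∈ ((g • Q : Sylow 17 J3P) : Subgroup J3P) :=
      hg.symm ▸ Subgroup.mem_zpowers aJ
    rw [Sylow.coe_subgroup_smul] at ha
    obtain ⟨v, hv, hva⟩ := ha
    have hcv : Commute xJ v := by
      obtain ⟨n, rfl⟩ := Subgroup.mem_zpowers_iff.1 hv
      exact (show Commute xJ (u : J3P) from hcomm _ u.2).zpow_right n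
    have hca := hcv.map (MulAut.conj g).toMonoidHom
    rw [show (MulAut.conj g).toMonoidHom v = aJ from hva] at hca
    obtain ⟨i, -, hi⟩ := exists_pow_of_commute hca
    have h19 : orderOf ((MulAut.conj g).toMonoidHom xJ) = 19 :=
      (MulEquiv.orderOf_eq (MulAut.conj g) xJ).trans orderOf_xJ
    have := orderOf_dvd_of_pow_eq_one (show ((MulAut.conj g).toMonoidHom xJ) ^ 17 = 1 by
      rw [hi, ← pow_mul, mul_comm, pow_mul, abcFacts.1, one_pow])
    rw [h19] at this
    omega
  have h19 : 19 ∣ Nat.card C := by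
    have := Subgroup.orderOf_dvd_natCard C
      (Subgroup.le_centralizer (Subgroup.zpowers xJ) (Subgroup.mem_zpowers xJ))
    rwa [orderOf_xJ] at this
  obtain ⟨c, hc⟩ := h19
  refine ⟨c, ?_, hc⟩
  have hdvd : 19 * c ∣ 19 * (2176 * 1215) := by
    rw [← hc, show (19 : ℕ) * (2176 * 1215) = 50232960 by norm_num, ← card_J3P]
    exact Subgroup.card_subgroup_dvd_card C
  refine Nat.Coprime.dvd_of_dvd_mul_left ?_ (Nat.dvd_of_mul_dvd_mul_left (by norm_num) hdvd)
  rw [show 2176 = 2 ^ 7 * 17 by norm_num, Nat.coprime_mul_iff_right]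
  exact ⟨Nat.Coprime.pow_right 7 ((Nat.prime_two.coprime_iff_not_dvd.2 fun h =>
      h2 (hc ▸ h.mul_left 19)).symm),
    ((by norm_num : Nat.Prime 17).coprime_iff_not_dvd.2 fun h => h17 (hc ▸ h.mul_left 19)).symm⟩

/-- The residues left for the order of the normaliser of an element of order 19. -/
theorem residue19 : ∀ c < 1216, 1215 % c = 0 →
    (2643840 % (c * 18) = 0 → 2643840 / (c * 18) % 19 ≠ 1) ∧
      (2643840 % (c * 9) = 0 → 2643840 / (c * 9) % 19 = 1 → c = 1) := by decide +kernel

theorem exponent19 : ∀ m < 19, m ∣ 18 → 9 ^ m % 19 = 1 → m = 0 ∨ m = 9 ∨ m = 18 := by decide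

theorem card_normalizer_xJ :
    Nat.card (Subgroup.centralizer (Subgroup.zpowers xJ : Set J3P)) = 19 ∧
    Nat.card (Subgroup.normalizer (Subgroup.zpowers xJ : Set J3P)) = 19 * 9 := by
  haveI : Fact (Nat.Prime 19) := ⟨by norm_num⟩
  obtain ⟨c, hc, hC⟩ := centralizer_xJ_dvd
  obtain ⟨m, hm, hr, hN⟩ := exists_normalizer_card orderOf_xJ conj_xJ (by norm_num)
  rw [hC] at hN
  let P : Sylow 19 J3P := Sylow.ofCard (Subgroup.zpowers xJ)
    (by rw [Nat.card_zpowers, orderOf_xJ, card_J3P, fac19, pow_one])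
  have hidx := (Subgroup.normalizer (Subgroup.zpowers xJ : Set J3P)).index_mul_card
  rw [hN, card_J3P] at hidx
  have hmod : (Subgroup.normalizer (Subgroup.zpowers xJ : Set J3P)).index % 19 = 1 := by
    have h := card_sylow_modEq_one 19 J3P
    rw [P.card_eq_index_normalizer] at h
    change (Subgroup.normalizer (Subgroup.zpowers xJ : Set J3P)).index % 19 = 1 % 19 at h
    exact h
  have hm0 : m ≠ 0 := fun e => absurd hm (by rw [e]; norm_num)
  have hc0 : c ≠ 0 := fun e => absurd hc (by rw [e]; norm_num)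
  have hq : 2643840 / (c * m) % 19 = 1 := by
    rwa [show 2643840 / (c * m) = (Subgroup.normalizer (Subgroup.zpowers xJ : Set J3P)).index
      from Nat.div_eq_of_eq_mul_left (Nat.pos_of_ne_zero (mul_ne_zero hc0 hm0))
        (Nat.eq_of_mul_eq_mul_left (show 0 < 19 by norm_num) (by linarith))]
  have hr' : 9 ^ m % 19 = 1 := by simpa using hr
  have hd : 2643840 % (c * m) = 0 := Nat.mod_eq_zero_of_dvd
    ⟨(Subgroup.normalizer (Subgroup.zpowers xJ : Set J3P)).index, by linarith⟩
  obtain ⟨h18, h9⟩ := residue19 c (Nat.lt_succ_of_le (Nat.le_of_dvd (by norm_num) hc))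
    (Nat.mod_eq_zero_of_dvd hc)
  rcases exponent19 m (Nat.lt_succ_of_le (Nat.le_of_dvd (by norm_num) hm)) hm hr' with
    rfl | rfl | rfl
  · exact absurd rfl hm0
  · obtain rfl := h9 hd hq
    exact ⟨hC, hN⟩
  · exact absurd hq (h18 hd)

/-- The Sylow subgroups for 19 and 17 of a copy of `J₃`. -/
theorem sylowLocal_of_equiv {G : Type*} [Group G] (e : G ≃* J3P) :
    (∀ X : Sylow 19 G, Subgroup.centralizer ((X : Subgroup G) : Set G) = X ∧
        ∃ h : ((X : Subgroup G).subgroupOf (Subgroup.normalizer ((X : Subgroup G) : Set G))).Normal,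
          IsCyclic (↥(Subgroup.normalizer ((X : Subgroup G) : Set G)) ⧸ (X : Subgroup G).subgroupOf _) ∧
          Nat.card (↥(Subgroup.normalizer ((X : Subgroup G) : Set G)) ⧸ (X : Subgroup G).subgroupOf _) = 9) ∧
    (∀ Y : Sylow 17 G, Subgroup.centralizer ((Y : Subgroup G) : Set G) = Y ∧
        ∃ h : ((Y : Subgroup G).subgroupOf (Subgroup.normalizer ((Y : Subgroup G) : Set G))).Normal,
          IsCyclic (↥(Subgroup.normalizer ((Y : Subgroup G) : Set G)) ⧸ (Y : Subgroup G).subgroupOf _) ∧
          Nat.card (↥(Subgroup.normalizer ((Y : Subgroup G) : Set G)) ⧸ (Y : Subgroup G).subgroupOf _) = 8) := by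
  haveI : Finite G := Finite.of_equiv J3P e.symm.toEquiv
  haveI : Fact (Nat.Prime 19) := ⟨by norm_num⟩
  haveI : Fact (Nat.Prime 17) := ⟨by norm_num⟩
  have h19 : Nat.card (Subgroup.zpowers xJ) = 19 := by rw [Nat.card_zpowers, orderOf_xJ]
  have h17 : Nat.card (Subgroup.zpowers aJ) = 17 := by rw [Nat.card_zpowers, orderOf_aJ]
  let P : Sylow 19 J3P := Sylow.ofCard (Subgroup.zpowers xJ)
    (by rw [h19, card_J3P, fac19, pow_one])
  let Q : Sylow 17 J3P := Sylow.ofCard (Subgroup.zpowers aJ)
    (by rw [h17, card_J3P, fac17, pow_one])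
  refine ⟨fun X => sylow_local_transfer e P h19 ?_ card_normalizer_xJ.2 X,
    fun Y => sylow_local_transfer e Q h17 zpowers_aJ_eq_centralizer card_normalizer_aJ Y⟩
  exact (Subgroup.eq_of_le_of_card_ge (Subgroup.le_centralizer (Subgroup.zpowers xJ))
    (by rw [card_normalizer_xJ.1, h19])).symm

end CfsgLib.JThree.ModelLocal
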