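import Cfsg.Agent.JThree.ModelLocalData
import Cfsg.Agent.JankoTwoThree.J3PermDefs

/-!
# Kernel verification of the copy of `SL(2,16)` in `J₃`
-/

set_option autoImplicit false

namespace CfsgLib.JThree.ModelLocal

open CfsgLib.J23 CfsgLib.J1

/-- Product of codes in the field. -/
def mulC (a b : ℕ) : ℕ := (slMulTab >>> (4 * (16 * a + b))) % 16

/-- An entry of a matrix code. -/
def entC (A k : ℕ) : ℕ := (A >>> (4 * k)) % 16

/-- An entry of a product. -/
def dotC (a b c d : ℕ) : ℕ := mulC a b ^^^ mulC c d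

/-- Product of matrix codes. -/
def mulM (A B : ℕ) : ℕ :=
  dotC (entC A 0) (entC B 0) (entC A 1) (entC B 2) +
    16 * dotC (entC A 0) (entC B 1) (entC A 1) (entC B 3) +
    256 * dotC (entC A 2) (entC B 0) (entC A 3) (entC B 2) +
    4096 * dotC (entC A 2) (entC B 1) (entC A 3) (entC B 3)

/-- The code of an element. -/
def slCode (i : ℕ) : ℕ := (slCodeTab >>> (16 * i)) &&& 65535

/-- The base images of an element, packed. -/
def slKey (i : ℕ) : ℕ := (slTripTab >>> (39 * i)) &&& 549755813887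

/-- The base images of an element. -/
def slTrip (i : ℕ) : ℕ × ℕ × ℕ :=
  (slKey i >>> 26, (slKey i >>> 13) &&& 8191, slKey i &&& 8191)

/-- The edge leading to an element. -/
def slPar (i : ℕ) : ℕ := (slParTab >>> (13 * i)) &&& 8191

/-- An edge. -/
def slEdge (k : ℕ) : ℕ := (slEdgeTab >>> (12 * k)) &&& 4095

/-- A rank. -/
def rank12 (T i : ℕ) : ℕ := (T >>> (12 * i)) &&& 4095

/-- The image of a triple under a word. -/
def appT (w : List ℕ) (t : ℕ × ℕ × ℕ) : ℕ × ℕ × ℕ := (appW w t.1, appW w t.2.1, appW w t.2.2)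

/-- One edge. -/
def chkSLEdge (i a : ℕ) : Bool :=
  let j := slEdge (2 * i + a)
  Nat.blt j 4080 && (Nat.beq (slCode j) (mulM (slGen a) (slCode i)) &&
    tEq (appT (slWord a) (slTrip i)) (slTrip j))

/-- All data of one element. -/
def chkSL (i : ℕ) : Bool :=
  chkSLEdge i 0 && (chkSLEdge i 1 &&
    ((Nat.beq i 0 || (Nat.blt (slPar i) (2 * i) && Nat.beq (slEdge (slPar i)) i)) &&
      (Nat.blt (rank12 slPosCTab i) 4080 &&
        (Nat.beq (rank12 slSrtCTab (rank12 slPosCTab i)) i &&
          (Nat.blt (rank12 slPosTTab i) 4080 &&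
            (Nat.beq (rank12 slSrtTTab (rank12 slPosTTab i)) i &&
              (Nat.beq (i + 1) 4080 ||
                (Nat.blt (slCode (rank12 slSrtCTab i)) (slCode (rank12 slSrtCTab (i + 1))) &&
                  Nat.blt (slKey (rank12 slSrtTTab i)) (slKey (rank12 slSrtTTab (i + 1)))))))))))

theorem chkSL_all : allLt 4080 chkSL = true := by decide +kernel

theorem chkSL_one : (Nat.beq (slCode 0) 4097 && (tEq (slTrip 0) (0, 2945, 1) &&
    (Nat.beq (appW (slWord 0) 0) 0 && Nat.beq (appW (slWord 1) 0) 0))) = true := by decide +kernel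

end CfsgLib.JThree.ModelLocal
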