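import Cfsg.Agent.JThree.ModelLocalCheck
import Cfsg.Agent.JankoTwoThree.J3Involution
import Cfsg.Agent.JankoTwoThree.Level
import Cfsg.Agent.Linear.Basic
import Cfsg.Agent.Linear.SmallFields
import Mathlib.GroupTheory.Index

/-!
# `SL(2,16)` extended by 2 inside a copy of `J₃`

The graph of an isomorphism from `SL(2,16)` to a subgroup of index 2 of a point stabiliser is
listed: 4080 pairs, closed under left multiplication by two generators.
-/

set_option autoImplicit false

namespace CfsgLib.JThree.ModelLocal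

open CfsgLib.J23 CfsgLib.J1 CfsgLib.Schur
open scoped MatrixGroups

/-- A root of `x² + x + 1` in the field with four elements. -/
def omega4 : CfsgLib.Linear.GF4 := ⟨0, 1⟩

/-- The field of order 16, `t² = ω + t`. -/
abbrev GF16 : Type := QuadraticAlgebra CfsgLib.Linear.GF4 omega4 1

instance fact_gf16 : Fact (∀ r : CfsgLib.Linear.GF4, r ^ 2 ≠ omega4 + 1 * r) := ⟨by decide +kernel⟩

instance fintype_gf16 : Fintype GF16 :=
  Fintype.ofEquiv _ (QuadraticAlgebra.equivProd omega4 1).symm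

theorem card_gf16 : Fintype.card GF16 = 16 := by
  rw [Fintype.card_congr (QuadraticAlgebra.equivProd omega4 1), Fintype.card_prod,
    CfsgLib.Linear.card_gf4]

/-- The element of a code. -/
def toK (c : ℕ) : GF16 := ⟨⟨(c : ZMod 2), (c / 2 : ℕ)⟩, ⟨(c / 4 : ℕ), (c / 8 : ℕ)⟩⟩

theorem toK_facts : ∀ a < 16, ∀ b < 16, mulC a b < 16 ∧
    toK (a ^^^ b) = toK a + toK b ∧ toK (mulC a b) = toK a * toK b ∧ (toK a = toK b → a = b) := by
  decide +kernel

theorem entC_lt (A k : ℕ) : entC A k < 16 := Nat.mod_lt _ (by norm_num)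

theorem mulC_lt (a b : ℕ) : mulC a b < 16 := Nat.mod_lt _ (by norm_num)

theorem dotC_lt (a b c d : ℕ) : dotC a b c d < 16 :=
  Nat.xor_lt_two_pow (n := 4) (mulC_lt a b) (mulC_lt c d)

theorem toK_dotC {a b c d : ℕ} (ha : a < 16) (hb : b < 16) (hc : c < 16) (hd : d < 16) :
    toK (dotC a b c d) = toK a * toK b + toK c * toK d := by
  rw [dotC, (toK_facts _ (mulC_lt a b) _ (mulC_lt c d)).2.1, (toK_facts a ha b hb).2.2.1,
    (toK_facts c hc d hd).2.2.1]

/-- The matrix of a code. -/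
def toM (A : ℕ) : Matrix (Fin 2) (Fin 2) GF16 :=
  !![toK (entC A 0), toK (entC A 1); toK (entC A 2), toK (entC A 3)]

theorem entC_pack {a b c d : ℕ} (ha : a < 16) (hb : b < 16) (hc : c < 16) (hd : d < 16) :
    entC (a + 16 * b + 256 * c + 4096 * d) 0 = a ∧ entC (a + 16 * b + 256 * c + 4096 * d) 1 = b ∧
    entC (a + 16 * b + 256 * c + 4096 * d) 2 = c ∧
    entC (a + 16 * b + 256 * c + 4096 * d) 3 = d := by
  simp only [entC, Nat.shiftRight_eq_div_pow]
  norm_num
  refine ⟨?_, ?_, ?_, ?_⟩ <;> omega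

theorem toM_mulM (A B : ℕ) : toM (mulM A B) = toM A * toM B := by
  obtain ⟨h0, h1, h2, h3⟩ := entC_pack (dotC_lt (entC A 0) (entC B 0) (entC A 1) (entC B 2))
    (dotC_lt (entC A 0) (entC B 1) (entC A 1) (entC B 3))
    (dotC_lt (entC A 2) (entC B 0) (entC A 3) (entC B 2))
    (dotC_lt (entC A 2) (entC B 1) (entC A 3) (entC B 3))
  simp only [toM, mulM, h0, h1, h2, h3, toK_dotC (entC_lt _ _) (entC_lt _ _) (entC_lt _ _)
    (entC_lt _ _), Matrix.mul_fin_two]

theorem toM_injective {A B : ℕ} (hA : A < 65536) (hB : B < 65536) (h : toM A = toM B) : A = B := by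
  have e : ∀ k, toK (entC A k) = toK (entC B k) → entC A k = entC B k := fun k =>
    (toK_facts _ (entC_lt A k) _ (entC_lt B k)).2.2.2
  have e0 := e 0 (congrFun (congrFun h 0) 0)
  have e1 := e 1 (congrFun (congrFun h 0) 1)
  have e2 := e 2 (congrFun (congrFun h 1) 0)
  have e3 := e 3 (congrFun (congrFun h 1) 1)
  simp only [entC, Nat.shiftRight_eq_div_pow] at e0 e1 e2 e3
  norm_num at e0 e1 e2 e3
  omega

theorem slCode_lt (i : ℕ) : slCode i < 65536 :=
  Nat.lt_succ_of_le Nat.and_le_right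

theorem slKey_spec (i : ℕ) {j : ℕ} (h : slTrip i = slTrip j) : slKey i = slKey j := by
  simp only [slTrip, Prod.mk.injEq, Nat.shiftRight_eq_div_pow,
    show (8191 : ℕ) = 2 ^ 13 - 1 by norm_num, Nat.and_two_pow_sub_one_eq_mod] at h
  norm_num at h
  omega

/-- A map whose values increase along a listing that meets every index is injective. -/
theorem rank_injective (f srt pos : ℕ → ℕ) (hpos : ∀ i, i < 4080 → pos i < 4080 ∧ srt (pos i) = i)
    (hmono : ∀ k, k + 1 < 4080 → f (srt k) < f (srt (k + 1))) {i j : ℕ} (hi : i < 4080)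
    (hj : j < 4080) (e : f i = f j) : i = j := by
  have hlt : ∀ b, b < 4080 → ∀ a, a < b → f (srt a) < f (srt b) := by
    intro b
    induction b with
    | zero => exact fun _ a ha => absurd ha (Nat.not_lt_zero a)
    | succ b ih =>
      intro hb a ha
      rcases Nat.lt_succ_iff_lt_or_eq.1 ha with h | rfl
      · exact (ih (by omega) a h).trans (hmono b hb)
      · exact hmono a hb
  obtain ⟨hpi, hsi⟩ := hpos i hi
  obtain ⟨hpj, hsj⟩ := hpos j hj
  rcases Nat.lt_trichotomy (pos i) (pos j) with h | h | h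
  · have := hlt _ hpj _ h; rw [hsi, hsj, e] at this; exact absurd this (lt_irrefl _)
  · rw [← hsi, ← hsj, h]
  · have := hlt _ hpi _ h; rw [hsi, hsj, e] at this; exact absurd this (lt_irrefl _)

theorem tableFacts {i : ℕ} (hi : i < 4080) :
    (∀ a < 2, slEdge (2 * i + a) < 4080 ∧
      slCode (slEdge (2 * i + a)) = mulM (slGen a) (slCode i) ∧
      appT (slWord a) (slTrip i) = slTrip (slEdge (2 * i + a))) ∧
    (i = 0 ∨ slPar i < 2 * i ∧ slEdge (slPar i) = i) ∧
    (rank12 slPosCTab i < 4080 ∧ rank12 slSrtCTab (rank12 slPosCTab i) = i) ∧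
    (rank12 slPosTTab i < 4080 ∧ rank12 slSrtTTab (rank12 slPosTTab i) = i) ∧
    (i + 1 < 4080 → slCode (rank12 slSrtCTab i) < slCode (rank12 slSrtCTab (i + 1)) ∧
      slKey (rank12 slSrtTTab i) < slKey (rank12 slSrtTTab (i + 1))) := by
  have h := allLt_spec chkSL_all i hi
  simp only [chkSL, chkSLEdge, Bool.and_eq_true, Bool.or_eq_true, tEq_iff] at h
  obtain ⟨h0, h1, hp, hc, hc', ht, ht', hm⟩ := h
  refine ⟨fun a ha => ?_, hp.imp Nat.eq_of_beq_eq_true fun h =>
      ⟨Nat.le_of_ble_eq_true h.1, Nat.eq_of_beq_eq_true h.2⟩,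
    ⟨Nat.le_of_ble_eq_true hc, Nat.eq_of_beq_eq_true hc'⟩,
    ⟨Nat.le_of_ble_eq_true ht, Nat.eq_of_beq_eq_true ht'⟩, fun hlt => ?_⟩
  · interval_cases a
    exacts [⟨Nat.le_of_ble_eq_true h0.1, Nat.eq_of_beq_eq_true h0.2.1, h0.2.2⟩,
      ⟨Nat.le_of_ble_eq_true h1.1, Nat.eq_of_beq_eq_true h1.2.1, h1.2.2⟩]
  · rcases hm with h | h
    · exact absurd (Nat.eq_of_beq_eq_true h) hlt.ne
    · exact ⟨Nat.le_of_ble_eq_true h.1, Nat.le_of_ble_eq_true h.2⟩

theorem slCode_injective {i j : ℕ} (hi : i < 4080) (hj : j < 4080) (e : slCode i = slCode j) :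
    i = j :=
  rank_injective slCode (rank12 slSrtCTab) (rank12 slPosCTab) (fun _ h => (tableFacts h).2.2.1)
    (fun _ h => ((tableFacts (Nat.lt_of_succ_lt h)).2.2.2.2 h).1) hi hj e

theorem slTrip_injective {i j : ℕ} (hi : i < 4080) (hj : j < 4080) (e : slTrip i = slTrip j) :
    i = j :=
  rank_injective slKey (rank12 slSrtTTab) (rank12 slPosTTab) (fun _ h => (tableFacts h).2.2.2.1)
    (fun _ h => ((tableFacts (Nat.lt_of_succ_lt h)).2.2.2.2 h).2) hi hj (slKey_spec i e)

theorem det_slGen : ∀ a : Fin 2, (toM (slGen a)).det = 1 := by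
  intro a
  rw [toM, Matrix.det_fin_two_of]
  revert a
  decide +kernel

/-- The generators of the graph. -/
noncomputable def graphGen (a : Fin 2) : SL(2, GF16) × J3P :=
  (⟨toM (slGen a), det_slGen a⟩, pW (slWord a))

/-- The base images of a permutation. -/
noncomputable def imgT (g : J3P) : ℕ × ℕ × ℕ :=
  ((g.1 ⟨0, by norm_num⟩ : ℕ), (g.1 ⟨2945, by norm_num⟩ : ℕ), (g.1 ⟨1, by norm_num⟩ : ℕ))

theorem imgT_injective {g k : J3P} (h : imgT g = imgT k) : g = k := by
  simp only [imgT, Prod.mk.injEq] at h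
  refine eq_of_base fun p hp => Fin.ext ?_
  rcases hp with e | e | e
  · rw [show p = ⟨0, by norm_num⟩ from Fin.ext e]; exact h.1
  · rw [show p = ⟨2945, by norm_num⟩ from Fin.ext e]; exact h.2.1
  · rw [show p = ⟨1, by norm_num⟩ from Fin.ext e]; exact h.2.2

theorem imgT_pW_mul (w : List ℕ) (g : J3P) : imgT (pW w * g) = appT w (imgT g) := by
  simp only [imgT, appT, Subgroup.coe_mul, Equiv.Perm.mul_apply,
    show (pW w).1 = Pc.ev pgen w from rfl, pev_apply]

/-- The graph of the isomorphism. -/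
noncomputable def graphSL : Subgroup (SL(2, GF16) × J3P) :=
  Subgroup.closure (Set.range graphGen)

theorem exists_elt : ∀ i, i < 4080 → ∃ x ∈ graphSL,
    toM (slCode i) = (x.1 : Matrix (Fin 2) (Fin 2) GF16) ∧ imgT x.2 = slTrip i := by
  intro i
  induction i using Nat.strong_induction_on with
  | _ i ih =>
    intro hi
    rcases (tableFacts hi).2.1 with rfl | ⟨hp, he⟩
    · have h := chkSL_one
      simp only [Bool.and_eq_true, tEq_iff] at h
      refine ⟨1, one_mem _, ?_, ?_⟩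
      · rw [Nat.eq_of_beq_eq_true h.1, Prod.fst_one, Matrix.SpecialLinearGroup.coe_one]
        decide +kernel
      · rw [h.2.1]; rfl
    · have hq : slPar i / 2 < i := by omega
      obtain ⟨x, hx, hM, hT⟩ := ih _ hq (hq.trans hi)
      obtain ⟨-, hc, ht⟩ := (tableFacts (hq.trans hi)).1 (slPar i % 2) (Nat.mod_lt _ (by norm_num))
      rw [Nat.div_add_mod, he] at hc ht
      let a : Fin 2 := ⟨slPar i % 2, Nat.mod_lt _ (by norm_num)⟩
      refine ⟨graphGen a * x, mul_mem (Subgroup.subset_closure ⟨a, rfl⟩) hx, ?_, ?_⟩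
      · rw [hc, toM_mulM, Prod.fst_mul, Matrix.SpecialLinearGroup.coe_mul, hM]
        rfl
      · rw [Prod.snd_mul, show (graphGen a).2 = pW (slWord a) from rfl, imgT_pW_mul, hT, ← ht]

theorem graphSL_spec : Nat.card graphSL = 4080 ∧
    (∀ x ∈ graphSL, x.1 = 1 → x = 1) ∧ (∀ x ∈ graphSL, x.2 = 1 → x = 1) ∧
    ∀ x ∈ graphSL, x.2 ∈ MulAction.stabilizer J3P (0 : Fin 6156) := by
  choose t ht hM hT using fun i : Fin 4080 => exists_elt i i.2
  have hinj1 : ∀ i j, (t i).1 = (t j).1 → i = j := fun i j e =>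
    Fin.ext (slCode_injective i.2 j.2 (toM_injective (slCode_lt _) (slCode_lt _) (by
      rw [hM, hM, e])))
  have hinj2 : ∀ i j, (t i).2 = (t j).2 → i = j := fun i j e =>
    Fin.ext (slTrip_injective i.2 j.2 (by rw [← hT, ← hT, e]))
  have h0 : t ⟨0, by norm_num⟩ = 1 := by
    have h := chkSL_one
    simp only [Bool.and_eq_true, tEq_iff] at h
    refine Prod.ext (Subtype.ext ?_) (imgT_injective ?_)
    · rw [← hM, Nat.eq_of_beq_eq_true h.1, Prod.fst_one, Matrix.SpecialLinearGroup.coe_one]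
      decide +kernel
    · rw [hT, h.2.1]; rfl
  have hl := level_spec graphGen t (⊥ : Subgroup (SL(2, GF16) × J3P)) id bot_le ht ⟨_, h0⟩
    (fun a i => by
      obtain ⟨hj, hc, he⟩ := (tableFacts i.2).1 a a.2
      refine ⟨⟨_, hj⟩, 1, one_mem _, ?_⟩
      rw [mul_one]
      refine Prod.ext (Subtype.ext ?_) (imgT_injective ?_)
      · rw [Prod.fst_mul, Matrix.SpecialLinearGroup.coe_mul, ← hM, ← hM, hc, toM_mulM]
        rfl
      · rw [Prod.snd_mul, show (graphGen a).2 = pW (slWord a) from rfl, imgT_pW_mul, hT, hT, he])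
    (fun g k hk => by rw [Subgroup.mem_bot.1 hk, mul_one])
    (fun i j e => hinj1 i j (congrArg Prod.fst (e : t i = t j)))
  have hcover : ∀ x ∈ graphSL, ∃ i, x = t i := fun x hx => by
    obtain ⟨i, k, hk, rfl⟩ := hl.1 x hx
    exact ⟨i, by rw [Subgroup.mem_bot.1 hk, mul_one]⟩
  refine ⟨hl.2.trans (by simp), fun x hx e => ?_, fun x hx e => ?_, fun x hx => ?_⟩
  · obtain ⟨i, rfl⟩ := hcover x hx
    rw [hinj1 i ⟨0, by norm_num⟩ (by rw [e, h0, Prod.fst_one]), h0]
  · obtain ⟨i, rfl⟩ := hcover x hx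
    rw [hinj2 i ⟨0, by norm_num⟩ (by rw [e, h0, Prod.snd_one]), h0]
  · have : graphSL ≤ (MulAction.stabilizer J3P (0 : Fin 6156)).comap (MonoidHom.snd _ _) := by
      refine (Subgroup.closure_le _).2 ?_
      rintro _ ⟨a, rfl⟩
      have h := chkSL_one
      simp only [Bool.and_eq_true] at h
      refine pW_mem_stabilizer ?_
      fin_cases a
      exacts [Nat.eq_of_beq_eq_true h.2.2.1, Nat.eq_of_beq_eq_true h.2.2.2]
    exact this hx

theorem exists_sl2 : ∃ (H : Subgroup J3P) (N : Subgroup H),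
    N.index = 2 ∧ Nonempty (N ≃* SL(2, GF16)) := by
  obtain ⟨hcard, h1, h2, hst⟩ := graphSL_spec
  let p1 : graphSL →* SL(2, GF16) := (MonoidHom.fst _ _).comp graphSL.subtype
  let p2 : graphSL →* MulAction.stabilizer J3P (0 : Fin 6156) :=
    ((MonoidHom.snd _ _).comp graphSL.subtype).codRestrict _ fun x => hst x x.2
  have hp1 : Function.Injective p1 :=
    (injective_iff_map_eq_one p1).2 fun x e => Subtype.ext (h1 x x.2 e)
  have hp2 : Function.Injective p2 :=
    (injective_iff_map_eq_one p2).2 fun x e => Subtype.ext (h2 x x.2 (congrArg Subtype.val e))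
  have hbij : Function.Bijective p1 := hp1.bijective_of_nat_card_le (by
    rw [hcard, CfsgLib.Linear.card_SL_two, card_gf16]; norm_num)
  refine ⟨_, p2.range, ?_, ⟨(MonoidHom.ofInjective hp2).symm.trans (MulEquiv.ofBijective p1 hbij)⟩⟩
  have := p2.range.index_mul_card
  rw [card_stabilizer_J3P, Nat.card_congr (MonoidHom.ofInjective hp2).toEquiv.symm, hcard] at this
  omega

/-- A copy of `J₃` contains `SL(2,16)` extended by 2. -/
theorem exists_sl2_of_equiv {G : Type*} [Group G] (e : G ≃* J3P) :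
    ∃ (H : Subgroup G) (N : Subgroup H) (K : Type) (_ : Field K) (_ : Fintype K),
      N.Normal ∧ N.index = 2 ∧ Fintype.card K = 16 ∧
        Nonempty (N ≃* Matrix.SpecialLinearGroup (Fin 2) K) := by
  obtain ⟨H, N, hN, ⟨φ⟩⟩ := exists_sl2
  let eH : H.comap e.toMonoidHom ≃* H := (e.subgroupMap _).trans (MulEquiv.subgroupCongr
    (Subgroup.map_comap_eq_self_of_surjective e.surjective H))
  have hidx : (N.comap eH.toMonoidHom).index = 2 :=
    (N.index_comap_of_surjective eH.surjective).trans hN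
  refine ⟨_, N.comap eH.toMonoidHom, GF16, inferInstance, inferInstance,
    Subgroup.normal_of_index_eq_two hidx, hidx, card_gf16, ⟨?_⟩⟩
  exact ((eH.subgroupMap _).trans (MulEquiv.subgroupCongr
    (Subgroup.map_comap_eq_self_of_surjective eH.surjective N))).trans φ

end CfsgLib.JThree.ModelLocal
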