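import Cfsg.Agent.JThree.Coord

/-!
# The element interchanging `z` and `t`

`a ∈ Q` centralises `s` and moves `u`; `a t a` shifts `t` by `z` and `t₂` by `u`.
-/

set_option autoImplicit false
set_option linter.style.haveILetI false
set_option linter.unusedSectionVars false

namespace CfsgLib.JThree

open CfsgLib.HallJanko

variable {G : Type*} [Group G] [Finite G] {z : G} {Q : Subgroup G}

/-- The local data together with the element `a`. -/
structure Base (L : Loc z Q) (a : G) : Prop where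
  mem : a ∈ Q
  sq : a * a = 1
  comm : a * L.s = L.s * a
  uau : L.u * a * L.u * a = z
  ta : (L.t * a) ^ 4 * z = 1
  act : Act L (a * L.t * a) ![1, 2, 5, 10]

/-- An element of order 3 commutes with a pair it fixes. -/
theorem comm_pair (h : PreCore z Q) (F : Frame z Q) {s : G} (hs : s * z = z * s)
    (h3 : s * s * s = 1) {i : Fin 5} (hi : (F.p hs : Equiv.Perm (Fin 5)) i = i) :
    s * F.a i = F.a i * s := by
  have e := F.act ⟨s, Subgroup.mem_centralizer_singleton_iff.2 hs⟩ i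
  rw [hi] at e
  rcases e with e | e
  · calc s * F.a i = s * F.a i * s⁻¹ * s := by group
      _ = F.a i * s := by rw [e]
  · exfalso
    have hzs : Commute z s⁻¹ := (show Commute z s from hs.symm).inv_right
    have e2 : s * (s * F.a i * s⁻¹) * s⁻¹ = F.a i := by
      rw [e, show s * (F.a i * z) * s⁻¹ = s * F.a i * (z * s⁻¹) by group,
        hzs.eq, ← mul_assoc, e, mul_assoc, h.zz, mul_one]
    have e3 : s * (s * (s * F.a i * s⁻¹) * s⁻¹) * s⁻¹ = F.a i * z := by rw [e2, e]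
    rw [show s * (s * (s * F.a i * s⁻¹) * s⁻¹) * s⁻¹ = (s * s * s) * F.a i * (s * s * s)⁻¹ by group,
      h3, one_mul, inv_one, mul_one] at e3
    exact h.z_ne_one (mul_eq_left.1 e3.symm)

/-- Replacing `s` by its inverse. -/
def flip (L : Loc z Q) : Loc z Q where
  F := L.F
  f := L.f
  s := L.s⁻¹
  t := L.t
  r := L.r
  hs := (show Commute L.s z from L.hs).inv_left.eq
  hs3 := by rw [orderOf_inv, L.hs3]
  hsu := (show Commute L.s (L.F.a L.f) from L.hsu).inv_left.eq
  ht := L.ht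
  ht2 := L.ht2
  htQ := L.htQ
  htu := L.htu
  hr3 := L.hr3
  hrs := (show Commute L.r L.s from L.hrs).inv_right.eq
  hrt := L.hrt
  hrz := L.hrz
  hru := L.hru

theorem exists_base (h : Hyp z Q) : ∃ (L : Loc z Q) (a : G), Base L a := by
  have hp : PreCore z Q := h.toPreCore
  obtain ⟨L⟩ := h.exists_locdata
  obtain ⟨-, hTu⟩ := fixed_t hp L
  obtain ⟨hT1, hT2⟩ := L.F.p_invol hp L.ht L.ht2 L.htQ
  obtain ⟨T, hT⟩ : ∃ T : Equiv.Perm (Fin 5), T = (L.F.p L.ht : Equiv.Perm (Fin 5)) := ⟨_, rfl⟩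
  rw [← hT] at hTu
  have hTT : ∀ x, T (T x) = x := fun x => by
    have := congrArg (fun g : alternatingGroup (Fin 5) => (g : Equiv.Perm (Fin 5)) x) hT2
    rw [hT]
    exact this
  have hs3 : L.s * L.s * L.s = 1 := L.s_cube
  have hr1 : L.F.p L.hs ≠ 1 := fun e => hp.not_mem_of_three L.hs3 ((L.F.ker_p hp L.hs).1 e)
  have hr3 : L.F.p L.hs * L.F.p L.hs * L.F.p L.hs = 1 := by
    rw [← map_mul, ← map_mul, ← map_one L.F.π]
    exact congrArg L.F.π (Subtype.ext hs3)
  obtain ⟨j, hjf, hj, -⟩ := Alt.three_fixed _ hr1 hr3 L.f (L.F.fix_of_commute hp L.hs L.hsu)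
  have hjs := comm_pair hp L.F L.hs hs3 hj
  have hTj : T j ≠ j := fun e => hjf (hTu j e)
  obtain ⟨a, ha⟩ : ∃ a, a = L.F.a j := ⟨_, rfl⟩
  rw [← ha] at hjs
  have haQ : a ∈ Q := ha ▸ L.F.mem j
  have haa : a * a = 1 := ha ▸ L.F.sq j
  have hai : a⁻¹ = a := inv_eq_of_mul_eq_one_left haa
  have hti : L.t⁻¹ = L.t := inv_eq_of_mul_eq_one_left L.ht2
  have huQ : L.u ∈ Q := L.F.mem L.f
  have huu : L.u * L.u = 1 := L.F.sq L.f
  have hua : L.u * a = a * L.u * z := ha ▸ L.F.nc L.f j hjf.symm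
  have haz : a * z = z * a := hp.hQC a haQ
  have huau : L.u * a * L.u * a = z := by
    calc L.u * a * L.u * a = a * L.u * z * L.u * a := by rw [hua]
      _ = a * L.u * (z * L.u) * a := by group
      _ = a * (L.u * L.u) * (z * a) := by rw [← hp.hQC L.u huQ]; group
      _ = z := by rw [huu, mul_one, ← haz, ← mul_assoc, haa, one_mul]
  -- the product `t a t a`
  obtain ⟨p, hpdef⟩ : ∃ p, p = L.t * a * L.t * a := ⟨_, rfl⟩
  have hpe : Eqz z p (L.F.a (T j) * L.F.a j) := by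
    have e : Eqz z (L.t * L.F.a j * L.t⁻¹) (L.F.a (T j)) :=
      hT ▸ L.F.act ⟨L.t, Subgroup.mem_centralizer_singleton_iff.2 L.ht⟩ j
    rw [hti] at e
    rw [hpdef, ha]
    exact hp.eqz_mul (hp.hQC _ (L.F.mem _)) e (Or.inl rfl)
  have hpp : p * p = z := by
    rw [hp.eqz_sq (Q.mul_mem (L.F.mem _) (L.F.mem _)) hpe, L.F.sq4 hp _ _ hTj]
  have hta : (L.t * a) ^ 4 = z := by
    refine Eq.trans ?_ hpp
    rw [hpdef]
    simp only [pow_succ, pow_zero, one_mul]
    group
  obtain ⟨x, hxdef⟩ : ∃ x, x = a * L.t * a := ⟨_, rfl⟩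
  have hxx : x * x = 1 := by
    rw [hxdef, show a * L.t * a * (a * L.t * a) = a * L.t * (a * a) * L.t * a by group, haa,
      mul_one, mul_assoc a L.t L.t, L.ht2, mul_one, haa]
  have hxi : x⁻¹ = x := inv_eq_of_mul_eq_one_left hxx
  have hxz : x * z = z * x := hxdef ▸
    (((show Commute a z from haz).mul_left L.ht).mul_left haz).eq
  have hxp : x = L.t * p := by
    rw [hpdef, hxdef, ← mul_assoc, ← mul_assoc, ← mul_assoc, L.ht2, one_mul]
  have hxu : x * L.u * x⁻¹ = L.u := by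
    have e1 : a * L.u * a = L.u * z := by
      calc a * L.u * a = L.u * L.u * a * L.u * a := by rw [huu, one_mul]
        _ = L.u * (L.u * a * L.u * a) := by group
        _ = L.u * z := by rw [huau]
    have e2 : L.t * (L.u * z) * L.t = L.u * z := by
      have c : Commute L.t (L.u * z) := (show Commute L.t L.u from L.htu).mul_right L.ht
      rw [c.eq, mul_assoc, L.ht2, mul_one]
    rw [hxi, hxdef, show a * L.t * a * L.u * (a * L.t * a) =
      a * (L.t * (a * L.u * a) * L.t) * a by group, e1, e2,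
      show a * (L.u * z) * a = a * L.u * (z * a) by group, ← haz, ← mul_assoc, e1, mul_assoc,
      hp.zz, mul_one]
  have hxt : x * L.t * x⁻¹ = L.t * z := by
    rw [hxi]
    calc x * L.t * x = a * ((L.t * a) ^ 4) * a * L.t := by
          rw [hxdef]
          simp only [pow_succ, pow_zero, one_mul]
          rw [show a * (L.t * a * (L.t * a) * (L.t * a) * (L.t * a)) * a * L.t =
            a * L.t * a * L.t * a * L.t * a * (L.t * (a * a) * L.t) by group, haa, mul_one, L.ht2,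
            mul_one]
          group
      _ = L.t * z := by rw [hta, haz, mul_assoc z a a, haa, mul_one, L.ht]
  obtain ⟨a1, a2, a3, a4, -⟩ := t2_facts hp L
  obtain ⟨hct, -⟩ := t_rel hp L
  have hyz : x * L.t2 * x⁻¹ * z = z * (x * L.t2 * x⁻¹) :=
    (((show Commute x z from hxz).mul_left a1).mul_left (show Commute x z from hxz).inv_left).eq
  have hyt : x * L.t2 * x⁻¹ * L.t = L.t * (x * L.t2 * x⁻¹) := by
    have c1 : Commute (x * L.t2 * x⁻¹) (x * L.t * x⁻¹) :=
      (SemiconjBy.conj_iff).2 hct.symm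
    rw [hxt] at c1
    have := (c1.mul_right hyz).eq
    rwa [mul_assoc L.t z z, hp.zz, mul_one] at this
  obtain ⟨m, hm⟩ := exists_av hp L hyz hyt
  obtain ⟨b0, b1, b2, b4, b8⟩ := av_basis L
  have hmQ : m ^^^ 8 < 4 := by
    refine (av_mem_Q hp L).1 ?_
    rw [av_xor hp, ← hm, b8]
    have hcz : x * L.t2 * x⁻¹ * L.t2 * z = z * (x * L.t2 * x⁻¹ * L.t2) :=
      ((show Commute (x * L.t2 * x⁻¹) z from hyz).mul_left a1).eq
    refine (L.F.ker_p hp hcz).1 ?_
    have hpx : L.F.p hxz = L.F.p L.ht := by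
      have hpQ : p ∈ Q := hp.eqz_mem (Q.mul_mem (L.F.mem _) (L.F.mem _)) hpe
      calc L.F.p hxz = L.F.p L.ht * L.F.p (hp.hQC p hpQ) := by
            rw [← map_mul]; exact congrArg L.F.π (Subtype.ext hxp)
        _ = L.F.p L.ht := by rw [(L.F.ker_p hp _).2 hpQ, mul_one]
    calc L.F.p hcz = L.F.p hxz * L.F.p a1 * (L.F.p hxz)⁻¹ * L.F.p a1 := by
          rw [← map_inv, ← map_mul, ← map_mul, ← map_mul]
          exact congrArg L.F.π (Subtype.ext rfl)
      _ = 1 := by
          have hc : L.F.p L.ht * L.F.p a1 = L.F.p a1 * L.F.p L.ht := by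
            rw [← map_mul, ← map_mul]; exact congrArg L.F.π (Subtype.ext hct)
          rw [hpx, hc, mul_inv_cancel_right, ← map_mul, ← map_one L.F.π]
          exact congrArg L.F.π (Subtype.ext a2)
  have hm89 : m ≠ 8 ∧ m ≠ 9 := by
    have key : Eqz z (x * L.t2 * x⁻¹) L.t2 → False := by
      intro e
      have e2 : Eqz z (L.t2 * p * L.t2⁻¹) p := by
        have ep : L.t2 * p * L.t2⁻¹ = L.t * (L.t2 * x * L.t2⁻¹) := by
          rw [hxp, show L.t * (L.t2 * (L.t * p) * L.t2⁻¹) =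
            L.t * (L.t2 * L.t) * (p * L.t2⁻¹) by group, ← hct, ← mul_assoc L.t, L.ht2, one_mul]
          group
        have e3 : Eqz z (L.t2 * x * L.t2⁻¹) x := by
          rcases e with e | e
          · left
            calc L.t2 * x * L.t2⁻¹ = x * L.t2 * x⁻¹ * x * L.t2⁻¹ := by rw [e]
              _ = x := by group
          · right
            have e4 : L.t2 = x * L.t2 * x⁻¹ * z := by rw [e, mul_assoc, hp.zz, mul_one]
            calc L.t2 * x * L.t2⁻¹ = x * L.t2 * x⁻¹ * (z * x) * L.t2⁻¹ := by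
                  conv_lhs => arg 1; arg 1; rw [e4]
                  group
              _ = x * L.t2 * (z * L.t2⁻¹) := by rw [← hxz]; group
              _ = x * z := by
                rw [← ((show Commute L.t2 z from a1).inv_left).eq]; group
        rw [ep]
        rcases e3 with e3 | e3 <;> rw [e3, hxp]
        · left; rw [← mul_assoc, L.ht2, one_mul]
        · right; rw [← mul_assoc, ← mul_assoc, L.ht2, one_mul]
      have e4 := hp.eqz_trans (hp.eqz_symm (hp.eqz_conj a1 hpe))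
        (hp.eqz_trans e2 hpe)
      have e5 := hp.eqz_trans (hp.eqz_symm (L.F.act_mul hp a1 (T j) j)) e4
      obtain ⟨f2, hf2, hu2, -⟩ := L.F.exists_fixed hp a1 a2 a3
      obtain rfl : f2 = L.f := (hu2 _ (L.F.fix_of_commute hp a1 a4)).symm
      rcases L.F.pair _ _ _ _ (fun e' => hTj (Equiv.injective _ e')) hTj e5 with ⟨-, e6⟩ | ⟨-, e6⟩
      · exact hjf (hu2 j e6)
      · -- `t t₂` fixes `j`
        have htt : L.t * L.t2 * z = z * (L.t * L.t2) :=
          ((show Commute L.t z from L.ht).mul_left a1).eq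
        have htt2 : L.t * L.t2 * (L.t * L.t2) = 1 := by
          rw [(show Commute L.t2 L.t from hct.symm).mul_mul_mul_comm, L.ht2, a2, mul_one]
        have h12 : L.t * L.t2 ∉ Q := fun hmm => by
          have := (av_mem_Q hp L).1 (by rw [(av_named hp L).2]; exact hmm : av L 12 ∈ Q)
          exact absurd this (by decide)
        obtain ⟨f3, -, hu3, -⟩ := L.F.exists_fixed hp htt htt2 h12
        have hp3 : L.F.p htt = L.F.p L.ht * L.F.p a1 := by
          rw [← map_mul]; exact congrArg L.F.π (Subtype.ext rfl)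
        have hj3 : (L.F.p htt : Equiv.Perm (Fin 5)) j = j := by
          rw [hp3, Subgroup.coe_mul, Equiv.Perm.mul_apply, e6, ← hT, hTT]
        have hf3 : (L.F.p htt : Equiv.Perm (Fin 5)) L.f = L.f :=
          L.F.fix_of_commute hp htt ((show Commute L.t L.u from L.htu).mul_left a4).eq
        exact hjf ((hu3 j hj3).trans (hu3 L.f hf3).symm)
    constructor <;> intro e <;> apply key <;> rw [hm, e]
    · exact Or.inl b8
    · right
      rw [show (9 : Fin 16) = 8 ^^^ 1 from rfl, av_xor hp, b8, b1]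
  have hact : ∀ {L' : Loc z Q}, L'.F = L.F → L'.f = L.f → L'.t = L.t →
      x * L'.t2 * x⁻¹ = L'.t2 * L.u → Act L' x ![1, 2, 5, 10] := by
    intro L' eF ef et e
    obtain ⟨-, c1, c2, c4, c8⟩ := av_basis L'
    have eu : L'.u = L.u := by show L'.F.a L'.f = L.F.a L.f; rw [eF, ef]
    refine act_of_named hp L' ?_ ?_ ?_ ?_
    · rw [c1, hxz, mul_inv_cancel_right]
    · rw [c2, eu, hxu]
    · rw [show (5 : Fin 16) = 4 ^^^ 1 from rfl, av_xor hp, c4, c1, et, hxt]
    · rw [show (10 : Fin 16) = 8 ^^^ 2 from rfl, av_xor hp, c8, c2, eu, e]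
  rcases (by decide +kernel : ∀ m : Fin 16, m ^^^ 8 < 4 → m ≠ 8 → m ≠ 9 → m = 10 ∨ m = 11)
    m hmQ hm89.1 hm89.2 with e | e
  · refine ⟨L, a, ⟨haQ, haa, hjs.symm, huau, by rw [hta, hp.zz], hxdef ▸ hact rfl rfl rfl ?_⟩⟩
    rw [hm, e, show (10 : Fin 16) = 8 ^^^ 2 from rfl, av_xor hp, b8, b2]
  · refine ⟨flip L, a, ⟨haQ, haa, ((show Commute a L.s from hjs.symm).inv_right).eq, huau,
      by show (L.t * a) ^ 4 * z = 1; rw [hta, hp.zz], ?_⟩⟩
    show Act (flip L) (a * L.t * a) _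
    rw [← hxdef]
    refine hact rfl rfl rfl ?_
    have ht' : (flip L).t2 = L.t * L.t2 := by
      show L.s⁻¹ * L.t * L.s⁻¹⁻¹ = L.t * L.t2
      rw [← (t_rel hp L).2, Loc.t2, inv_inv,
        show L.s * (L.s * L.t * L.s⁻¹) * L.s⁻¹ = (L.s * L.s * L.s) * (L.s⁻¹ * L.t * L.s) *
          (L.s * L.s * L.s)⁻¹ by group, hs3]
      group
    rw [ht', show x * (L.t * L.t2) * x⁻¹ = x * L.t * x⁻¹ * (x * L.t2 * x⁻¹) by group, hxt, hm, e,
      show (11 : Fin 16) = 8 ^^^ 2 ^^^ 1 from rfl, av_xor hp, av_xor hp, b8, b2, b1,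
      show L.t * z * (L.t2 * L.u * z) = L.t * (z * (L.t2 * L.u)) * z by group,
      ← ((show Commute L.t2 z from a1).mul_left (hp.hQC L.u huQ)).eq]
    rw [show L.t * (L.t2 * L.u * z) * z = L.t * L.t2 * L.u * (z * z) by group, hp.zz, mul_one]

variable (h : Hyp z Q) (L : Loc z Q) {a : G} (D : Base L a)
include h D

/-- An element of `Q` moving `u` does not normalise the group. -/
theorem not_shift {q : G} (hq : q ∈ Q) (hu : q * L.u * q⁻¹ = L.u * z)
    (hsq : L.t * (q * L.t * q⁻¹) * (L.t * (q * L.t * q⁻¹)) = 1) : False := by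
  have hp : PreCore z Q := h.toPreCore
  obtain ⟨-, hTu⟩ := fixed_t hp L
  obtain ⟨T, hT⟩ : ∃ T : Equiv.Perm (Fin 5), T = (L.F.p L.ht : Equiv.Perm (Fin 5)) := ⟨_, rfl⟩
  rw [← hT] at hTu
  have hti : L.t⁻¹ = L.t := inv_eq_of_mul_eq_one_left L.ht2
  have hne : ∀ q', q' * L.u = L.u * q' → q' * L.u * q'⁻¹ ≠ L.u * z := fun q' e e' => by
    rw [e, mul_inv_cancel_right] at e'
    exact hp.z_ne_one (mul_eq_left.1 e'.symm)
  -- the case of a single involution
  have key : ∀ (q : G) (j : Fin 5), j ≠ L.f → Eqz z q (L.F.a j) →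
      L.t * (q * L.t * q⁻¹) * (L.t * (q * L.t * q⁻¹)) = 1 → False := by
    intro q j hjf e hsq
    have hqQ : q ∈ Q := hp.eqz_mem (L.F.mem j) e
    have hqq : q⁻¹ = q := inv_eq_of_mul_eq_one_left (by rw [hp.eqz_sq (L.F.mem j) e, L.F.sq])
    have e1 : Eqz z (L.t * q * L.t⁻¹) (L.F.a (T j)) :=
      hp.eqz_trans (hp.eqz_conj L.ht e)
        (hT ▸ L.F.act ⟨L.t, Subgroup.mem_centralizer_singleton_iff.2 L.ht⟩ j)
    rw [hti] at e1
    have e2 := hp.eqz_mul (hp.hQC _ (L.F.mem j)) e1 e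
    rw [hqq, show L.t * (q * L.t * q) = L.t * q * L.t * q by group,
      hp.eqz_sq (Q.mul_mem (L.F.mem _) (L.F.mem _)) e2,
      L.F.sq4 hp _ _ (fun e => hjf (hTu j e))] at hsq
    exact hp.z_ne_one hsq
  rcases L.F.cover q hq with e | ⟨i, e⟩ | ⟨i, l, hil, e⟩
  · refine hne q ?_ hu
    rcases e with e | e <;> rw [e]
    · simp
    · rw [one_mul]; exact (hp.hQC _ (L.F.mem _)).symm
  · by_cases hif : i = L.f
    · refine hne q ?_ hu
      rw [hif] at e
      rcases e with e | e <;> rw [e]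
      exact ((Commute.refl L.u).mul_left (hp.hQC _ (L.F.mem _)).symm).eq
    · exact key q i hif e hsq
  · have hq' : L.t * (q * L.u * L.t * (q * L.u)⁻¹) * (L.t * (q * L.u * L.t * (q * L.u)⁻¹)) = 1 := by
      rw [show q * L.u * L.t * (q * L.u)⁻¹ = q * (L.u * L.t * L.u⁻¹) * q⁻¹ by group,
        show L.u * L.t = L.t * L.u from L.htu.symm, mul_inv_cancel_right]
      exact hsq
    by_cases hif : i = L.f
    · refine key (q * L.u) l (fun e' => hil (hif.trans e'.symm)) ?_ hq'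
      have e2 := hp.eqz_mul (hp.hQC _ (L.F.mem L.f)) e (Or.inl rfl : Eqz z L.u (L.F.a L.f))
      refine hp.eqz_trans e2 (Or.inr ?_)
      rw [hif, L.F.nc L.f l (fun e' => hil (hif.trans e'))]
      rw [show L.F.a l * L.F.a L.f * z * L.F.a L.f = L.F.a l * L.F.a L.f * (z * L.F.a L.f) by group,
        ← hp.hQC _ (L.F.mem _), ← mul_assoc, mul_assoc (L.F.a l), L.F.sq, mul_one]
    · by_cases hlf : l = L.f
      · refine key (q * L.u) i hif ?_ hq'
        have e2 := hp.eqz_mul (hp.hQC _ (L.F.mem L.f)) e (Or.inl rfl : Eqz z L.u (L.F.a L.f))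
        rwa [hlf, mul_assoc, L.F.sq, mul_one] at e2
      · refine hne q ?_ hu
        have hc := hp.nc_mul (L.F.mem l) (L.F.nc L.f i (Ne.symm hif)) (L.F.nc L.f l (Ne.symm hlf))
        exact ((hp.eqz_comm (L.F.mem L.f) e).2 hc).symm

/-- A normalising element centralising `z` centralises `u`. -/
theorem fix_u {n : G} {m : Fin 4 → Fin 16} (hn : Act L n m) (hz : n * z = z * n) : m 1 = 2 := by
  have hp : PreCore z Q := h.toPreCore
  obtain ⟨b0, b1, b2, b4, b8⟩ := av_basis L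
  have h0 : m 0 = 1 := av_inj hp L (by
    rw [b1, ← hn 0, show unit4 0 = 1 from rfl, b1, hz, mul_inv_cancel_right])
  have hlt : m 1 < 4 := by
    refine (av_mem_Q hp L).1 ?_
    rw [← hn 1, show unit4 1 = 2 from rfl, b2]
    exact hp.hn n hz _ (L.F.mem _)
  have h2 : ¬ m 2 < 4 := by
    intro hlt2
    have := (av_mem_Q hp L).2 hlt2
    rw [← hn 2, show unit4 2 = 4 from rfl, b4] at this
    have := hp.hn n⁻¹ (show Commute n z from hz).inv_left.eq _ this
    rw [show n⁻¹ * (n * L.t * n⁻¹) * n⁻¹⁻¹ = L.t by group] at this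
    exact L.htQ this
  have h10 : m 1 ≠ 0 ∧ m 1 ≠ 1 := by
    constructor <;> intro e
    · have := hn 1
      rw [e, b0, show unit4 1 = 2 from rfl, b2, conj_eq_one_iff] at this
      exact L.F.ne_one _ this
    · have := hn 1
      rw [e, b1, show unit4 1 = 2 from rfl, b2] at this
      refine L.F.ne_z L.f ?_
      calc L.F.a L.f = n⁻¹ * (n * L.u * n⁻¹) * n := by group
        _ = z := by rw [this, mul_assoc, ← hz, inv_mul_cancel_left]
  rcases (by decide +kernel : ∀ x : Fin 16, x < 4 → x ≠ 0 → x ≠ 1 → x = 2 ∨ x = 3)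
    (m 1) hlt h10.1 h10.2 with e | e1
  · exact e
  exfalso
  -- move `t` back into its coset
  obtain ⟨d, md, hd, hdz, hd1, hd2⟩ : ∃ d md, Act L d md ∧ d * z = z * d ∧
      md 1 = 3 ∧ lin unit4 (md 2) &&& 12 = 4 := by
    have hS := act_s hp L
    rcases (by decide +kernel : ∀ x : Fin 16, ¬ x < 4 → x &&& 12 = 4 ∨
      lin ![1, 2, 8, 12] x &&& 12 = 4 ∨
      lin ![1, 2, 8, 12] (lin ![1, 2, 8, 12] x) &&& 12 = 4) (m 2) h2 with e | e | e
    · exact ⟨n, m, hn, hz, e1, by rw [lin_unit4]; exact e⟩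
    · exact ⟨L.s * n, _, Act.mul hp L hS hn, ((show Commute L.s z from L.hs).mul_left hz).eq,
        by simp only [comp, e1]; rfl, by rw [lin_unit4]; exact e⟩
    · exact ⟨L.s * (L.s * n), _, Act.mul hp L hS (Act.mul hp L hS hn),
        ((show Commute L.s z from L.hs).mul_left
          ((show Commute L.s z from L.hs).mul_left hz)).eq,
        by simp only [comp, e1]; rfl, by rw [lin_unit4]; exact e⟩
  rw [lin_unit4] at hd2
  obtain ⟨hT1, hT2⟩ := L.F.p_invol hp L.ht L.ht2 L.htQ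
  obtain ⟨a1, a2, a3, -, -⟩ := t2_facts hp L
  obtain ⟨hT1', hT2'⟩ := L.F.p_invol hp a1 a2 a3
  have hne : L.F.p a1 ≠ L.F.p L.ht := by
    intro e
    have hm : av L 12 ∈ Q := by
      rw [(av_named hp L).2]
      have htt : L.t * L.t2 * z = z * (L.t * L.t2) :=
        ((show Commute L.t z from L.ht).mul_left a1).eq
      refine (L.F.ker_p hp htt).1 ?_
      calc L.F.p htt = L.F.p L.ht * L.F.p a1 := by
            rw [← map_mul]; exact congrArg L.F.π (Subtype.ext rfl)
        _ = 1 := by rw [e, hT2]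
    exact absurd ((av_mem_Q hp L).1 hm) (by decide)
  have hcom : L.F.p L.ht * L.F.p a1 = L.F.p a1 * L.F.p L.ht := by
    rw [← map_mul, ← map_mul]; exact congrArg L.F.π (Subtype.ext (t_rel hp L).1)
  have hdT : L.F.p hdz * L.F.p L.ht = L.F.p L.ht * L.F.p hdz := by
    obtain ⟨e, he, hme⟩ := (by decide +kernel : ∀ x : Fin 16, x &&& 12 = 4 →
      ∃ e : Fin 16, e < 4 ∧ x = e ^^^ 4) (md 2) hd2
    have heQ := (av_mem_Q hp L).2 he
    have e3 := hd 2
    rw [show unit4 2 = 4 from rfl, b4, hme, av_xor hp, b4] at e3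
    calc L.F.p hdz * L.F.p L.ht = L.F.p (hp.hQC _ heQ) * L.F.p L.ht * L.F.p hdz := by
          rw [← map_mul, ← map_mul, ← map_mul]
          refine congrArg L.F.π (Subtype.ext ?_)
          show d * L.t = av L e * L.t * d
          rw [← e3, inv_mul_cancel_right]
      _ = L.F.p L.ht * L.F.p hdz := by rw [(L.F.ker_p hp _).2 heQ, one_mul]
  obtain ⟨y, hy⟩ : ∃ y : Fin 16, L.F.p hdz = L.F.p (av_cent hp L y).1 := by
    rcases Alt.inv_four _ hT1 hT2 _ hT1' hT2' hne hcom _ hdT with e | e | e | e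
    · exact ⟨0, e.trans ((map_one L.F.π).symm.trans (congrArg L.F.π (Subtype.ext b0.symm)))⟩
    · exact ⟨4, e.trans (congrArg L.F.π (Subtype.ext b4.symm))⟩
    · exact ⟨8, e.trans (congrArg L.F.π (Subtype.ext b8.symm))⟩
    · refine ⟨12, e.trans ?_⟩
      rw [← map_mul]
      exact congrArg L.F.π (Subtype.ext (av_named hp L).2.symm)
  obtain ⟨q, hqdef⟩ : ∃ q, q = av L y * d := ⟨_, rfl⟩
  have hqz : q * z = z * q :=
    hqdef ▸ ((show Commute (av L y) z from (av_cent hp L y).1).mul_left hdz).eq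
  have hq : q ∈ Q := by
    refine (L.F.ker_p hp hqz).1 ?_
    calc L.F.p hqz = L.F.p (av_cent hp L y).1 * L.F.p hdz := by
          rw [← map_mul]; exact congrArg L.F.π (Subtype.ext hqdef)
      _ = 1 := by
          rw [hy, ← map_mul, ← map_one L.F.π]
          exact congrArg L.F.π (Subtype.ext (av_sq hp L y))
  have hqact : Act L q md := by
    have := Act.mul hp L (act_av hp L y) hd
    rw [show comp unit4 md = md from funext fun k => lin_unit4 _] at this
    exact hqdef ▸ this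
  refine not_shift h L D hq ?_ ?_
  · rw [← b2, show (2 : Fin 16) = unit4 1 from rfl, hqact 1, hd1, show unit4 1 = 2 from rfl, b2]
    exact (av_named hp L).1
  · rw [← b4, show q * av L 4 * q⁻¹ = av L (md 2) from hqact 2, ← av_xor hp, av_sq hp]

/-- An element normalising the group and interchanging `z` and `t`. -/
theorem exists_g : ∃ g : G, Act L g ![4, 8, 1, 2] := by
  classical
  have hp : PreCore z Q := h.toPreCore
  obtain ⟨b0, b1, b2, b4, b8⟩ := av_basis L
  have ht1 : L.t ≠ 1 := fun e => L.htQ (e ▸ Q.one_mem)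
  obtain ⟨g0, hg0⟩ := isConj_iff.1 (h.conj_of ht1 L.ht2)
  -- a member of the group outside the conjugate of `Q`
  have hz0 : ∀ y, g0⁻¹ * av L y * g0 * z = z * (g0⁻¹ * av L y * g0) := fun y => by
    calc g0⁻¹ * av L y * g0 * z = g0⁻¹ * (av L y * (g0 * z * g0⁻¹)) * g0 := by group
      _ = z * (g0⁻¹ * av L y * g0) := by rw [hg0, (av_cent hp L y).2, ← hg0]; group
  have hsq0 : ∀ y, g0⁻¹ * av L y * g0 * (g0⁻¹ * av L y * g0) = 1 := fun y => by
    rw [show g0⁻¹ * av L y * g0 * (g0⁻¹ * av L y * g0) = g0⁻¹ * (av L y * av L y) * g0 by group,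
      av_sq hp]
    group
  have hinj0 : Function.Injective fun y => g0⁻¹ * av L y * g0 := fun a b e =>
    av_inj hp L (mul_left_cancel (mul_right_cancel e))
  obtain ⟨y, hy⟩ : ∃ y, g0⁻¹ * av L y * g0 ∉ Q := by
    by_contra! hall
    obtain ⟨y₀, hy₀, i, hi⟩ : ∃ y₀, g0⁻¹ * av L y₀ * g0 ≠ z ∧ ∃ i,
        Eqz z (g0⁻¹ * av L y₀ * g0) (L.F.a i) := by
      obtain ⟨y₀, h1, h2⟩ : ∃ y₀, g0⁻¹ * av L y₀ * g0 ≠ 1 ∧ g0⁻¹ * av L y₀ * g0 ≠ z := by
        by_contra! hh
        have h3 : ∀ y, y ≠ 0 → g0⁻¹ * av L y * g0 = z := fun y hy =>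
          hh y fun e => hy (hinj0 (e.trans (by simp [b0])))
        exact absurd (hinj0 ((h3 1 (by decide)).trans (h3 2 (by decide)).symm)) (by decide)
      refine ⟨y₀, h2, ?_⟩
      rcases L.F.cover _ (hall y₀) with e | e | ⟨i, l, hil, e⟩
      · rcases e with e | e
        · exact absurd e h1
        · rw [one_mul] at e; exact absurd e h2
      · exact e
      · have := hp.eqz_sq (Q.mul_mem (L.F.mem _) (L.F.mem _)) e
        rw [hsq0, L.F.sq4 hp _ _ hil] at this
        exact absurd this.symm hp.z_ne_one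
    have hmem : ∀ y, g0⁻¹ * av L y * g0 ∈ ({1, z, L.F.a i, L.F.a i * z} : Finset G) := by
      intro y
      have hc : g0⁻¹ * av L y * g0 * (g0⁻¹ * av L y₀ * g0) =
          g0⁻¹ * av L y₀ * g0 * (g0⁻¹ * av L y * g0) := by
        rw [show g0⁻¹ * av L y * g0 * (g0⁻¹ * av L y₀ * g0) = g0⁻¹ * (av L y * av L y₀) * g0 by
          group, av_comm hp]
        group
      rcases h.inE_of_mem L.F i (hall y) (hsq0 y) ((hp.eqz_comm (hall y) hi).1 hc) with
        e | e | e | e <;> simp [e]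
    have := Finset.card_le_card_of_injOn (s := (Finset.univ : Finset (Fin 16)))
      (fun y => g0⁻¹ * av L y * g0) (fun y _ => hmem y) hinj0.injOn
    rw [Finset.card_univ, Fintype.card_fin] at this
    have h4 : ({1, z, L.F.a i, L.F.a i * z} : Finset G).card ≤ 4 :=
      (Finset.card_insert_le _ _).trans (Nat.succ_le_succ ((Finset.card_insert_le _ _).trans
        (Nat.succ_le_succ ((Finset.card_insert_le _ _).trans (by simp)))))
    omega
  obtain ⟨c, hcz, hct⟩ := (L.F.outside_main hp L.ht L.ht2 L.htQ).2.2 _ (hz0 y) (hsq0 y) hy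
  obtain ⟨g1, hg1⟩ : ∃ g1, g1 = g0 * c := ⟨_, rfl⟩
  have hg1z : g1 * z * g1⁻¹ = L.t := by
    rw [hg1, show g0 * c * z * (g0 * c)⁻¹ = g0 * (c * z * c⁻¹) * g0⁻¹ by group, hcz,
      mul_inv_cancel_right, hg0]
  have hback : ∀ x, ∃ x', g1⁻¹ * av L x * g1 = av L x' := by
    intro x
    refine exists_av hp L ?_ ?_
    · calc g1⁻¹ * av L x * g1 * z = g1⁻¹ * (av L x * (g1 * z * g1⁻¹)) * g1 := by group
        _ = z * (g1⁻¹ * av L x * g1) := by rw [hg1z, (av_cent hp L x).2, ← hg1z]; group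
    · have et : L.t = g1⁻¹ * av L y * g1 := by
        rw [hg1, show (g0 * c)⁻¹ * av L y * (g0 * c) = c⁻¹ * (g0⁻¹ * av L y * g0) * c by group,
          ← hct]
        group
      rw [et, show g1⁻¹ * av L x * g1 * (g1⁻¹ * av L y * g1) = g1⁻¹ * (av L x * av L y) * g1 by
        group, av_comm hp]
      group
  choose ρ hρ using hback
  have hρs : Function.Surjective ρ := Finite.surjective_of_injective fun a b e => by
    refine av_inj hp L (mul_left_cancel (a := g1⁻¹) (mul_right_cancel (b := g1) ?_))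
    rw [hρ, hρ, e]
  choose σ hσ using hρs
  have hA1 : Act L g1 fun k => σ (unit4 k) := fun k => by
    conv_lhs => rw [← hσ (unit4 k), ← hρ]
    group
  obtain ⟨m1, hm1⟩ : ∃ m1, m1 = fun k => σ (unit4 k) := ⟨_, rfl⟩
  rw [← hm1] at hA1
  have hm10 : m1 0 = 4 := av_inj hp L (by
    rw [← hA1 0, b4, show unit4 0 = 1 from rfl, b1, hg1z])
  -- the image of `u`
  have hm11 : m1 1 = 8 ∨ m1 1 = 12 := by
    have hfix : lin ![2, 3, 4, 8] (m1 1) = m1 1 := by
      have hn : Act L (g1⁻¹ * L.r * g1) fun k => ρ (lin ![2, 3, 4, 8] (m1 k)) := fun k => by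
        rw [show g1⁻¹ * L.r * g1 * av L (unit4 k) * (g1⁻¹ * L.r * g1)⁻¹ =
          g1⁻¹ * (L.r * (g1 * av L (unit4 k) * g1⁻¹) * L.r⁻¹) * g1 by group, hA1 k,
          Act.conj hp L (act_r hp L), hρ]
      have hz : g1⁻¹ * L.r * g1 * z = z * (g1⁻¹ * L.r * g1) := by
        calc g1⁻¹ * L.r * g1 * z = g1⁻¹ * (L.r * (g1 * z * g1⁻¹)) * g1 := by group
          _ = z * (g1⁻¹ * L.r * g1) := by rw [hg1z, L.hrt, ← hg1z]; group
      have e := fix_u h L D hn hz
      refine av_inj hp L ?_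
      have e2 : av L (ρ (lin ![2, 3, 4, 8] (m1 1))) = av L 2 := congrArg (av L) e
      rw [← hρ, b2] at e2
      rw [← hA1 1, show unit4 1 = 2 from rfl, b2, ← e2]
      group
    have hne : m1 1 ≠ 0 ∧ m1 1 ≠ 4 := by
      constructor <;> intro e <;> have e' := hA1 1 <;>
        rw [e, show unit4 1 = 2 from rfl, b2] at e'
      · rw [b0, conj_eq_one_iff] at e'
        exact L.F.ne_one _ e'
      · rw [b4, ← hg1z] at e'
        exact L.F.ne_z _ (mul_left_cancel (mul_right_cancel e'))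
    exact (by decide +kernel : ∀ x : Fin 16, lin ![2, 3, 4, 8] x = x → x ≠ 0 → x ≠ 4 →
      x = 8 ∨ x = 12) _ hfix hne.1 hne.2
  obtain ⟨y1, hy1⟩ : ∃ y1, lin m1 y1 = 1 := by
    refine ⟨ρ 1, av_inj hp L ?_⟩
    rw [← Act.conj hp L hA1, ← hρ]
    group
  have hy4 : ¬ y1 < 4 := fun hlt => by
    have key : ∀ y : Fin 16, y < 4 → ∀ a b c d : Fin 16, a = 4 → (b = 8 ∨ b = 12) →
        lin ![a, b, c, d] y = 1 → False := by
      intro y hy a b c d ha hb
      have hl : lin ![a, b, c, d] y = lin ![a, b, 0, 0] y := by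
        have : bit y 2 = false ∧ bit y 3 = false :=
          (by decide +kernel : ∀ y : Fin 16, y < 4 → bit y 2 = false ∧ bit y 3 = false) y hy
        simp [lin, this.1, this.2]
      rw [hl, ha]
      exact (by decide +kernel : ∀ y : Fin 16, y < 4 → ∀ b : Fin 16, (b = 8 ∨ b = 12) →
        lin ![4, b, 0, 0] y = 1 → False) y hy b hb
    refine key y1 hlt (m1 0) (m1 1) (m1 2) (m1 3) hm10 hm11 ?_
    rwa [show ![m1 0, m1 1, m1 2, m1 3] = m1 from funext fun k => by fin_cases k <;> rfl]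
  obtain ⟨k, mk, hk, hk0, hk1, hk2⟩ : ∃ k mk, Act L k mk ∧ mk 0 = 1 ∧ mk 1 = 2 ∧ mk 2 = y1 := by
    obtain ⟨x, hx⟩ : ∃ x, x = a * L.t * a := ⟨_, rfl⟩
    have hX : Act L x ![1, 2, 5, 10] := hx ▸ D.act
    have hS := act_s hp L
    have hSS := Act.mul hp L hS hS
    have hX2 := Act.mul hp L (Act.mul hp L hS hX) hSS
    have hd : ∀ y : Fin 16, ¬ y < 4 → ∃ (i : Fin 3) (j : Fin 4),
        comp (![unit4, ![1, 2, 8, 12], comp ![1, 2, 8, 12] ![1, 2, 8, 12]] i)
          (![unit4, ![1, 2, 5, 10],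
            comp (comp ![1, 2, 8, 12] ![1, 2, 5, 10]) (comp ![1, 2, 8, 12] ![1, 2, 8, 12]),
            comp ![1, 2, 5, 10] (comp (comp ![1, 2, 8, 12] ![1, 2, 5, 10])
              (comp ![1, 2, 8, 12] ![1, 2, 8, 12]))] j) 2 = y := by decide +kernel
    obtain ⟨i, j, hij⟩ := hd y1 hy4
    have h1 : Act L (1 : G) unit4 := (Cw.one hp L).2
    have hS' : Act L (![1, L.s, L.s * L.s] i)
        (![unit4, ![1, 2, 8, 12], comp ![1, 2, 8, 12] ![1, 2, 8, 12]] i) := by
      fin_cases i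
      exacts [h1, hS, hSS]
    have hX' : Act L (![1, x, L.s * x * (L.s * L.s), x * (L.s * x * (L.s * L.s))] j)
        (![unit4, ![1, 2, 5, 10],
            comp (comp ![1, 2, 8, 12] ![1, 2, 5, 10]) (comp ![1, 2, 8, 12] ![1, 2, 8, 12]),
            comp ![1, 2, 5, 10] (comp (comp ![1, 2, 8, 12] ![1, 2, 5, 10])
              (comp ![1, 2, 8, 12] ![1, 2, 8, 12]))] j) := by
      fin_cases j
      exacts [h1, hX, hX2, Act.mul hp L hX hX2]
    refine ⟨_, _, Act.mul hp L hS' hX', ?_, ?_, hij⟩ <;>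
      fin_cases i <;> fin_cases j <;> decide +kernel
  have hg2 := Act.mul hp L hA1 hk
  obtain ⟨m, hm⟩ : ∃ m, m = comp m1 mk := ⟨_, rfl⟩
  rw [← hm] at hg2
  have hlin : lin m1 1 = m1 0 ∧ lin m1 2 = m1 1 :=
    ⟨(by decide +kernel : ∀ a : Fin 16, a ^^^ 0 ^^^ 0 ^^^ 0 = a) (m1 0),
      (by decide +kernel : ∀ a : Fin 16, 0 ^^^ a ^^^ 0 ^^^ 0 = a) (m1 1)⟩
  have hb : m = ![4, m 1, 1, m 3] := funext fun i => by
    fin_cases i
    · show m 0 = 4
      rw [hm, comp, hk0, hlin.1, hm10]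
    · rfl
    · show m 2 = 1
      rw [hm, comp, hk2, hy1]
    · rfl
  have h1 : m 1 = 8 ∨ m 1 = 12 := by rw [hm, comp, hk1, hlin.2]; exact hm11
  have hsq : comp m m 0 = 1 → comp m m 2 = 4 → comp m m = unit4 :=
    act_fix hp L (Act.mul hp L hg2 hg2)
  have hM := Act.mul hp L hg2 D.act
  have hcube := act_fix hp L (Act.mul hp L hM (Act.mul hp L hM hM))
  have hfin := (by decide +kernel : ∀ b d : Fin 16, (b = 8 ∨ b = 12) →
    (comp ![4, b, 1, d] ![4, b, 1, d] 0 = 1 → comp ![4, b, 1, d] ![4, b, 1, d] 2 = 4 →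
      comp ![4, b, 1, d] ![4, b, 1, d] = unit4) →
    (comp (comp ![4, b, 1, d] ![1, 2, 5, 10]) (comp (comp ![4, b, 1, d] ![1, 2, 5, 10])
        (comp ![4, b, 1, d] ![1, 2, 5, 10])) 0 = 1 →
      comp (comp ![4, b, 1, d] ![1, 2, 5, 10]) (comp (comp ![4, b, 1, d] ![1, 2, 5, 10])
        (comp ![4, b, 1, d] ![1, 2, 5, 10])) 2 = 4 →
      comp (comp ![4, b, 1, d] ![1, 2, 5, 10]) (comp (comp ![4, b, 1, d] ![1, 2, 5, 10])
        (comp ![4, b, 1, d] ![1, 2, 5, 10])) = unit4) → b = 8 ∧ d = 2)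
    (m 1) (m 3) h1 (by rw [← hb]; exact hsq) (by rw [← hb]; exact hcube)
  refine ⟨g1 * k, ?_⟩
  rw [hb, hfin.1, hfin.2] at hg2
  exact hg2

end CfsgLib.JThree
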