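import Cfsg.Agent.CosetEnum.Index

/-!
# A local checker for completed coset tables

Each entry of the table records the step at which it was derived (`0` for the spanning tree); a
step is a relator read at a coset, all of whose edges but one were derived earlier.  All checks are
local, so that the kernel only ever handles small numbers.
-/

set_option autoImplicit false

namespace CfsgLib.JThree.Enum

open CfsgLib.CosetEnum

/-- Target of an entry. -/
def tg (E : ℕ → ℕ → ℕ) (x i : ℕ) : ℕ := Nat.land (E x i) 65535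

/-- Step of an entry. -/
def rk (E : ℕ → ℕ → ℕ) (x i : ℕ) : ℕ := Nat.shiftRight (E x i) 16

/-- A path of entries derived before step `m`. -/
def okPath (k : ℕ) (E : ℕ → ℕ → ℕ) (m e : ℕ) : List ℕ → ℕ → Bool
  | [], a => Nat.beq a e
  | x :: w, a => force (E x a) fun v =>
      Nat.blt x k && Nat.blt (Nat.shiftRight v 16) m && okPath k E m e w (Nat.land v 65535)

/-- A relator with the new edge at position `j`. -/
def okScan (k : ℕ) (E : ℕ → ℕ → ℕ) (m e gi gx : ℕ) : List ℕ → ℕ → ℕ → Bool
  | [], _, _ => false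
  | x :: w, 0, a => force (E x a) fun v =>
      Nat.blt x k && Nat.beq x gx && Nat.beq a gi && okPath k E m e w (Nat.land v 65535)
  | x :: w, j + 1, a => force (E x a) fun v =>
      Nat.blt x k && Nat.blt (Nat.shiftRight v 16) m &&
        okScan k E m e gi gx w j (Nat.land v 65535)

/-- Start of a step. -/
def sA (s : ℕ) : ℕ := Nat.land s 65535
/-- Relator of a step. -/
def sR (s : ℕ) : ℕ := Nat.land (Nat.shiftRight s 16) 255
/-- Position in a step. -/
def sJ (s : ℕ) : ℕ := Nat.land (Nat.shiftRight s 24) 255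
/-- Node of the new edge. -/
def sN (s : ℕ) : ℕ := Nat.land (Nat.shiftRight s 32) 65535
/-- Letter of the new edge. -/
def sX (s : ℕ) : ℕ := Nat.shiftRight s 48

/-- Check of one step. -/
def stepChk (n k ns : ℕ) (E : ℕ → ℕ → ℕ) (S : ℕ → ℕ) (wd : ℕ → List ℕ) (nR nW m : ℕ) : Bool :=
  bif Nat.blt m ns then
    force (S m) fun s =>
      Nat.blt (sA s) n &&
        (Nat.blt (sR s) nR || (Nat.beq (sA s) 0 && Nat.blt (sR s) nW)) &&
        okScan k E (m + 1) (sA s) (sN s) (sX s) (wd (sR s)) (sJ s) (sA s)
  else true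

/-- A spanning-tree edge. -/
def treeEdge (Par : ℕ → ℕ) (i x b : ℕ) : Bool :=
  force (Par b) fun p =>
    Nat.blt (Nat.shiftRight p 4) b && Nat.beq (Nat.shiftRight p 4) i && Nat.beq (Nat.land p 15) x

/-- Check of one entry. -/
def edgeChk (n k ns : ℕ) (E : ℕ → ℕ → ℕ) (Par S : ℕ → ℕ) (iv : ℕ → ℕ) (i x : ℕ) : Bool :=
  force (E x i) fun v => force (Nat.land v 65535) fun b => force (Nat.shiftRight v 16) fun m =>
    Nat.blt b n && Nat.blt (iv x) k && Nat.beq (tg E (iv x) b) i &&
      (bif Nat.beq m 0 then treeEdge Par i x b || treeEdge Par b (iv x) i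
      else Nat.blt (m - 1) ns && force (S (m - 1)) fun s =>
        (Nat.beq (sN s) i && Nat.beq (sX s) x) || (Nat.beq (sN s) b && Nat.beq (sX s) (iv x)))

/-- Check of all entries at a coset. -/
def rowChk (n k ns : ℕ) (E : ℕ → ℕ → ℕ) (Par S : ℕ → ℕ) (iv : ℕ → ℕ) (i : ℕ) : Bool :=
  bif Nat.blt i n then
    allR (fun x => bif Nat.blt x k then edgeChk n k ns E Par S iv i x else true) 4 0
  else true

noncomputable section

variable {G : Type*} [Group G]

/-- Coset representatives along the tree. -/
def repOf (g : ℕ → G) (Par : ℕ → ℕ) (i : ℕ) : G :=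
  if _h : Nat.shiftRight (Par i) 4 < i then
    repOf g Par (Nat.shiftRight (Par i) 4) * g (Nat.land (Par i) 15)
  else 1
termination_by i

theorem repOf_zero (g : ℕ → G) (Par : ℕ → ℕ) : repOf g Par 0 = 1 := by
  rw [repOf, dif_neg (Nat.not_lt_zero _)]

variable {g : ℕ → G} {H : Subgroup G} {n k ns nR nW : ℕ} {E : ℕ → ℕ → ℕ} {Par S iv : ℕ → ℕ}
  {wd : ℕ → List ℕ}

/-- Meaning of an entry. -/
def Edge (g : ℕ → G) (H : Subgroup G) (E : ℕ → ℕ → ℕ) (Par : ℕ → ℕ) (i x : ℕ) : Prop :=
  repOf g Par i * g x * (repOf g Par (tg E x i))⁻¹ ∈ H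

theorem okPath_sound (hv : ∀ i, i < n → ∀ x, x < k → tg E x i < n) {m e : ℕ}
    (hlow : ∀ i x, i < n → x < k → rk E x i < m → Edge g H E Par i x) :
    ∀ (w : List ℕ) (a : ℕ), a < n → okPath k E m e w a = true →
      repOf g Par a * prodw g w * (repOf g Par e)⁻¹ ∈ H := by
  intro w
  induction w with
  | nil =>
    intro a _ h
    obtain rfl : a = e := Nat.eq_of_beq_eq_true h
    simp [prodw, H.one_mem]
  | cons x w ih =>
    intro a ha h
    rw [okPath, force_eq, Bool.and_eq_true, Bool.and_eq_true, Nat.blt_eq, Nat.blt_eq] at h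
    have := H.mul_mem (hlow a x ha h.1.1 h.1.2) (ih _ (hv a ha x h.1.1) h.2)
    simpa [prodw_cons, mul_assoc, tg] using this

theorem okScan_sound (hv : ∀ i, i < n → ∀ x, x < k → tg E x i < n) {m e gi gx : ℕ}
    (hlow : ∀ i x, i < n → x < k → rk E x i < m → Edge g H E Par i x) :
    ∀ (w : List ℕ) (j a : ℕ), a < n → okScan k E m e gi gx w j a = true →
      repOf g Par a * prodw g w * (repOf g Par e)⁻¹ ∈ H →
      Edge g H E Par gi gx := by
  intro w
  induction w with
  | nil => intro j a _ h; simp [okScan] at h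
  | cons x w ih =>
    intro j a ha h hw
    cases j with
    | zero =>
      rw [okScan, force_eq, Bool.and_eq_true, Bool.and_eq_true, Bool.and_eq_true, Nat.blt_eq,
        Nat.beq_eq, Nat.beq_eq] at h
      obtain ⟨⟨⟨hx, rfl⟩, rfl⟩, hp⟩ := h
      have := H.mul_mem hw (H.inv_mem (okPath_sound hv hlow w _ (hv a ha x hx) hp))
      simpa [prodw_cons, mul_assoc, Edge, tg] using this
    | succ j =>
      rw [okScan, force_eq, Bool.and_eq_true, Bool.and_eq_true, Nat.blt_eq, Nat.blt_eq] at h
      refine ih j _ (hv a ha x h.1.1) h.2 ?_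
      have := H.mul_mem (H.inv_mem (hlow a x ha h.1.1 h.1.2)) hw
      simpa [prodw_cons, mul_assoc, Edge, tg] using this

/-- A checked table bounds the generated subgroup. -/
theorem bound [Finite H] (hk : k ≤ 16) (hn : 0 < n)
    (hiv : ∀ x, x < k → g (iv x) = (g x)⁻¹)
    (hrel : ∀ r, r < nR → prodw g (wd r) = 1) (hsub : ∀ r, r < nW → prodw g (wd r) ∈ H)
    (hrow : ∀ i, i < n → rowChk n k ns E Par S iv i = true)
    (hstep : ∀ m, m < ns → stepChk n k ns E S wd nR nW m = true) :
    Finite (Subgroup.closure (g '' {x | x < k})) ∧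
      Nat.card (Subgroup.closure (g '' {x | x < k})) ≤ n * Nat.card H := by
  have hedge : ∀ i, i < n → ∀ x, x < k → edgeChk n k ns E Par S iv i x = true := by
    intro i hi x hx
    have h := hrow i hi
    rw [rowChk, show Nat.blt i n = true by simpa using hi, cond_true] at h
    have h' := allR_spec 4 0 h x (Nat.zero_le _) (by show x < 0 + 2 ^ 4; omega)
    rw [show Nat.blt x k = true by simpa using hx, cond_true] at h'
    exact h'
  have hv : ∀ i, i < n → ∀ x, x < k → tg E x i < n ∧ iv x < k ∧ tg E (iv x) (tg E x i) = i := by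
    intro i hi x hx
    have h := hedge i hi x hx
    simp only [edgeChk, force_eq, Bool.and_eq_true, Nat.blt_eq, Nat.beq_eq] at h
    exact ⟨h.1.1.1, h.1.1.2, h.1.2⟩
  have hrev : ∀ i x, i < n → x < k → Edge g H E Par (tg E x i) (iv x) → Edge g H E Par i x := by
    intro i x hi hx he
    obtain ⟨hb, hxk, hback⟩ := hv i hi x hx
    unfold Edge at he ⊢
    rw [hback, hiv x hx] at he
    simpa [mul_assoc] using H.inv_mem he
  have hall : ∀ m i x, i < n → x < k → rk E x i = m → Edge g H E Par i x := by
    intro m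
    induction m using Nat.strong_induction_on with
    | _ m ih =>
      intro i x hi hx hm
      obtain ⟨hb, hxk, hback⟩ := hv i hi x hx
      have h := hedge i hi x hx
      simp only [edgeChk, force_eq, Bool.and_eq_true] at h
      have h' := h.2
      rw [show Nat.shiftRight (E x i) 16 = m from hm] at h'
      rcases Nat.eq_zero_or_pos m with rfl | hpos
      · have htree : ∀ a y b, treeEdge Par a y b = true →
            repOf g Par a * g y * (repOf g Par b)⁻¹ ∈ H := by
          intro a y b ht
          simp only [treeEdge, force_eq, Bool.and_eq_true, Nat.blt_eq, Nat.beq_eq] at ht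
          obtain ⟨⟨hlt, rfl⟩, rfl⟩ := ht
          have e : repOf g Par b = repOf g Par (Nat.shiftRight (Par b) 4) *
              g (Nat.land (Par b) 15) := by rw [repOf, dif_pos hlt]
          rw [← e, mul_inv_cancel]
          exact H.one_mem
        simp only [Nat.beq_refl, cond_true, Bool.or_eq_true] at h'
        rcases h' with h' | h'
        · exact htree _ _ _ h'
        · refine hrev i x hi hx ?_
          show repOf g Par (tg E x i) * g (iv x) * (repOf g Par (tg E (iv x) (tg E x i)))⁻¹ ∈ H
          rw [hback]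
          exact htree _ _ _ h'
      · rw [show Nat.beq m 0 = false from by
          cases hh : Nat.beq m 0
          · rfl
          · rw [Nat.beq_eq] at hh; omega] at h'
        simp only [cond_false, force_eq, Bool.and_eq_true, Bool.or_eq_true, Nat.blt_eq,
          Nat.beq_eq] at h'
        obtain ⟨hms, hmatch⟩ := h'
        have hs := hstep (m - 1) hms
        rw [stepChk, show Nat.blt (m - 1) ns = true by simpa using hms, cond_true, force_eq,
          Bool.and_eq_true, Bool.and_eq_true, Bool.or_eq_true, Bool.and_eq_true, Nat.blt_eq,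
          Nat.blt_eq, Nat.beq_eq, Nat.blt_eq, show m - 1 + 1 = m by omega] at hs
        obtain ⟨⟨ha, hr⟩, hsc⟩ := hs
        have hw : repOf g Par (sA (S (m - 1))) * prodw g (wd (sR (S (m - 1)))) *
            (repOf g Par (sA (S (m - 1))))⁻¹ ∈ H := by
          rcases hr with hr | ⟨h0, hr⟩
          · simp [hrel _ hr, H.one_mem]
          · rw [h0, repOf_zero]
            simpa using hsub _ hr
        have he := okScan_sound (fun i hi x hx => (hv i hi x hx).1)
          (fun i x hi hx hlt => ih _ hlt i x hi hx rfl) _ _ _ ha hsc hw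
        rcases hmatch with ⟨e1, e2⟩ | ⟨e1, e2⟩ <;> rw [e1, e2] at he
        · exact he
        · exact hrev i x hi hx he
  have claim : ∀ y ∈ Subgroup.closure (g '' {x | x < k}), ∀ i, i < n →
      ∃ j, j < n ∧ repOf g Par i * y * (repOf g Par j)⁻¹ ∈ H := by
    intro y hy
    induction hy using Subgroup.closure_induction'' with
    | mem y hy =>
      obtain ⟨x, hx, rfl⟩ := hy
      exact fun i hi => ⟨_, (hv i hi x hx).1, hall _ i x hi hx rfl⟩
    | inv_mem y hy =>
      obtain ⟨x, hx, rfl⟩ := hy
      intro i hi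
      have hxk := (hv i hi x hx).2.1
      rw [← hiv x hx]
      exact ⟨_, (hv i hi _ hxk).1, hall _ i _ hi hxk rfl⟩
    | one => exact fun i hi => ⟨i, hi, by simp [H.one_mem]⟩
    | mul y z _ _ h1 h2 =>
      intro i hi
      obtain ⟨j, hj, hyj⟩ := h1 i hi
      obtain ⟨l, hl, hzl⟩ := h2 j hj
      refine ⟨l, hl, ?_⟩
      simpa [mul_assoc] using H.mul_mem hyj hzl
  let f : Fin n × H → G := fun p => (p.2 : G) * repOf g Par p.1
  have hsub' : ((Subgroup.closure (g '' {x | x < k})) : Set G) ⊆ Set.range f := by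
    intro y hy
    obtain ⟨j, hj, hyj⟩ := claim y hy 0 hn
    rw [repOf_zero, one_mul] at hyj
    exact ⟨(⟨j, hj⟩, ⟨_, hyj⟩), inv_mul_cancel_right y (repOf g Par j)⟩
  refine ⟨((Set.finite_range f).subset hsub').to_subtype, ?_⟩
  calc Nat.card (Subgroup.closure (g '' {x | x < k}))
      ≤ Nat.card (Set.range f) := Nat.card_mono (Set.finite_range f) hsub'
    _ ≤ Nat.card (Fin n × H) := Finite.card_range_le f
    _ = n * Nat.card H := by rw [Nat.card_prod, Nat.card_fin]

end

end CfsgLib.JThree.Enum
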