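import Cfsg.Agent.HallJanko.Simple
import Cfsg.Agent.HallJanko.Recognition
import Cfsg.Agent.ZStar.Theorem
import Mathlib.GroupTheory.SpecificGroups.Alternating.Simple
import Cfsg.Prelude.Def_SporadicB
import Cfsg.Prelude.Def_Sporadic

/-!
# Reduction of the centraliser hypothesis of Janko's second and third groups

In a finite simple group an extraspecial normal subgroup `E` of order 32 of an involution
centraliser `C` with `C/E ≅ A₅` contains its centraliser in `C`: otherwise `C = E C_C(E)`, every
2-subgroup of `C` has commutators in `⟨t⟩`, and `t` would be isolated, hence central.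
-/

set_option autoImplicit false
set_option linter.style.haveILetI false

namespace CfsgLib.JThree

open scoped commutatorElement

/-- The 2-subgroups of the alternating group of degree 5 are abelian. -/
theorem alt_five_comm (A : Subgroup (alternatingGroup (Fin 5))) (hA : IsPGroup 2 A) :
    ∀ a b : A, a * b = b * a := by
  haveI := Fact.mk Nat.prime_two
  obtain ⟨n, hn⟩ := hA.exists_card_eq
  have hd : 2 ^ n ∣ 60 := by
    rw [← hn]
    refine (Subgroup.card_subgroup_dvd_card A).trans ?_
    rw [nat_card_alternatingGroup, Nat.card_fin]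
    rfl
  have hn2 : n ≤ 2 := by
    by_contra! hlt
    exact absurd ((Nat.pow_dvd_pow 2 hlt).trans hd) (by norm_num)
  interval_cases n
  · haveI : Subsingleton A := (Nat.card_eq_one_iff_unique.1 (by simpa using hn)).1
    exact fun a b => Subsingleton.elim _ _
  · haveI : IsCyclic A := isCyclic_of_prime_card (p := 2) (by simpa using hn)
    exact fun a b => IsMulCommutative.is_comm.comm a b
  · exact IsPGroup.commutative_of_card_eq_prime_sq hn

section Signs

variable {C : Type*} [Group C] {t : C}

/-- Two elements with the same sign with respect to `y` have a product commuting with `y`. -/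
theorem sign_mul (ht : ∀ c : C, c * t = t * c) (htt : t * t = 1) {a b y : C}
    (ha : a * y = y * a * t) (hb : b * y = y * b * t) : a * b * y = y * (a * b) := by
  calc a * b * y = a * y * (b * t) := by rw [mul_assoc, hb]; group
    _ = y * a * (t * b) * t := by rw [ha]; group
    _ = y * (a * b) * (t * t) := by rw [← ht b]; group
    _ = y * (a * b) := by rw [htt, mul_one]

/-- In an extraspecial group of order 32 the centraliser of an element acting by signs is not
abelian. -/
theorem exists_noncomm [Finite C] {E : Subgroup C}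
    (hE : Nat.card E = 32) (ht : ∀ c : C, c * t = t * c) (htt : t * t = 1)
    (hcen : ∀ q ∈ E, (∀ p ∈ E, q * p = p * q) → q = 1 ∨ q = t)
    (hcomm : ∀ a ∈ E, ∀ b ∈ E, a * b = b * a ∨ a * b = b * a * t)
    {x : C} (hx : ∀ a ∈ E, a * x = x * a ∨ a * x = x * a * t) :
    ∃ a ∈ E, ∃ b ∈ E, a * x = x * a ∧ b * x = x * b ∧ a * b ≠ b * a := by
  classical
  haveI := Fintype.ofFinite C
  by_contra! hne
  obtain ⟨y, hy, hy'⟩ : ∃ y ∈ E, ∀ p ∈ E, p * x = x * p ∨ p * y * x = x * (p * y) := by
    by_cases h : ∀ p ∈ E, p * x = x * p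
    · exact ⟨1, E.one_mem, fun p hp => Or.inl (h p hp)⟩
    · push Not at h
      obtain ⟨y, hy, hyx⟩ := h
      refine ⟨y, hy, fun p hp => (hx p hp).imp_right fun e => ?_⟩
      exact sign_mul ht htt e ((hx y hy).resolve_left hyx)
  have hcentral : ∀ m ∈ E, m * x = x * m → m * y = y * m → m = 1 ∨ m = t := by
    intro m hm hmx hmy
    refine hcen m hm fun p hp => ?_
    rcases hy' p hp with e | e
    · exact hne m hm p hp hmx e
    · have h1 : Commute m (p * y) := hne m hm (p * y) (E.mul_mem hp hy) hmx e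
      have h2 := h1.mul_right (show Commute m y from hmy).inv_right
      rwa [mul_inv_cancel_right] at h2
  let σ : E → Bool × Bool := fun a =>
    (decide ((a : C) * x = x * a), decide ((a : C) * y = y * a))
  have hfib : ∀ a : Bool × Bool, a ∈ Finset.univ.image σ →
      (Finset.univ.filter fun b => σ b = a).card ≤ 2 := by
    intro _ hab
    obtain ⟨a, -, rfl⟩ := Finset.mem_image.1 hab
    have hsub : ∀ b : E, σ b = σ a → (b : C) = (a : C)⁻¹ ∨ (b : C) = (a : C)⁻¹ * t := by
      intro b hb
      simp only [σ, Prod.mk.injEq, decide_eq_decide] at hb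
      have hp : ∀ z : C, (∀ p ∈ E, p * z = z * p ∨ p * z = z * p * t) →
          ((b : C) * z = z * b ↔ (a : C) * z = z * a) → (a : C) * b * z = z * (a * b) := by
        intro z hz hiff
        by_cases h : (a : C) * z = z * a
        · exact ((show Commute (a : C) z from h).mul_left (hiff.2 h)).eq
        · exact sign_mul ht htt ((hz a a.2).resolve_left h)
            ((hz b b.2).resolve_left fun e => h (hiff.1 e))
      rcases hcentral _ (E.mul_mem a.2 b.2) (hp x hx hb.1)
        (hp y (fun p hp' => hcomm p hp' y hy) hb.2) with e | e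
      · exact Or.inl (eq_inv_of_mul_eq_one_right e)
      · exact Or.inr (eq_inv_mul_of_mul_eq e)
    refine (Finset.card_le_card_of_injOn (fun b : E => (b : C))
      (t := {(a : C)⁻¹, (a : C)⁻¹ * t}) ?_ Subtype.val_injective.injOn).trans Finset.card_le_two
    intro b hb
    simpa using hsub b (by simpa using hb)
  have h32 := Finset.card_le_mul_card_image (Finset.univ : Finset E) 2 hfib
  have h4 : (Finset.univ.image σ).card ≤ 4 := (Finset.card_le_univ _).trans (by simp)
  rw [Finset.card_univ, ← Nat.card_eq_fintype_card, hE] at h32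
  omega

end Signs

variable {G : Type*} [Group G] [Finite G] [IsSimpleGroup G] (t : G) (ht : orderOf t = 2)
  (E : Subgroup (Subgroup.centralizer ({t} : Set G))) [E.Normal]
  (hE : Nat.card E = 32) (hX : Cfsg.IsExtraspecial 2 E)
  (e : (Subgroup.centralizer ({t} : Set G)) ⧸ E ≃* alternatingGroup (Fin 5))

include ht hE hX e

/-- The kernel of the action on `A₅` contains the centraliser of `E`. -/
theorem centralizer_le : Subgroup.centralizer (E : Set (Subgroup.centralizer ({t} : Set G))) ≤ E := by
  classical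
  haveI := Fact.mk Nat.prime_two
  have hmem : ∀ {g : G}, g ∈ (Subgroup.centralizer ({t} : Set G)) ↔ g * t = t * g := Subgroup.mem_centralizer_singleton_iff
  let t' : (Subgroup.centralizer ({t} : Set G)) := ⟨t, hmem.2 rfl⟩
  have htc : ∀ c : (Subgroup.centralizer ({t} : Set G)), c * t' = t' * c := fun c => Subtype.ext (hmem.1 c.2)
  have ht2 : t * t = 1 := by rw [← pow_two, ← ht, pow_orderOf_eq_one]
  have ht1 : t ≠ 1 := fun h => by rw [h, orderOf_one] at ht; norm_num at ht
  have htt : t' * t' = 1 := Subtype.ext ht2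
  let f : (Subgroup.centralizer ({t} : Set G)) →* alternatingGroup (Fin 5) := e.toMonoidHom.comp (QuotientGroup.mk' E)
  have hf : Function.Surjective f := e.surjective.comp (QuotientGroup.mk'_surjective E)
  have hker : ∀ {c : (Subgroup.centralizer ({t} : Set G))}, f c = 1 ↔ c ∈ E := fun {c} => by
    show e (QuotientGroup.mk' E c) = 1 ↔ _
    rw [MulEquiv.map_eq_one_iff, QuotientGroup.mk'_apply, QuotientGroup.eq_one_iff]
  have htE : t' ∈ E := by
    refine hker.1 ?_
    have hz : f t' ∈ Subgroup.center (alternatingGroup (Fin 5)) :=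
      Subgroup.mem_center_iff.2 fun a => by
        obtain ⟨c, rfl⟩ := hf a
        rw [← map_mul, ← map_mul, htc]
    rwa [alternatingGroup.center_eq_bot (by simp), Subgroup.mem_bot] at hz
  have hcen : ∀ q ∈ E, (∀ p ∈ E, q * p = p * q) → q = 1 ∨ q = t' := by
    intro q hq hc
    have hzc : (⟨t', htE⟩ : E) ∈ Subgroup.center E :=
      Subgroup.mem_center_iff.2 fun p => Subtype.ext (htc p)
    have hqc : (⟨q, hq⟩ : E) ∈ Subgroup.center E :=
      Subgroup.mem_center_iff.2 fun p => Subtype.ext (hc p p.2).symm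
    obtain ⟨w, -, huniq⟩ := (Nat.card_eq_two_iff' (1 : Subgroup.center E)).1 hX.2
    by_cases h1 : (⟨_, hqc⟩ : Subgroup.center E) = 1
    · exact Or.inl (congrArg (fun v : Subgroup.center E => ((v : E) : (Subgroup.centralizer ({t} : Set G)))) h1)
    · exact Or.inr (congrArg (fun v : Subgroup.center E => ((v : E) : (Subgroup.centralizer ({t} : Set G))))
        ((huniq _ h1).trans (huniq ⟨_, hzc⟩ fun e' => ht1
          (congrArg (fun v : Subgroup.center E => (((v : E) : (Subgroup.centralizer ({t} : Set G))) : G)) e')).symm))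
  have hcomm : ∀ a ∈ E, ∀ b ∈ E, a * b = b * a ∨ a * b = b * a * t' := by
    intro a ha b hb
    have h := CfsgLib.ExtraspecialBasic.commutator_mem_center hX (⟨a, ha⟩ : E) ⟨b, hb⟩
    rw [Subgroup.mem_center_iff] at h
    have hmE : a * b * a⁻¹ * b⁻¹ ∈ E :=
      E.mul_mem (E.mul_mem (E.mul_mem ha hb) (E.inv_mem ha)) (E.inv_mem hb)
    have hc := hcen _ hmE fun p hp => by
      have := congrArg (fun v : E => (v : (Subgroup.centralizer ({t} : Set G)))) (h ⟨p, hp⟩)
      simp only [commutatorElement_def, Subgroup.coe_mul, Subgroup.coe_inv] at this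
      exact this.symm
    rcases hc with hc | hc
    · left
      calc a * b = a * b * a⁻¹ * b⁻¹ * (b * a) := by group
        _ = b * a := by rw [hc, one_mul]
    · right
      calc a * b = a * b * a⁻¹ * b⁻¹ * (b * a) := by group
        _ = b * a * t' := by rw [hc, htc]
  by_contra hle
  obtain ⟨c₀, hc₀, hc₀E⟩ := Set.not_subset.1 hle
  let K := Subgroup.centralizer (E : Set (Subgroup.centralizer ({t} : Set G)))
  have hKE : ∀ {k : (Subgroup.centralizer ({t} : Set G))}, k ∈ K → ∀ q ∈ E, q * k = k * q :=
    fun hk q hq => Subgroup.mem_centralizer_iff.1 hk q hq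
  have htop : K.map f = ⊤ := by
    haveI : (K.map f).Normal := Subgroup.Normal.map (Subgroup.normal_centralizer : K.Normal) f hf
    refine (IsSimpleGroup.eq_bot_or_eq_top_of_normal (K.map f) inferInstance).resolve_left
      fun hb => hc₀E (hker.1 ?_)
    have := Subgroup.mem_map_of_mem f hc₀
    rwa [hb, Subgroup.mem_bot] at this
  have hdec : ∀ a : (Subgroup.centralizer ({t} : Set G)), ∃ q ∈ E, ∃ k ∈ K, a = q * k ∧ f k = f a := by
    intro a
    obtain ⟨k, hk, hfk⟩ : f a ∈ K.map f := htop ▸ Subgroup.mem_top _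
    exact ⟨a * k⁻¹, hker.1 (by rw [map_mul, map_inv, hfk, mul_inv_cancel]), k, hk,
      (inv_mul_cancel_right a k).symm, hfk⟩
  -- the commutators of a 2-subgroup lie in `⟨t⟩`
  have hS : ∀ S : Subgroup (Subgroup.centralizer ({t} : Set G)), IsPGroup 2 S → ∀ a ∈ S, ∀ b ∈ S,
      a * b = b * a ∨ a * b = b * a * t' := by
    intro S hS a ha b hb
    obtain ⟨q, hq, k, hk, rfl, hfk⟩ := hdec a
    obtain ⟨p, hp, l, hl, rfl, hfl⟩ := hdec b
    have hab := congrArg Subtype.val (alt_five_comm (S.map f) (hS.map f)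
      ⟨_, Subgroup.mem_map_of_mem f ha⟩ ⟨_, Subgroup.mem_map_of_mem f hb⟩)
    simp only [Subgroup.coe_mul] at hab
    rw [← hfk, ← hfl] at hab
    have hE' : k * l * k⁻¹ * l⁻¹ ∈ E := hker.1 (by
      rw [map_mul, map_mul, map_mul, map_inv, map_inv, hab]; group)
    have hkl : k * l * k⁻¹ * l⁻¹ = 1 ∨ k * l * k⁻¹ * l⁻¹ = t' :=
      hcen _ hE' fun r hr => (hKE (K.mul_mem (K.mul_mem (K.mul_mem hk hl) (K.inv_mem hk))
        (K.inv_mem hl)) r hr).symm
    have e1 : q * k * (p * l) = q * p * (k * l) := by
      rw [mul_assoc q, ← mul_assoc k, ← hKE hk p hp, mul_assoc p, ← mul_assoc q]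
    have e2 : p * l * (q * k) = p * q * (l * k) := by
      rw [mul_assoc p, ← mul_assoc l, ← hKE hl q hq, mul_assoc q, ← mul_assoc p]
    have hkl' : k * l = l * k ∨ k * l = l * k * t' := by
      have e3 : k * l = k * l * k⁻¹ * l⁻¹ * (l * k) := by group
      rcases hkl with h | h <;> rw [h] at e3
      · exact Or.inl (by rw [e3, one_mul])
      · exact Or.inr (by rw [e3, ← htc])
    rw [e1, e2]
    rcases hcomm q hq p hp with h1 | h1 <;> rcases hkl' with h2 | h2 <;> rw [h1, h2]
    · exact Or.inl rfl
    · exact Or.inr (mul_assoc _ _ _).symm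
    · refine Or.inr ?_
      rw [mul_assoc (p * q), ← htc (l * k), ← mul_assoc]
    · refine Or.inl ?_
      rw [mul_assoc (p * q), ← mul_assoc t', ← htc (l * k), mul_assoc (l * k), htt, mul_one]
  have hO : ∀ N : Subgroup G, N.Normal → Odd (Nat.card N) → N = ⊥ := fun N hN hodd => by
    refine (IsSimpleGroup.eq_bot_or_eq_top_of_normal N hN).resolve_right fun e' => ?_
    have h2 : 2 ∣ Nat.card N := by
      rw [e', Subgroup.card_top, ← ht]
      exact orderOf_dvd_natCard t
    exact Nat.not_even_iff_odd.2 hodd (even_iff_two_dvd.2 h2)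
  have hiso : Cfsg.IsIsolatedInvolution t := by
    refine ⟨ht, fun g hg => by_contra fun hne => ?_⟩
    have hxC : g * t * g⁻¹ ∈ (Subgroup.centralizer ({t} : Set G)) := hmem.2 hg.eq.symm
    let x : (Subgroup.centralizer ({t} : Set G)) := ⟨g * t * g⁻¹, hxC⟩
    have hxx : x * x = 1 := Subtype.ext (by
      show g * t * g⁻¹ * (g * t * g⁻¹) = 1
      rw [show g * t * g⁻¹ * (g * t * g⁻¹) = g * (t * t) * g⁻¹ by group, ht2, mul_one,
        mul_inv_cancel])
    have hP : IsPGroup 2 E := IsPGroup.of_card (n := 5) hE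
    have hZ : IsPGroup 2 (Subgroup.zpowers x) := by
      refine IsPGroup.of_card_dvd_pow (n := 1) ?_
      rw [Nat.card_zpowers, pow_one]
      exact orderOf_dvd_of_pow_eq_one (by rw [pow_two, hxx])
    have hsup := IsPGroup.to_sup_of_normal_left hP hZ
    have hxs : ∀ a ∈ E, a * x = x * a ∨ a * x = x * a * t' := fun a ha =>
      hS _ hsup a (Subgroup.mem_sup_left ha) x (Subgroup.mem_sup_right (Subgroup.mem_zpowers x))
    obtain ⟨a, ha, b, hb, hax, hbx, hab⟩ := exists_noncomm hE htc htt hcen hcomm hxs
    let A : Subgroup (Subgroup.centralizer ({t} : Set G)) := E ⊓ Subgroup.centralizer {x}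
    have hA : IsPGroup 2 A := hP.to_le inf_le_left
    have haA : a ∈ A := ⟨ha, Subgroup.mem_centralizer_singleton_iff.2 hax⟩
    have hbA : b ∈ A := ⟨hb, Subgroup.mem_centralizer_singleton_iff.2 hbx⟩
    have hAg : ∀ v : A, g⁻¹ * ((v : (Subgroup.centralizer ({t} : Set G))) : G) * g ∈ (Subgroup.centralizer ({t} : Set G)) := fun v => hmem.2 <| by
      have h : ((v : (Subgroup.centralizer ({t} : Set G))) : G) * (g * t * g⁻¹) = g * t * g⁻¹ * ((v : (Subgroup.centralizer ({t} : Set G))) : G) :=
        congrArg Subtype.val (Subgroup.mem_centralizer_singleton_iff.1 v.2.2)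
      calc g⁻¹ * ((v : (Subgroup.centralizer ({t} : Set G))) : G) * g * t = g⁻¹ * (((v : (Subgroup.centralizer ({t} : Set G))) : G) * (g * t * g⁻¹)) * g := by group
        _ = t * (g⁻¹ * ((v : (Subgroup.centralizer ({t} : Set G))) : G) * g) := by rw [h]; group
    let φ : A →* (Subgroup.centralizer ({t} : Set G)) := MonoidHom.mk' (fun v => ⟨_, hAg v⟩) fun u v => Subtype.ext (by
      show g⁻¹ * (((u * v : A) : (Subgroup.centralizer ({t} : Set G))) : G) * g =
        g⁻¹ * ((u : (Subgroup.centralizer ({t} : Set G))) : G) * g * (g⁻¹ * ((v : (Subgroup.centralizer ({t} : Set G))) : G) * g)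
      simp only [Subgroup.coe_mul]
      group)
    have hφ : IsPGroup 2 φ.range := hA.of_surjective φ.rangeRestrict φ.rangeRestrict_surjective
    have hφab := hS φ.range hφ (φ ⟨a, haA⟩) ⟨_, rfl⟩ (φ ⟨b, hbA⟩) ⟨_, rfl⟩
    have hab' : (a : G) * b = b * a * t :=
      congrArg Subtype.val ((hcomm a ha b hb).resolve_left hab)
    rcases hφab with h | h <;> replace h := congrArg Subtype.val h
    · refine hab (Subtype.ext ?_)
      change g⁻¹ * (a : G) * g * (g⁻¹ * (b : G) * g) =
        g⁻¹ * (b : G) * g * (g⁻¹ * (a : G) * g) at h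
      calc (a : G) * b = g * (g⁻¹ * (a : G) * g * (g⁻¹ * (b : G) * g)) * g⁻¹ := by group
        _ = (b : G) * a := by rw [h]; group
    · change g⁻¹ * (a : G) * g * (g⁻¹ * (b : G) * g) =
        g⁻¹ * (b : G) * g * (g⁻¹ * (a : G) * g) * t at h
      refine hne (mul_left_cancel (a := (b : G) * a) ?_)
      calc (b : G) * a * (g * t * g⁻¹)
          = g * (g⁻¹ * (b : G) * g * (g⁻¹ * (a : G) * g) * t) * g⁻¹ := by group
        _ = (a : G) * b := by rw [← h]; group
        _ = (b : G) * a * t := hab'
  have hzc := CfsgLib.ZStar.mem_center_of_isolated hiso hO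
  rcases IsSimpleGroup.eq_bot_or_eq_top_of_normal (Subgroup.center G) inferInstance with h | h
  · rw [h, Subgroup.mem_bot] at hzc
    exact ht1 hzc
  · -- an abelian simple group
    refine hc₀E ?_
    have hall : ∀ u v : (Subgroup.centralizer ({t} : Set G)), u * v = v * u := fun u v => Subtype.ext
      (Subgroup.mem_center_iff.1 (show (v : G) ∈ Subgroup.center G from h.symm ▸ Subgroup.mem_top _) (u : G))
    have hz : f c₀ ∈ Subgroup.center (alternatingGroup (Fin 5)) :=
      Subgroup.mem_center_iff.2 fun a => by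
        obtain ⟨c, rfl⟩ := hf a
        rw [← map_mul, ← map_mul, hall]
    rw [alternatingGroup.center_eq_bot (by simp), Subgroup.mem_bot] at hz
    exact hker.1 hz

/-- The common local hypothesis of the theorems on `J₂` and `J₃`. -/
theorem pre_of_orderTwo :
    CfsgLib.HallJanko.PreCore t (E.map (Subgroup.centralizer ({t} : Set G)).subtype) :=
  CfsgLib.HallJanko.pre_of_hyp t ht E
    (fun _ hc => centralizer_le t ht E hE hX e (Subgroup.mem_centralizer_iff.2 hc)) hX hE e

omit ht in
theorem pre_of_twoCentral (ht : Cfsg.IsTwoCentralInvolution t) :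
    CfsgLib.HallJanko.PreCore t (E.map (Subgroup.centralizer ({t} : Set G)).subtype) :=
  pre_of_orderTwo t ht.1 E hE hX e

/-- With two classes of involutions the group has order `604800`. -/
theorem card_two_classes (hcl : ∃ x y : G, orderOf x = 2 ∧ orderOf y = 2 ∧ ¬ IsConj x y) :
    Nat.card G = 604800 := by
  have h := CfsgLib.HallJanko.core_of_simple t ht E hX hE (centralizer_le t ht E hE hX e) e hcl
  obtain ⟨L⟩ := h.exists_locdata
  obtain ⟨X0, c⟩ := L.exists_comp h
  exact (L.main h c).1

/-- Either the group has order `604800` or all its involutions are conjugate. -/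
theorem isJ2_or_one :
    Cfsg.IsJ2 G ∨ ∀ x y : G, orderOf x = 2 → orderOf y = 2 → IsConj x y := by
  by_cases h : ∀ x y : G, orderOf x = 2 → orderOf y = 2 → IsConj x y
  · exact Or.inr h
  · push Not at h
    obtain ⟨x, y, hx, hy, hn⟩ := h
    exact Or.inl ⟨inferInstance, card_two_classes t ht E hE hX e ⟨x, y, hx, hy, hn⟩⟩

omit [IsSimpleGroup G] hE hX e in
/-- With one class of involutions every involution is 2-central. -/
theorem isTwoCentral_of_one (hone : ∀ x y : G, orderOf x = 2 → orderOf y = 2 → IsConj x y) :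
    Cfsg.IsTwoCentralInvolution t := by
  haveI := Fact.mk Nat.prime_two
  obtain ⟨P⟩ := (inferInstance : Nonempty (Sylow 2 G))
  haveI : Nontrivial (P : Subgroup G) := by
    rw [← Finite.one_lt_card_iff_nontrivial, P.card_eq_multiplicity]
    refine Nat.one_lt_pow ?_ (by norm_num)
    exact (Nat.Prime.factorization_pos_of_dvd Nat.prime_two Nat.card_pos.ne'
      (ht ▸ orderOf_dvd_natCard t)).ne'
  haveI := P.2.center_nontrivial
  obtain ⟨n, hn⟩ := (P.2.to_subgroup (Subgroup.center (P : Subgroup G))).exists_card_eq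
  have h2 : 2 ∣ Nat.card (Subgroup.center (P : Subgroup G)) := by
    have := Finite.one_lt_card (α := Subgroup.center (P : Subgroup G))
    rw [hn] at this ⊢
    exact dvd_pow_self 2 fun h0 => by rw [h0] at this; norm_num at this
  obtain ⟨z, hz⟩ := exists_prime_orderOf_dvd_card' 2 h2
  have hzo : orderOf ((z : (P : Subgroup G)) : G) = 2 := by
    rw [Subgroup.orderOf_coe, Subgroup.orderOf_coe, hz]
  obtain ⟨g, hg⟩ := isConj_iff.1 (hone _ t hzo ht)
  refine ⟨ht, g • P, ?_, fun x hx => ?_⟩
  · rw [← hg]
    exact Subgroup.smul_mem_pointwise_smul _ (MulAut.conj g) (P : Subgroup G) (z : (P : Subgroup G)).2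
  · obtain ⟨w, hw, rfl⟩ := Subgroup.mem_smul_pointwise_iff_exists _ (MulAut.conj g) (P : Subgroup G) |>.1 hx
    have hc := congrArg Subtype.val (Subgroup.mem_center_iff.1 z.2 ⟨w, hw⟩)
    simp only [Subgroup.coe_mul] at hc
    rw [← hg]
    show g * w * g⁻¹ * (g * ((z : (P : Subgroup G)) : G) * g⁻¹) =
      g * ((z : (P : Subgroup G)) : G) * g⁻¹ * (g * w * g⁻¹)
    calc _ = g * (w * ((z : (P : Subgroup G)) : G)) * g⁻¹ := by group
      _ = _ := by rw [hc]; group

end CfsgLib.JThree
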