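import Mathlib.Algebra.Group.Basic

/-!
# Local relations in a group of `J₃` type

`u, z` span a four-group of `Q`, `a ∈ Q`, `s` has order 3 and centralises `z, u, y, a`, the involution
`t` lies outside `Q`, `g` normalises the elementary abelian group `⟨z, u, t, s⁻¹ts⟩` and `b`
centralises `z`; the last relation expresses `y` through `u, z, a, g`.
-/

set_option autoImplicit false

namespace CfsgLib.JThree

/-- The local relations. -/
structure Gen {G : Type*} [Group G] (u z y a s t g b : G) : Prop where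
  uu : u * u = 1
  zz : z * z = 1
  yy : y * y = 1
  aa : a * a = 1
  tt : t * t = 1
  gg : g * g = 1
  bb : b * b = 1
  sss : s ^ 3 = 1
  uy : (u * y) ^ 5 = 1
  zy : (z * y) ^ 3 = 1
  uzy : (u * z * y) ^ 5 = 1
  uz : (u * z) ^ 2 = 1
  za : (z * a) ^ 2 = 1
  uau : u * a * u * a * z = 1
  ya : (y * a) ^ 3 = 1
  uyzay : (u * y * z * a * y) ^ 3 = 1
  w4 : (u * z * y * a) ^ 4 = 1
  su : s * u * s⁻¹ * u = 1
  sz : s * z * s⁻¹ * z = 1
  sy : s * y * s⁻¹ * y = 1
  sa : s * a * s⁻¹ * a = 1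
  tu : (t * u) ^ 2 = 1
  tz : (t * z) ^ 2 = 1
  ta : (t * a) ^ 4 * z = 1
  st : (s * t) ^ 3 = 1
  tt2 : (t * s⁻¹ * t * s) ^ 2 = 1
  rt : z * y * u * z * y * u * y * s * s * t * s⁻¹ * s⁻¹ * y * u * y * z * u * y * z * t = 1
  gz : g * z * g * t = 1
  gu : g * u * g * s⁻¹ * t * s * t = 1
  gs : g * s * g * z * y * u * z * y * u * y * s * s = 1
  gx : (g * a * t * a) ^ 3 = 1
  bs : (b * s) ^ 2 = 1
  bu : b * u * b * a = 1
  bz : (b * z) ^ 2 = 1
  yb : b * y * b * z * y * a * y * u * y * u = 1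
  bt : (b * t) ^ 3 * z = 1
  xt2 : s⁻¹ * t * s * a * t * a * s⁻¹ * t * s * a * t * a * u * z = 1
  yv : (y * s⁻¹ * t * s * g * a * t * a * g) ^ 2 = 1
  yg : y * u * g * z * a * g * a * z * g * u = 1

end CfsgLib.JThree
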