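import Cfsg.Agent.JThree.Rels
import Cfsg.Agent.JThree.EnumLowData
import Cfsg.Agent.JThree.EnumTopCheckA
import Cfsg.Agent.JThree.EnumTopCheckB
import Cfsg.Agent.JThree.EnumTopCheckC
import Cfsg.Agent.JThree.EnumTopCheckD
import Cfsg.Agent.HallJanko.Generators

/-!
# The order of a group generated by elements satisfying the local relations

The four involutions generate a group of order at most 360, of index at most 6 in the one generated
with `s` and `b`, which has index at most 23256 in the whole.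
-/

set_option autoImplicit false
set_option linter.style.haveILetI false
set_option maxRecDepth 100000
set_option maxHeartbeats 1000000

namespace CfsgLib.JThree.Enum

open CfsgLib.CosetEnum

theorem all_of_blocks {f : ℕ → Bool} {d B : ℕ} (h : ∀ j, j < B → allR f d (j * 2 ^ d) = true) :
    ∀ m, m < B * 2 ^ d → f m = true := by
  intro m hm
  have hd : 0 < 2 ^ d := Nat.two_pow_pos d
  refine allR_spec d _ (h (m / 2 ^ d) (Nat.div_lt_iff_lt_mul hd |>.2 hm)) m (Nat.div_mul_le_self _ _) ?_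
  exact Nat.lt_div_mul_add hd

def loList : List (List ℕ) := [[4, 4, 4], [0, 2, 0, 2, 0, 2, 0, 2, 0, 2], [1, 2, 1, 2, 1, 2], [0, 1, 2, 0, 1, 2, 0, 1, 2, 0, 1, 2, 0, 1, 2], [0, 1, 0, 1], [1, 3, 1, 3], [0, 3, 0, 3, 1], [2, 3, 2, 3, 2, 3], [0, 2, 1, 3, 2, 0, 2, 1, 3, 2, 0, 2, 1, 3, 2], [0, 1, 2, 3, 0, 1, 2, 3, 0, 1, 2, 3, 0, 1, 2, 3], [4, 0, 5, 0], [4, 1, 5, 1], [4, 2, 5, 2], [4, 3, 5, 3], [6, 4, 6, 4], [6, 0, 6, 3], [6, 1, 6, 1], [6, 2, 6, 1, 2, 3, 2, 0, 2, 0], [0, 0], [1, 1], [2, 2], [3, 3], [6, 6], [0], [1], [2], [3]]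

theorem lo_words : ∀ r, r < 27 → loW r = loList.getD r [] := by decide +kernel

def tpList : List (List ℕ) := [[4, 4, 4], [0, 2, 0, 2, 0, 2, 0, 2, 0, 2], [1, 2, 1, 2, 1, 2], [0, 1, 2, 0, 1, 2, 0, 1, 2, 0, 1, 2, 0, 1, 2], [0, 1, 0, 1], [1, 3, 1, 3], [0, 3, 0, 3, 1], [2, 3, 2, 3, 2, 3], [0, 2, 1, 3, 2, 0, 2, 1, 3, 2, 0, 2, 1, 3, 2], [0, 1, 2, 3, 0, 1, 2, 3, 0, 1, 2, 3, 0, 1, 2, 3], [4, 0, 5, 0], [4, 1, 5, 1], [4, 2, 5, 2], [4, 3, 5, 3], [6, 0, 6, 0], [6, 1, 6, 1], [6, 3, 6, 3, 6, 3, 6, 3, 1], [4, 6, 4, 6, 4, 6], [6, 5, 6, 4, 6, 5, 6, 4], [1, 2, 0, 1, 2, 0, 2, 4, 4, 6, 5, 5, 2, 0, 2, 1, 0, 2, 1, 6], [7, 1, 7, 6], [7, 0, 7, 5, 6, 4, 6], [7, 4, 7, 1, 2, 0, 1, 2, 0, 2, 4, 4], [7, 3, 6, 3, 7, 3, 6, 3, 7, 3, 6, 3], [8, 4, 8, 4], [8, 0, 8, 3], [8, 1, 8, 1], [8, 2, 8, 1, 2, 3, 2, 0, 2, 0], [8, 6, 8, 6, 8, 6, 1], [5, 6, 4, 3, 6, 3, 5, 6, 4, 3, 6, 3, 0, 1], [2, 5, 6, 4, 7, 3, 6, 3, 7, 2, 5, 6, 4, 7, 3, 6, 3, 7], [2, 0, 7, 1, 3, 7, 3, 1,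 7, 0], [0, 0], [1, 1], [2, 2], [3, 3], [6, 6], [7, 7], [8, 8], [0], [1], [2], [3], [4], [8]]

theorem tp_words : ∀ r, r < 45 → tpW r = tpList.getD r [] := by decide +kernel

theorem lo_step : allR (stepChk 6 7 28 loE loS loW 23 27) 5 0 = true := by decide +kernel

theorem lo_row : allR (rowChk 6 7 28 loE loP loS loIv) 3 0 = true := by decide +kernel

theorem tp_step_all : ∀ m, m < 81873 → stepChk 23256 9 81873 tpE tpS tpW 39 45 m = true := by
  intro m hm
  refine all_of_blocks (d := 12) (B := 20) (fun j hj => ?_) m (by norm_num; omega)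
  interval_cases j
  exacts [tp_step0, tp_step1, tp_step2, tp_step3, tp_step4, tp_step5, tp_step6, tp_step7, tp_step8, tp_step9, tp_step10, tp_step11, tp_step12, tp_step13, tp_step14, tp_step15, tp_step16, tp_step17, tp_step18, tp_step19]

theorem tp_row_all : ∀ i, i < 23256 → rowChk 23256 9 81873 tpE tpP tpS tpIv i = true := by
  intro i hi
  refine all_of_blocks (d := 11) (B := 12) (fun j hj => ?_) i (by norm_num; omega)
  interval_cases j
  exacts [tp_row0, tp_row1, tp_row2, tp_row3, tp_row4, tp_row5, tp_row6, tp_row7, tp_row8, tp_row9, tp_row10, tp_row11]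

end CfsgLib.JThree.Enum

namespace CfsgLib.JThree

open CfsgLib.CosetEnum

/-- The group generated by such elements has order at most `50232960`. -/
theorem Gen.card_le {G : Type*} [Group G] {u z y a s t g b : G} (h : Gen u z y a s t g b) :
    Finite (Subgroup.closure ({u, z, y, a, s, t, g, b} : Set G)) ∧
      Nat.card (Subgroup.closure ({u, z, y, a, s, t, g, b} : Set G)) ≤ 50232960 := by
  obtain ⟨f4, c4⟩ := HallJanko.card_le_of_split h.uu h.zz h.yy h.aa h.uy h.zy h.uzy h.uz h.za h.uau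
    h.ya h.uyzay h.w4
  have r0 := h.sss
  have r1 := h.uy
  have r2 := h.zy
  have r3 := h.uzy
  have r4 := h.uz
  have r5 := h.za
  have r6 := h.uau
  have r7 := h.ya
  have r8 := h.uyzay
  have r9 := h.w4
  have r10 := h.su
  have r11 := h.sz
  have r12 := h.sy
  have r13 := h.sa
  have r14 := h.tu
  have r15 := h.tz
  have r16 := h.ta
  have r17 := h.st
  have r18 := h.tt2
  have r19 := h.rt
  have r20 := h.gz
  have r21 := h.gu
  have r22 := h.gs
  have r23 := h.gx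
  have r24 := h.bs
  have r25 := h.bu
  have r26 := h.bz
  have r27 := h.yb
  have r28 := h.bt
  have r29 := h.xt2
  have r30 := h.yv
  have r31 := h.yg
  simp only [pow_succ, pow_zero, one_mul, mul_assoc] at r0 r1 r2 r3 r4 r5 r6 r7 r8 r9 r10 r11 r12 r13 r14 r15 r16 r17 r18 r19 r20 r21 r22 r23 r24 r25 r26 r27 r28 r29 r30 r31
  -- the lower step
  obtain ⟨gl, hgl⟩ : ∃ gl : ℕ → G, gl = fun x => [u, z, y, a, s, s⁻¹, b].getD x 1 := ⟨_, rfl⟩
  have l0 : gl 0 = u := by rw [hgl]; rfl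
  have l1 : gl 1 = z := by rw [hgl]; rfl
  have l2 : gl 2 = y := by rw [hgl]; rfl
  have l3 : gl 3 = a := by rw [hgl]; rfl
  have l4 : gl 4 = s := by rw [hgl]; rfl
  have l5 : gl 5 = s⁻¹ := by rw [hgl]; rfl
  have l6 : gl 6 = b := by rw [hgl]; rfl
  haveI := f4
  obtain ⟨f6, c6⟩ := Enum.bound (g := gl) (H := Subgroup.closure ({u, z, y, a} : Set G))
    (n := 6) (k := 7) (ns := 28) (nR := 23) (nW := 27) (E := Enum.loE) (Par := Enum.loP)
    (S := Enum.loS) (iv := Enum.loIv) (wd := Enum.loW) (by norm_num) (by norm_num)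
    (fun x hx => by
      interval_cases x <;>
        simp only [Enum.loIv, List.getD_cons_succ, List.getD_cons_zero, l0, l1, l2, l3, l4, l5, l6,
          inv_inv, inv_eq_of_mul_eq_one_left h.uu, inv_eq_of_mul_eq_one_left h.zz,
          inv_eq_of_mul_eq_one_left h.yy, inv_eq_of_mul_eq_one_left h.aa,
          inv_eq_of_mul_eq_one_left h.bb])
    (fun r hr => by
      rw [Enum.lo_words r (by omega)]
      interval_cases r <;>
        simp only [Enum.loList, List.getD_cons_succ, List.getD_cons_zero, prodw_cons, prodw_nil,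
          mul_one, l0, l1, l2, l3, l4, l5, l6, r0, r1, r2, r3, r4, r5, r6, r7, r8, r9, r10, r11,
          r12, r13, r24, r25, r26, r27, h.uu, h.zz, h.yy, h.aa, h.bb])
    (fun r hr => by
      rw [Enum.lo_words r hr]
      interval_cases r <;>
        simp only [Enum.loList, List.getD_cons_succ, List.getD_cons_zero, prodw_cons, prodw_nil,
          mul_one, l0, l1, l2, l3, l4, l5, l6, r0, r1, r2, r3, r4, r5, r6, r7, r8, r9, r10, r11,
          r12, r13, r24, r25, r26, r27, h.uu, h.zz, h.yy, h.aa, h.bb, Subgroup.one_mem] <;>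
        exact Subgroup.subset_closure (by simp))
    (fun i hi => allR_spec 3 0 Enum.lo_row i (Nat.zero_le _) (by norm_num; omega))
    (fun m hm => allR_spec 5 0 Enum.lo_step m (Nat.zero_le _) (by norm_num; omega))
  -- the upper step
  obtain ⟨gt, hgt⟩ : ∃ gt : ℕ → G, gt = fun x => [u, z, y, a, s, s⁻¹, t, g, b].getD x 1 := ⟨_, rfl⟩
  have m0 : gt 0 = u := by rw [hgt]; rfl
  have m1 : gt 1 = z := by rw [hgt]; rfl
  have m2 : gt 2 = y := by rw [hgt]; rfl
  have m3 : gt 3 = a := by rw [hgt]; rfl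
  have m4 : gt 4 = s := by rw [hgt]; rfl
  have m5 : gt 5 = s⁻¹ := by rw [hgt]; rfl
  have m6 : gt 6 = t := by rw [hgt]; rfl
  have m7 : gt 7 = g := by rw [hgt]; rfl
  have m8 : gt 8 = b := by rw [hgt]; rfl
  haveI := f6
  obtain ⟨f9, c9⟩ := Enum.bound (g := gt) (H := Subgroup.closure (gl '' {x | x < 7}))
    (n := 23256) (k := 9) (ns := 81873) (nR := 39) (nW := 45) (E := Enum.tpE) (Par := Enum.tpP)
    (S := Enum.tpS) (iv := Enum.tpIv) (wd := Enum.tpW) (by norm_num) (by norm_num)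
    (fun x hx => by
      interval_cases x <;>
        simp only [Enum.tpIv, List.getD_cons_succ, List.getD_cons_zero, m0, m1, m2, m3, m4, m5, m6,
          m7, m8, inv_inv, inv_eq_of_mul_eq_one_left h.uu, inv_eq_of_mul_eq_one_left h.zz,
          inv_eq_of_mul_eq_one_left h.yy, inv_eq_of_mul_eq_one_left h.aa,
          inv_eq_of_mul_eq_one_left h.tt, inv_eq_of_mul_eq_one_left h.gg,
          inv_eq_of_mul_eq_one_left h.bb])
    (fun r hr => by
      rw [Enum.tp_words r (by omega)]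
      interval_cases r <;>
        simp only [Enum.tpList, List.getD_cons_succ, List.getD_cons_zero, prodw_cons, prodw_nil,
          mul_one, m0, m1, m2, m3, m4, m5, m6, m7, m8, r0, r1, r2, r3, r4, r5, r6, r7, r8, r9, r10,
          r11, r12, r13, r14, r15, r16, r17, r18, r19, r20, r21, r22, r23, r24, r25, r26, r27, r28,
          r29, r30, r31, h.uu, h.zz, h.yy, h.aa, h.tt, h.gg, h.bb])
    (fun r hr => by
      rw [Enum.tp_words r hr]
      interval_cases r <;>
        simp only [Enum.tpList, List.getD_cons_succ, List.getD_cons_zero, prodw_cons, prodw_nil,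
          mul_one, m0, m1, m2, m3, m4, m5, m6, m7, m8, r0, r1, r2, r3, r4, r5, r6, r7, r8, r9, r10,
          r11, r12, r13, r14, r15, r16, r17, r18, r19, r20, r21, r22, r23, r24, r25, r26, r27, r28,
          r29, r30, r31, h.uu, h.zz, h.yy, h.aa, h.tt, h.gg, h.bb, Subgroup.one_mem] <;>
        refine Subgroup.subset_closure ?_
      exacts [⟨0, (by norm_num : (0 : ℕ) < 7), l0⟩, ⟨1, (by norm_num : (1 : ℕ) < 7), l1⟩,
        ⟨2, (by norm_num : (2 : ℕ) < 7), l2⟩, ⟨3, (by norm_num : (3 : ℕ) < 7), l3⟩,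
        ⟨4, (by norm_num : (4 : ℕ) < 7), l4⟩, ⟨6, (by norm_num : (6 : ℕ) < 7), l6⟩])
    Enum.tp_row_all Enum.tp_step_all
  have himg : Subgroup.closure (gt '' {x | x < 9}) =
      Subgroup.closure ({u, z, y, a, s, t, g, b} : Set G) := by
    apply le_antisymm <;> rw [Subgroup.closure_le]
    · rintro x ⟨i, hi, rfl⟩
      have hi' : i < 9 := hi
      interval_cases i <;> simp only [m0, m1, m2, m3, m4, m5, m6, m7, m8, SetLike.mem_coe]
      all_goals first
        | (apply Subgroup.subset_closure; simp; done)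
        | (apply inv_mem; apply Subgroup.subset_closure; simp; done)
    · rintro x (rfl | rfl | rfl | rfl | rfl | rfl | rfl | rfl) <;> apply Subgroup.subset_closure
      exacts [⟨0, (by norm_num : (0 : ℕ) < 9), m0⟩, ⟨1, (by norm_num : (1 : ℕ) < 9), m1⟩,
        ⟨2, (by norm_num : (2 : ℕ) < 9), m2⟩, ⟨3, (by norm_num : (3 : ℕ) < 9), m3⟩,
        ⟨4, (by norm_num : (4 : ℕ) < 9), m4⟩, ⟨6, (by norm_num : (6 : ℕ) < 9), m6⟩,
        ⟨7, (by norm_num : (7 : ℕ) < 9), m7⟩, ⟨8, (by norm_num : (8 : ℕ) < 9), m8⟩]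
  rw [himg] at f9 c9
  refine ⟨f9, c9.trans ?_⟩
  calc 23256 * Nat.card (Subgroup.closure (gl '' {x | x < 7}))
      ≤ 23256 * (6 * 360) := Nat.mul_le_mul_left _ (c6.trans (Nat.mul_le_mul_left _ c4))
    _ = 50232960 := by norm_num

end CfsgLib.JThree
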